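import Mathlib
import Cfsg.Prelude.Def_Characters
import Cfsg.Agent.Lib.Helper3.Irr
import Cfsg.Agent.Lib.CT.FrobRec
import Cfsg.Agent.Lib.CT.Clifford
import Cfsg.Agent.Lib.CT.NormOne
import Cfsg.Agent.Lib.CT.IndChar
import Cfsg.Agent.Lib.CT.Ops

/-!
Clifford correspondence (Isaacs 6.11) in the Prelude model of characters: for `H` normal in `G`,
`θ` an irreducible character of `H` with inertia group `T`, induction from `T` to `G` maps the
irreducible characters of `T` lying over `θ` injectively to irreducible characters of `G`.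
-/

set_option autoImplicit false
set_option linter.style.haveILetI false
set_option linter.unusedSectionVars false

namespace Cfsg.Agent.Lib.Helper25.CliffordCorr

open Cfsg Cfsg.Agent.Lib.Helper3.Irr Cfsg.Agent.Lib.CT Cfsg.Agent.Lib.CT.FrobRec
open scoped ComplexConjugate

/-- the inner product is invariant under transport along a group isomorphism. -/
theorem classInner_comp_equiv {A B : Type*} [Group A] [Fintype A] [Group B] [Fintype B]
    (e : A ≃* B) (a b : B → ℂ) :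
    classInner (fun x => a (e x)) (fun x => b (e x)) = classInner a b := by
  unfold classInner
  rw [Nat.card_congr e.toEquiv]
  congr 1
  exact Fintype.sum_equiv e.toEquiv _ _ (fun x => rfl)

theorem classInner_ne_zero_symm {A : Type*} [Group A] [Fintype A] (a b : A → ℂ)
    (h : classInner a b ≠ 0) : classInner b a ≠ 0 := by
  intro h0
  apply h
  rw [← Cfsg.Agent.Lib.Helper3.Irr.classInner_conj_symm, h0, map_zero]

variable {G : Type*} [Group G] [Fintype G]

/-- restriction of an irreducible character of the inertia group `T` lying over the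
`T`-invariant character `θ` is a multiple of `θ` (Clifford). -/
theorem res_eq_smul (H T : Subgroup G) [Fintype H] [Fintype T] [hN : H.Normal] (hHT : H ≤ T)
    (θ : H → ℂ)
    (hθ : IsIrrCharacter H θ)
    (hT : ∀ g : G, g ∈ T → ∀ h : H, θ ⟨g * h * g⁻¹, hN.conj_mem h h.2 g⟩ = θ h)
    (ψ : T → ℂ) (hψ : IsIrrCharacter T ψ)
    (hc : classInner (fun h : H => ψ ⟨h, hHT h.2⟩) θ ≠ 0) :
    (fun h : H => ψ ⟨h, hHT h.2⟩) = classInner (fun h : H => ψ ⟨h, hHT h.2⟩) θ • θ := by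
  classical
  haveI : Fintype (H.subgroupOf T) := Fintype.ofFinite _
  haveI : Finite (IrrCharacter H) := finite_irrCharacter
  haveI : Fintype (IrrCharacter H) := Fintype.ofFinite _
  have hNn : (H.subgroupOf T).Normal := inferInstance
  -- every irreducible constituent of the restriction is θ
  have key : ∀ ξ : IrrCharacter H,
      classInner (fun h : H => ψ ⟨h, hHT h.2⟩) (ξ : H → ℂ) ≠ 0 → (ξ : H → ℂ) = θ := by
    intro ξ hξ
    have h1 : classInner (fun n : H.subgroupOf T => ψ n)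
        (fun n : H.subgroupOf T => θ (Subgroup.subgroupOfEquivOfLe hHT n)) ≠ 0 := by
      have := classInner_comp_equiv (Subgroup.subgroupOfEquivOfLe hHT)
        (fun h : H => ψ ⟨h, hHT h.2⟩) θ
      rw [← this] at hc
      exact hc
    have h2 : classInner (fun n : H.subgroupOf T => ψ n)
        (fun n : H.subgroupOf T => (ξ : H → ℂ) (Subgroup.subgroupOfEquivOfLe hHT n)) ≠ 0 := by
      have := classInner_comp_equiv (Subgroup.subgroupOfEquivOfLe hHT)
        (fun h : H => ψ ⟨h, hHT h.2⟩) (ξ : H → ℂ)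
      rw [← this] at hξ
      exact hξ
    obtain ⟨t, ht⟩ := Clifford.exists_conj_of_constituent (H.subgroupOf T) hNn hψ
      (Ops.isIrrCharacter_comp_mulEquiv (Subgroup.subgroupOfEquivOfLe hHT) hθ)
      (Ops.isIrrCharacter_comp_mulEquiv (Subgroup.subgroupOfEquivOfLe hHT) ξ.2) h1 h2
    funext h
    obtain ⟨n, rfl⟩ := (Subgroup.subgroupOfEquivOfLe hHT).surjective h
    have h3 := congrFun ht n
    rw [Clifford.conjFun_apply] at h3
    rw [h3]
    have h4 := hT (t : G) t.2 (Subgroup.subgroupOfEquivOfLe hHT n)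
    rw [← h4]
    congr 1
  have hchar : IsCharacter H (fun h : H => ψ ⟨h, hHT h.2⟩) :=
    Ops.isCharacter_comp_hom (Subgroup.inclusion hHT) (IsIrrCharacter.isCharacter hψ)
  obtain ⟨m, hm, hexp⟩ := NormOne.exists_mult_sum hchar
  have hexp' := hexp
  rw [Finset.sum_eq_single (⟨θ, hθ⟩ : IrrCharacter H)] at hexp'
  · rw [← hm ⟨θ, hθ⟩] at hexp'
    exact hexp'
  · intro ξ _ hne
    have : (m ξ : ℂ) = 0 := by
      by_contra h0
      apply hne
      apply Subtype.ext
      apply key ξ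
      rw [hm ξ]; exact h0
    rw [this, zero_smul]
  · intro h; exact absurd (Finset.mem_univ _) h

/-- on `H`, the function induced from `ψ` on the inertia group `T`, when `ψ` restricts to
`c • θ`: its inner product with `θ` is `c`. -/
theorem inner_ind_res (H T : Subgroup G) [Fintype H] [Fintype T] [hN : H.Normal] (hHT : H ≤ T)
    (θ : H → ℂ) (hθ : IsIrrCharacter H θ)
    (hT : ∀ g : G, g ∈ T ↔ ∀ h : H, θ ⟨g * h * g⁻¹, hN.conj_mem h h.2 g⟩ = θ h)
    (ψ : T → ℂ) (c : ℂ) (hres : (fun h : H => ψ ⟨h, hHT h.2⟩) = c • θ) :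
    classInner (fun h : H => indFun T ψ (h : G)) θ = c := by
  classical
  have hD : (fun h : H => indFun T ψ (h : G)) =
      (c * (Nat.card T : ℂ)⁻¹) • ∑ x : G, Clifford.conjFun H hN θ x⁻¹ := by
    funext h
    rw [indFun_apply]
    simp only [Pi.smul_apply, Finset.sum_apply, smul_eq_mul]
    have e : ∀ x : G, extendByZero T ψ (x⁻¹ * (h : G) * x) =
        c * Clifford.conjFun H hN θ x⁻¹ h := by
      intro x
      have hx : x⁻¹ * (h : G) * x ∈ H := by
        have := hN.conj_mem h h.2 x⁻¹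
        rwa [inv_inv] at this
      rw [extendByZero_apply_of_mem T ψ (hHT hx)]
      have h1 := congrFun hres ⟨x⁻¹ * (h : G) * x, hx⟩
      simp only [Pi.smul_apply, smul_eq_mul] at h1
      rw [h1, Clifford.conjFun_apply]
      congr 2
      apply Subtype.ext
      simp
    rw [Finset.sum_congr rfl (fun x _ => e x), ← Finset.mul_sum]
    ring
  rw [hD, classInner_smul_left, classInner_sum_left]
  have hterm : ∀ x : G, classInner (Clifford.conjFun H hN θ x⁻¹) θ = if x ∈ T then 1 else 0 := by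
    intro x
    have h2 := irr_orthonormal (⟨Clifford.conjFun H hN θ x⁻¹,
      Clifford.isIrrCharacter_conjFun H hN hθ x⁻¹⟩ : IrrCharacter H) ⟨θ, hθ⟩
    rw [h2]
    have h3 : ((⟨Clifford.conjFun H hN θ x⁻¹,
        Clifford.isIrrCharacter_conjFun H hN hθ x⁻¹⟩ : IrrCharacter H) = ⟨θ, hθ⟩) ↔ x ∈ T := by
      rw [Subtype.mk.injEq, ← inv_mem_iff (x := x), hT x⁻¹]
      constructor
      · intro h' h; exact congrFun h' h
      · intro h'; funext h; exact h' h
    by_cases hx : x ∈ T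
    · rw [if_pos hx, if_pos (h3.2 hx)]
    · rw [if_neg hx, if_neg (fun h' => hx (h3.1 h'))]
  simp_rw [hterm]
  rw [Finset.sum_boole]
  have hcard : ((Finset.univ.filter (fun x : G => x ∈ T)).card : ℂ) = (Nat.card T : ℂ) := by
    congr 1
    rw [Nat.card_eq_fintype_card, ← Fintype.card_subtype]
  rw [hcard]
  have hT0 : (Nat.card T : ℂ) ≠ 0 := Nat.cast_ne_zero.mpr Nat.card_pos.ne'
  field_simp

/-- Clifford correspondence, the numerical core: multiplicity matrices `M χ ξ = ⟨ξ^G, χ⟩` and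
`k ξ = ⟨ξ_H, θ⟩` with `k ξ = ∑ χ, M χ ξ * ∑ ξ', M χ ξ' * k ξ'` whenever `k ξ ≠ 0`. -/
theorem corr_core (H T : Subgroup G) [Fintype H] [Fintype T] [hN : H.Normal] (hHT : H ≤ T)
    [Fintype (IrrCharacter G)] [Fintype (IrrCharacter T)]
    (θ : H → ℂ) (hθ : IsIrrCharacter H θ)
    (hT : ∀ g : G, g ∈ T ↔ ∀ h : H, θ ⟨g * h * g⁻¹, hN.conj_mem h h.2 g⟩ = θ h) :
    ∃ (M : IrrCharacter G → IrrCharacter T → ℕ) (k : IrrCharacter T → ℕ),
      (∀ ξ : IrrCharacter T, classInner (fun h : H => (ξ : T → ℂ) ⟨h, hHT h.2⟩) θ = k ξ) ∧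
      (∀ (ξ : IrrCharacter T) (χ : IrrCharacter G),
        classInner (indFun T (ξ : T → ℂ)) (χ : G → ℂ) = M χ ξ) ∧
      (∀ ξ : IrrCharacter T,
        indFun T (ξ : T → ℂ) = ∑ χ : IrrCharacter G, (M χ ξ : ℂ) • (χ : G → ℂ)) ∧
      (∀ ξ : IrrCharacter T, k ξ ≠ 0 →
        k ξ = ∑ χ : IrrCharacter G, M χ ξ * ∑ ξ' : IrrCharacter T, M χ ξ' * k ξ') := by
  classical
  have hθc := IsIrrCharacter.isCharacter hθ
  have hresc : ∀ ξ : IrrCharacter T, IsCharacter H (fun h : H => (ξ : T → ℂ) ⟨h, hHT h.2⟩) :=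
    fun ξ => Ops.isCharacter_comp_hom (Subgroup.inclusion hHT) (IsIrrCharacter.isCharacter ξ.2)
  choose k hk using fun ξ : IrrCharacter T => Clifford.classInner_char_nat (hresc ξ) hθc
  have hχT : ∀ χ : IrrCharacter G, IsCharacter T (fun t : T => (χ : G → ℂ) t) :=
    fun χ => Ops.isCharacter_restrict T (IsIrrCharacter.isCharacter χ.2)
  choose M hM hMexp using fun χ : IrrCharacter G => NormOne.exists_mult_sum (hχT χ)
  have hS3 : ∀ (ξ : IrrCharacter T) (χ : IrrCharacter G),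
      classInner (indFun T (ξ : T → ℂ)) (χ : G → ℂ) = M χ ξ := by
    intro ξ χ
    rw [frobenius_reciprocity T (ξ : T → ℂ) (χ : G → ℂ) (IsIrrCharacter.isClassFunction χ.2),
      ← Cfsg.Agent.Lib.Helper3.Irr.classInner_conj_symm, hM χ ξ, Complex.conj_natCast]
  have hdec : ∀ ξ : IrrCharacter T,
      indFun T (ξ : T → ℂ) = ∑ χ : IrrCharacter G, (M χ ξ : ℂ) • (χ : G → ℂ) := by
    intro ξ
    obtain ⟨a, ha, hexp⟩ := NormOne.exists_mult_sum
      (IndChar.isCharacter_indFun T (ξ : T → ℂ) (IsIrrCharacter.isCharacter ξ.2))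
    rw [hexp]
    apply Finset.sum_congr rfl
    intro χ _
    have : (a χ : ℂ) = (M χ ξ : ℂ) := by rw [← ha χ, hS3 ξ χ]
    rw [this]
  have hS2 : ∀ χ : IrrCharacter G, classInner (fun h : H => (χ : G → ℂ) h) θ =
      ((∑ ξ' : IrrCharacter T, M χ ξ' * k ξ' : ℕ) : ℂ) := by
    intro χ
    have h1 : (fun h : H => (χ : G → ℂ) h) =
        ∑ ξ' : IrrCharacter T, (M χ ξ' : ℂ) • (fun h : H => (ξ' : T → ℂ) ⟨h, hHT h.2⟩) := by
      funext h
      have h2 := congrFun (hMexp χ) ⟨h, hHT h.2⟩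
      simp only [Finset.sum_apply, Pi.smul_apply, smul_eq_mul] at h2 ⊢
      exact h2
    rw [h1, classInner_sum_left]
    push_cast
    apply Finset.sum_congr rfl
    intro ξ' _
    rw [classInner_smul_left, hk ξ']
  refine ⟨M, k, hk, hS3, hdec, ?_⟩
  intro ξ hξ
  have hres := res_eq_smul H T hHT θ hθ (fun g hg => (hT g).1 hg) (ξ : T → ℂ) ξ.2
    (by rw [hk ξ]; exact_mod_cast hξ)
  rw [hk ξ] at hres
  have h3 := inner_ind_res H T hHT θ hθ hT (ξ : T → ℂ) (k ξ : ℂ) hres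
  have h4 : (fun h : H => indFun T (ξ : T → ℂ) (h : G)) =
      ∑ χ : IrrCharacter G, (M χ ξ : ℂ) • (fun h : H => (χ : G → ℂ) h) := by
    funext h
    have h5 := congrFun (hdec ξ) (h : G)
    simp only [Finset.sum_apply, Pi.smul_apply, smul_eq_mul] at h5 ⊢
    exact h5
  rw [h4, classInner_sum_left] at h3
  have h6 : ((∑ χ : IrrCharacter G, M χ ξ * ∑ ξ' : IrrCharacter T, M χ ξ' * k ξ' : ℕ) : ℂ) =
      (k ξ : ℂ) := by
    rw [← h3]
    push_cast
    apply Finset.sum_congr rfl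
    intro χ _
    rw [classInner_smul_left, hS2 χ]
    push_cast
    rfl
  exact_mod_cast h6.symm

/-- **Clifford correspondence**: induction from the inertia group `T` sends irreducible
characters of `T` lying over `θ` to irreducible characters of `G`, injectively. -/
theorem ind_irr_inj (H T : Subgroup G) [Fintype H] [Fintype T] [hN : H.Normal] (hHT : H ≤ T)
    (θ : H → ℂ) (hθ : IsIrrCharacter H θ)
    (hT : ∀ g : G, g ∈ T ↔ ∀ h : H, θ ⟨g * h * g⁻¹, hN.conj_mem h h.2 g⟩ = θ h) :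
    (∀ ψ : T → ℂ, IsIrrCharacter T ψ → classInner (fun h : H => ψ ⟨h, hHT h.2⟩) θ ≠ 0 →
      IsIrrCharacter G (indFun T ψ)) ∧
    (∀ ψ ψ' : T → ℂ, IsIrrCharacter T ψ → IsIrrCharacter T ψ' →
      classInner (fun h : H => ψ ⟨h, hHT h.2⟩) θ ≠ 0 →
      classInner (fun h : H => ψ' ⟨h, hHT h.2⟩) θ ≠ 0 → indFun T ψ = indFun T ψ' → ψ = ψ') := by
  classical
  haveI : Finite (IrrCharacter G) := finite_irrCharacter
  haveI : Fintype (IrrCharacter G) := Fintype.ofFinite _
  haveI : Finite (IrrCharacter T) := finite_irrCharacter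
  haveI : Fintype (IrrCharacter T) := Fintype.ofFinite _
  obtain ⟨M, k, hk, hS3, hdec, hkey⟩ := corr_core H T hHT θ hθ hT
  have hsq : ∀ ξ : IrrCharacter T, k ξ ≠ 0 → ∑ χ : IrrCharacter G, M χ ξ * M χ ξ = 1 := by
    intro ξ hξ
    have h1 := hkey ξ hξ
    have h2 : (∑ χ : IrrCharacter G, M χ ξ * M χ ξ) * k ξ ≤ k ξ := by
      calc (∑ χ : IrrCharacter G, M χ ξ * M χ ξ) * k ξ
          = ∑ χ : IrrCharacter G, M χ ξ * (M χ ξ * k ξ) := by
            rw [Finset.sum_mul]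
            apply Finset.sum_congr rfl
            intro χ _
            ring
        _ ≤ ∑ χ : IrrCharacter G, M χ ξ * ∑ ξ' : IrrCharacter T, M χ ξ' * k ξ' :=
            Finset.sum_le_sum (fun χ _ => Nat.mul_le_mul_left _
              (Finset.single_le_sum (f := fun ξ' => M χ ξ' * k ξ') (fun i _ => Nat.zero_le _)
                (Finset.mem_univ ξ)))
        _ = k ξ := h1.symm
    have h3 : ∑ χ : IrrCharacter G, M χ ξ * M χ ξ ≤ 1 := by
      by_contra hcon
      have hcon' : 2 ≤ ∑ χ : IrrCharacter G, M χ ξ * M χ ξ := by omega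
      have : 2 * k ξ ≤ k ξ := le_trans (Nat.mul_le_mul_right _ hcon') h2
      omega
    have h4 : ∑ χ : IrrCharacter G, M χ ξ * M χ ξ ≠ 0 := by
      intro h0
      have h5 : ∀ χ : IrrCharacter G, M χ ξ = 0 := by
        intro χ
        have := (Finset.sum_eq_zero_iff.mp h0) χ (Finset.mem_univ χ)
        exact mul_self_eq_zero.mp this
      apply hξ
      rw [h1]
      apply Finset.sum_eq_zero
      intro χ _
      rw [h5 χ, zero_mul]
    omega
  have hkne : ∀ (ψ : T → ℂ) (hψ : IsIrrCharacter T ψ),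
      classInner (fun h : H => ψ ⟨h, hHT h.2⟩) θ ≠ 0 → k ⟨ψ, hψ⟩ ≠ 0 := by
    intro ψ hψ hc h0
    apply hc
    have := hk ⟨ψ, hψ⟩
    rw [h0] at this
    simpa using this
  constructor
  · intro ψ hψ hc
    have hkψ := hkne ψ hψ hc
    have h1 := NormOne.classInner_self_eq_sum (fun χ => M χ ⟨ψ, hψ⟩) (fun χ => hS3 ⟨ψ, hψ⟩ χ)
      (hdec ⟨ψ, hψ⟩)
    rw [hsq _ hkψ] at h1
    exact NormOne.irr_of_inner_self_eq_one
      (IndChar.isCharacter_indFun T ψ (IsIrrCharacter.isCharacter hψ)) (by simpa using h1)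
  · intro ψ ψ' hψ hψ' hc hc' heq
    by_contra hne
    have hkψ := hkne ψ hψ hc
    have hkψ' := hkne ψ' hψ' hc'
    have hne' : (⟨ψ, hψ⟩ : IrrCharacter T) ≠ ⟨ψ', hψ'⟩ := fun h => hne (congrArg Subtype.val h)
    have hMeq : ∀ χ : IrrCharacter G, M χ ⟨ψ, hψ⟩ = M χ ⟨ψ', hψ'⟩ := by
      intro χ
      have h1 := hS3 ⟨ψ, hψ⟩ χ
      have h2 := hS3 ⟨ψ', hψ'⟩ χ
      simp only at h1 h2
      rw [heq] at h1
      rw [h1] at h2
      exact_mod_cast h2
    have h1 := hkey ⟨ψ, hψ⟩ hkψ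
    have h2 : (∑ χ : IrrCharacter G, M χ ⟨ψ, hψ⟩ * M χ ⟨ψ, hψ⟩) * (k ⟨ψ, hψ⟩ + k ⟨ψ', hψ'⟩) ≤
        k ⟨ψ, hψ⟩ := by
      calc (∑ χ : IrrCharacter G, M χ ⟨ψ, hψ⟩ * M χ ⟨ψ, hψ⟩) * (k ⟨ψ, hψ⟩ + k ⟨ψ', hψ'⟩)
          = ∑ χ : IrrCharacter G, M χ ⟨ψ, hψ⟩ *
              (M χ ⟨ψ, hψ⟩ * k ⟨ψ, hψ⟩ + M χ ⟨ψ', hψ'⟩ * k ⟨ψ', hψ'⟩) := by
            rw [Finset.sum_mul]
            apply Finset.sum_congr rfl
            intro χ _
            rw [← hMeq χ]
            ring
        _ ≤ ∑ χ : IrrCharacter G, M χ ⟨ψ, hψ⟩ * ∑ ξ' : IrrCharacter T, M χ ξ' * k ξ' :=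
            Finset.sum_le_sum (fun χ _ => Nat.mul_le_mul_left _ (by
              rw [← Finset.sum_pair (f := fun ξ' => M χ ξ' * k ξ') hne']
              exact Finset.sum_le_sum_of_subset (Finset.subset_univ _)))
        _ = k ⟨ψ, hψ⟩ := h1.symm
    rw [hsq _ hkψ, one_mul] at h2
    omega

end Cfsg.Agent.Lib.Helper25.CliffordCorr
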