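import Mathlib
import Cfsg.Prelude.Def_Characters
import Cfsg.Agent.Lib.Helper25.CliffordCorr
import Cfsg.Agent.Lib.CT.LinChar

/-!
More on the Clifford correspondence: the decomposition of `θ^G` through the inertia group, and
the case of an abelian inertia quotient (all ramification indices are equal).
-/

set_option autoImplicit false
set_option linter.style.haveILetI false
set_option linter.unusedSectionVars false

namespace Cfsg.Agent.Lib.Helper25.CliffordCorr2

open Cfsg Cfsg.Agent.Lib.Helper3.Irr Cfsg.Agent.Lib.CT Cfsg.Agent.Lib.CT.FrobRec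
open Cfsg.Agent.Lib.Helper25.CliffordCorr
open scoped ComplexConjugate

open Classical in
/-- orthogonality for the dual group of a finite abelian group. -/
theorem sum_hom_apply {A : Type*} [CommGroup A] [Finite A] [Fintype (A →* ℂˣ)] (a : A) :
    ∑ f : A →* ℂˣ, ((f a : ℂˣ) : ℂ) = if a = 1 then (Nat.card A : ℂ) else 0 := by
  haveI : NeZero (Monoid.exponent A) := ⟨Monoid.exponent_ne_zero_of_finite⟩
  haveI : NeZero ((Monoid.exponent A : ℕ) : ℂ) := ⟨Nat.cast_ne_zero.mpr (NeZero.ne _)⟩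
  split_ifs with h
  · subst h
    simp only [map_one, Units.val_one, Finset.sum_const, Finset.card_univ, nsmul_eq_mul, mul_one]
    rw [← Nat.card_eq_fintype_card, CommGroup.card_monoidHom_of_hasEnoughRootsOfUnity A ℂ]
  · obtain ⟨f₀, hf₀⟩ := CommGroup.exists_apply_ne_one_of_hasEnoughRootsOfUnity A ℂ h
    have h1 : ∑ f : A →* ℂˣ, ((f a : ℂˣ) : ℂ) =
        ((f₀ a : ℂˣ) : ℂ) * ∑ f : A →* ℂˣ, ((f a : ℂˣ) : ℂ) := by
      rw [Finset.mul_sum]
      refine (Fintype.sum_equiv (Equiv.mulLeft f₀) _ _ (fun f => ?_)).symm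
      simp
    have h2 : ((f₀ a : ℂˣ) : ℂ) ≠ 1 := fun h' => hf₀ (Units.ext h')
    have h3 : (((f₀ a : ℂˣ) : ℂ) - 1) * ∑ f : A →* ℂˣ, ((f a : ℂˣ) : ℂ) = 0 := by
      linear_combination -h1
    rcases mul_eq_zero.mp h3 with h4 | h4
    · exact absurd (sub_eq_zero.mp h4) h2
    · exact h4

theorem finite_hom {A : Type*} [CommGroup A] [Finite A] : Finite (A →* ℂˣ) := by
  haveI : NeZero (Monoid.exponent A) := ⟨Monoid.exponent_ne_zero_of_finite⟩
  haveI : NeZero ((Monoid.exponent A : ℕ) : ℂ) := ⟨Nat.cast_ne_zero.mpr (NeZero.ne _)⟩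
  apply Nat.finite_of_card_ne_zero
  rw [CommGroup.card_monoidHom_of_hasEnoughRootsOfUnity A ℂ]
  exact Nat.card_pos.ne'

variable {G : Type*} [Group G] [Fintype G]

/-- Gallagher-type lemma: if `T/H` is abelian and the restrictions to `H` of two irreducible
characters of `T` are not orthogonal, then they differ by a linear character of `T/H`. -/
theorem exists_twist (H T : Subgroup G) [Fintype H] [Fintype T] [hN : H.Normal] (hHT : H ≤ T)
    (hab : ∀ x ∈ T, ∀ y ∈ T, x * y * x⁻¹ * y⁻¹ ∈ H)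
    (ξ ξ' : T → ℂ) (hξ : IsIrrCharacter T ξ) (hξ' : IsIrrCharacter T ξ')
    (hne : classInner (fun h : H => ξ ⟨h, hHT h.2⟩) (fun h : H => ξ' ⟨h, hHT h.2⟩) ≠ 0) :
    ∃ f : T →* ℂˣ, (∀ t : T, (t : G) ∈ H → f t = 1) ∧
      ξ' = fun t => ((f t : ℂˣ) : ℂ) * ξ t := by
  classical
  letI : CommGroup (↥T ⧸ H.subgroupOf T) :=
    { (inferInstance : Group (↥T ⧸ H.subgroupOf T)) with
      mul_comm := by
        intro a b
        induction a using QuotientGroup.induction_on with
        | H x =>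
          induction b using QuotientGroup.induction_on with
          | H y =>
            rw [← QuotientGroup.mk_mul, ← QuotientGroup.mk_mul, QuotientGroup.eq,
              Subgroup.mem_subgroupOf]
            have := hab (y⁻¹ : T) (T.inv_mem y.2) (x⁻¹ : T) (T.inv_mem x.2)
            simpa [mul_assoc] using this }
  haveI : Finite ((↥T ⧸ H.subgroupOf T) →* ℂˣ) := finite_hom
  haveI : Fintype ((↥T ⧸ H.subgroupOf T) →* ℂˣ) := Fintype.ofFinite _
  by_contra hcon
  push Not at hcon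
  have h0 : ∀ l : (↥T ⧸ H.subgroupOf T) →* ℂˣ,
      classInner (fun t : T => ((l (QuotientGroup.mk t) : ℂˣ) : ℂ) * ξ t) ξ' = 0 := by
    intro l
    have hirr : IsIrrCharacter T (fun t : T => ((l (QuotientGroup.mk t) : ℂˣ) : ℂ) * ξ t) :=
      LinChar.isIrrCharacter_linear_mul
        (μ := fun t : T => (((l.comp (QuotientGroup.mk' (H.subgroupOf T))) t : ℂˣ) : ℂ))
        (LinChar.isCharacter_of_hom _) (by simp) hξ
    have hne' : (⟨_, hirr⟩ : IrrCharacter T) ≠ ⟨ξ', hξ'⟩ := by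
      intro h
      have h' := congrArg Subtype.val h
      refine hcon (l.comp (QuotientGroup.mk' (H.subgroupOf T))) (fun t ht => ?_) h'.symm
      have : (QuotientGroup.mk' (H.subgroupOf T)) t = 1 :=
        (QuotientGroup.eq_one_iff t).mpr (Subgroup.mem_subgroupOf.mpr ht)
      rw [MonoidHom.comp_apply, this, map_one]
    exact irr_inner_ne hne'
  have hcard : (Nat.card T : ℂ) = (Nat.card H : ℂ) * (Nat.card (↥T ⧸ H.subgroupOf T) : ℂ) := by
    rw [← Nat.cast_mul, ← Subgroup.index_eq_card,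
      ← Nat.card_congr (Subgroup.subgroupOfEquivOfLe hHT).toEquiv, Subgroup.card_mul_index]
  have hsum : ∑ l : (↥T ⧸ H.subgroupOf T) →* ℂˣ,
      classInner (fun t : T => ((l (QuotientGroup.mk t) : ℂˣ) : ℂ) * ξ t) ξ' =
      classInner (fun h : H => ξ ⟨h, hHT h.2⟩) (fun h : H => ξ' ⟨h, hHT h.2⟩) := by
    unfold classInner
    rw [← Finset.mul_sum, Finset.sum_comm]
    have e1 : ∀ t : T, ∑ l : (↥T ⧸ H.subgroupOf T) →* ℂˣ,
        ((l (QuotientGroup.mk t) : ℂˣ) : ℂ) * ξ t * conj (ξ' t) =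
        if t ∈ H.subgroupOf T then
          (Nat.card (↥T ⧸ H.subgroupOf T) : ℂ) * (ξ t * conj (ξ' t)) else 0 := by
      intro t
      rw [← Finset.sum_mul, ← Finset.sum_mul, sum_hom_apply, mul_assoc]
      simp only [QuotientGroup.eq_one_iff]
      split_ifs <;> simp
    simp_rw [e1]
    rw [← Finset.sum_filter, Finset.sum_subtype (p := fun t : T => t ∈ H.subgroupOf T)
      (Finset.univ.filter (fun t : T => t ∈ H.subgroupOf T)) (by simp)]
    have e2 : ∑ x : {t : T // t ∈ H.subgroupOf T},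
        (Nat.card (↥T ⧸ H.subgroupOf T) : ℂ) * (ξ x * conj (ξ' x)) =
        ∑ h : H, (Nat.card (↥T ⧸ H.subgroupOf T) : ℂ) *
          (ξ ⟨h, hHT h.2⟩ * conj (ξ' ⟨h, hHT h.2⟩)) :=
      Fintype.sum_equiv (Subgroup.subgroupOfEquivOfLe hHT).toEquiv _ _ (fun x => rfl)
    rw [e2, ← Finset.mul_sum, hcard]
    have hH0 : (Nat.card H : ℂ) ≠ 0 := Nat.cast_ne_zero.mpr Nat.card_pos.ne'
    have hQ0 : (Nat.card (↥T ⧸ H.subgroupOf T) : ℂ) ≠ 0 := Nat.cast_ne_zero.mpr Nat.card_pos.ne'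
    field_simp
  apply hne
  rw [← hsum]
  exact Finset.sum_eq_zero (fun l _ => h0 l)

/-- if `T/H` is abelian, all irreducible characters of `T` lying over `θ` have the same
ramification. -/
theorem ram_eq_of_abelian (H T : Subgroup G) [Fintype H] [Fintype T] [hN : H.Normal]
    (hHT : H ≤ T) (hab : ∀ x ∈ T, ∀ y ∈ T, x * y * x⁻¹ * y⁻¹ ∈ H)
    (θ : H → ℂ) (hθ : IsIrrCharacter H θ)
    (ξ ξ' : T → ℂ) (hξ : IsIrrCharacter T ξ) (hξ' : IsIrrCharacter T ξ') (c c' : ℂ)
    (hc : c ≠ 0) (hc' : c' ≠ 0)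
    (hres : (fun h : H => ξ ⟨h, hHT h.2⟩) = c • θ)
    (hres' : (fun h : H => ξ' ⟨h, hHT h.2⟩) = c' • θ) : c = c' := by
  have hne : classInner (fun h : H => ξ ⟨h, hHT h.2⟩) (fun h : H => ξ' ⟨h, hHT h.2⟩) ≠ 0 := by
    rw [hres, hres', classInner_smul_left, classInner_smul_right, irr_inner_self ⟨θ, hθ⟩,
      mul_one]
    exact mul_ne_zero hc ((map_ne_zero _).mpr hc')
  obtain ⟨f, hf1, hf2⟩ := exists_twist H T hHT hab ξ ξ' hξ hξ' hne
  have h1 := congrFun hres (1 : H)
  have h2 := congrFun hres' (1 : H)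
  simp only [Pi.smul_apply, smul_eq_mul] at h1 h2
  have h3 : ξ' ⟨((1 : H) : G), hHT (1 : H).2⟩ = ξ ⟨((1 : H) : G), hHT (1 : H).2⟩ := by
    rw [hf2]
    simp only
    rw [hf1 _ (1 : H).2]
    simp
  rw [h3, h1] at h2
  have hθ1 := IsIrrCharacter.apply_one_ne_zero hθ
  exact mul_right_cancel₀ hθ1 h2

/-- transitivity of induction, in character-theoretic form: for a character `θ` of `H ≤ T`,
`θ^G = ∑ ξ ∈ Irr T, ⟨ξ_H, θ⟩ ξ^G`. -/
theorem ind_decomp (H T : Subgroup G) [Fintype H] [Fintype T] (hHT : H ≤ T)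
    [Fintype (IrrCharacter T)] (θ : H → ℂ) (hθ : IsCharacter H θ) :
    indFun H θ = ∑ ξ : IrrCharacter T,
      classInner (fun h : H => (ξ : T → ℂ) ⟨h, hHT h.2⟩) θ • indFun T (ξ : T → ℂ) := by
  classical
  haveI : Finite (IrrCharacter G) := finite_irrCharacter
  haveI : Fintype (IrrCharacter G) := Fintype.ofFinite _
  have hL : IsClassFunction G (indFun H θ) := indFun_isClassFunction H θ
  have hR : IsClassFunction G (∑ ξ : IrrCharacter T,
      classInner (fun h : H => (ξ : T → ℂ) ⟨h, hHT h.2⟩) θ • indFun T (ξ : T → ℂ)) :=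
    Orth.isClassFunction_sum _ _
      (fun ξ _ => Orth.isClassFunction_smul _ (indFun_isClassFunction T _))
  funext g
  rw [Orth.classFunction_expand_sum _ hL g, Orth.classFunction_expand_sum _ hR g]
  apply Finset.sum_congr rfl
  intro χ _
  congr 1
  have hχT : IsCharacter T (fun t : T => (χ : G → ℂ) t) :=
    Ops.isCharacter_restrict T (IsIrrCharacter.isCharacter χ.2)
  obtain ⟨m, hm, hmexp⟩ := NormOne.exists_mult_sum hχT
  have hresc : ∀ ξ : IrrCharacter T, IsCharacter H (fun h : H => (ξ : T → ℂ) ⟨h, hHT h.2⟩) :=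
    fun ξ => Ops.isCharacter_comp_hom (Subgroup.inclusion hHT) (IsIrrCharacter.isCharacter ξ.2)
  choose k hk using fun ξ : IrrCharacter T => Clifford.classInner_char_nat (hresc ξ) hθ
  have h1 : classInner (indFun H θ) (χ : G → ℂ) =
      ∑ ξ : IrrCharacter T, (m ξ : ℂ) * (k ξ : ℂ) := by
    rw [frobenius_reciprocity H θ (χ : G → ℂ) (IsIrrCharacter.isClassFunction χ.2),
      ← Cfsg.Agent.Lib.Helper3.Irr.classInner_conj_symm]
    have h2 : (fun h : H => (χ : G → ℂ) h) =
        ∑ ξ : IrrCharacter T, (m ξ : ℂ) • (fun h : H => (ξ : T → ℂ) ⟨h, hHT h.2⟩) := by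
      funext h
      have h3 := congrFun hmexp ⟨h, hHT h.2⟩
      simp only [Finset.sum_apply, Pi.smul_apply, smul_eq_mul] at h3 ⊢
      exact h3
    rw [h2, classInner_sum_left, map_sum]
    apply Finset.sum_congr rfl
    intro ξ _
    rw [classInner_smul_left, hk ξ, map_mul, Complex.conj_natCast, Complex.conj_natCast]
  have h3 : classInner (∑ ξ : IrrCharacter T,
      classInner (fun h : H => (ξ : T → ℂ) ⟨h, hHT h.2⟩) θ • indFun T (ξ : T → ℂ))
        (χ : G → ℂ) = ∑ ξ : IrrCharacter T, (m ξ : ℂ) * (k ξ : ℂ) := by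
    rw [classInner_sum_left]
    apply Finset.sum_congr rfl
    intro ξ _
    rw [classInner_smul_left, hk ξ,
      frobenius_reciprocity T (ξ : T → ℂ) (χ : G → ℂ) (IsIrrCharacter.isClassFunction χ.2),
      ← Cfsg.Agent.Lib.Helper3.Irr.classInner_conj_symm, hm ξ, Complex.conj_natCast, mul_comm]
  rw [h1, h3]

end Cfsg.Agent.Lib.Helper25.CliffordCorr2
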