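import Mathlib
import Cfsg.Prelude.Def_Characters
import Cfsg.Agent.Lib.Helper25.CliffordCorr2
import Cfsg.Agent.S1507

/-!
Linear characters of an internal direct product `W₁ ⊔ W₂` of two commuting subgroups with
trivial intersection: parametrisation by pairs of characters, and orthogonality sums.
-/

set_option autoImplicit false
set_option linter.style.haveILetI false
set_option linter.unusedSectionVars false

namespace Cfsg.Agent.Lib.Helper25.CyclicTI

open Cfsg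

open Classical in
/-- orthogonality for the dual of a subgroup whose elements commute. -/
theorem sum_hom_sub {G : Type*} [Group G] [Finite G] (K : Subgroup G)
    (hK : ∀ a ∈ K, ∀ b ∈ K, a * b = b * a) [Fintype (↥K →* ℂˣ)] (a : K) :
    ∑ f : ↥K →* ℂˣ, ((f a : ℂˣ) : ℂ) = if a = 1 then (Nat.card K : ℂ) else 0 := by
  letI : CommGroup ↥K :=
    { (inferInstance : Group ↥K) with mul_comm := fun a b => Subtype.ext (hK a a.2 b b.2) }
  rw [Cfsg.Agent.Lib.Helper25.CliffordCorr2.sum_hom_apply a]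
  by_cases h : a = 1
  · rw [if_pos h, if_pos h]
  · rw [if_neg h, if_neg h]

theorem finite_hom_sub {G : Type*} [Group G] [Finite G] (K : Subgroup G)
    (hK : ∀ a ∈ K, ∀ b ∈ K, a * b = b * a) : Finite (↥K →* ℂˣ) := by
  letI : CommGroup ↥K :=
    { (inferInstance : Group ↥K) with mul_comm := fun a b => Subtype.ext (hK a a.2 b b.2) }
  exact Cfsg.Agent.Lib.Helper25.CliffordCorr2.finite_hom

/-- parametrisation of the linear characters of `W₁ ⊔ W₂` by pairs. -/
theorem exists_param {G : Type*} [Group G] (W₁ W₂ : Subgroup G) (hdisj : W₁ ⊓ W₂ = ⊥)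
    (hcomm : ∀ a ∈ W₁, ∀ b ∈ W₂, a * b = b * a) :
    ∃ (e : (↥W₁ × ↥W₂) ≃* ↥(W₁ ⊔ W₂))
      (E : (↥W₁ →* ℂˣ) × (↥W₂ →* ℂˣ) ≃ (↥(W₁ ⊔ W₂) →* ℂˣ)),
      (∀ p : ↥W₁ × ↥W₂, ((e p : ↥(W₁ ⊔ W₂)) : G) = p.1 * p.2) ∧
      (∀ (α : ↥W₁ →* ℂˣ) (β : ↥W₂ →* ℂˣ) (a : ↥W₁) (b : ↥W₂),
        E (α, β) (e (a, b)) = α a * β b) := by
  obtain ⟨e, he⟩ := Cfsg.Agent.S1507.exists_prodEquiv W₁ W₂ hdisj hcomm
  let E : (↥W₁ →* ℂˣ) × (↥W₂ →* ℂˣ) → (↥(W₁ ⊔ W₂) →* ℂˣ) := fun p =>
    (p.1.coprod p.2).comp e.symm.toMonoidHom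
  have hE : ∀ (α : ↥W₁ →* ℂˣ) (β : ↥W₂ →* ℂˣ) (a : ↥W₁) (b : ↥W₂),
      E (α, β) (e (a, b)) = α a * β b := by
    intro α β a b
    simp [E]
  have hEbij : Function.Bijective E := by
    constructor
    · rintro ⟨α, β⟩ ⟨α', β'⟩ h
      have h1 : α = α' := by
        ext a
        have := congrArg (fun ω : ↥(W₁ ⊔ W₂) →* ℂˣ => ω (e (a, 1))) h
        simp only [hE, map_one, mul_one] at this
        rw [this]
      have h2 : β = β' := by
        ext b
        have := congrArg (fun ω : ↥(W₁ ⊔ W₂) →* ℂˣ => ω (e (1, b))) h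
        simp only [hE, map_one, one_mul] at this
        rw [this]
      rw [h1, h2]
    · intro ω
      refine ⟨(ω.comp (e.toMonoidHom.comp (MonoidHom.inl _ _)),
        ω.comp (e.toMonoidHom.comp (MonoidHom.inr _ _))), ?_⟩
      ext w
      obtain ⟨⟨a, b⟩, rfl⟩ := e.surjective w
      rw [hE]
      simp only [MonoidHom.coe_comp, MulEquiv.coe_toMonoidHom, Function.comp_apply,
        MonoidHom.inl_apply, MonoidHom.inr_apply]
      rw [← map_mul, ← map_mul]
      simp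
  exact ⟨e, Equiv.ofBijective E hEbij, he, hE⟩

end Cfsg.Agent.Lib.Helper25.CyclicTI
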