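import Mathlib

/-!
Specification file for S2202 (finite groups in which every involution centralizer is abelian).
All pieces are stated here as `Prop`s; `AICGlue` assembles them.

Notation (paper): `S` a Sylow 2-subgroup (non-cyclic, non-normal), `H = N_G(S) = NS S`,
`C = C_G(S) = CS S` (it is the centralizer of every involution of `S`),
`A = Aset S` = the elements of odd order of `C`, `qm1 S` = number of involutions of `S`.
-/

set_option autoImplicit false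

namespace Cfsg.Agent.Lib.Helper25.AICSpec

open Subgroup

universe u

/-- every involution centralizer is abelian -/
def AIC (G : Type u) [Group G] : Prop :=
  ∀ t : G, orderOf t = 2 → ∀ a b : G, a ∈ centralizer ({t} : Set G) →
    b ∈ centralizer ({t} : Set G) → a * b = b * a

/-- `H = N_G(S)` -/
def NS {G : Type u} [Group G] (S : Sylow 2 G) : Subgroup G :=
  normalizer ((S : Subgroup G) : Set G)

/-- `C = C_G(S)` -/
def CS {G : Type u} [Group G] (S : Sylow 2 G) : Subgroup G :=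
  centralizer ((S : Subgroup G) : Set G)

/-- `A` = the elements of odd order of `C_G(S)` (a set) -/
def Aset {G : Type u} [Group G] (S : Sylow 2 G) : Set G :=
  {a | a ∈ CS S ∧ Odd (orderOf a)}

/-- the number of involutions of `S` -/
noncomputable def qm1 {G : Type u} [Group G] (S : Sylow 2 G) : ℕ :=
  Nat.card {t : G // t ∈ S ∧ orderOf t = 2}

/-- the subgroup generated by the involutions -/
def Inv (G : Type u) [Group G] : Subgroup G := closure {t : G | orderOf t = 2}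

/-- the hypotheses -/
def Hyp (G : Type u) [Group G] (S : Sylow 2 G) : Prop :=
  AIC G ∧ ¬ IsCyclic (S : Subgroup G) ∧ ¬ (S : Subgroup G).Normal

/-- the inductive statement -/
def QProp (G : Type u) [Group G] (S : Sylow 2 G) : Prop :=
  (∀ a ∈ Aset S, a ∈ center G) ∧ (∀ x ∈ S, x ^ 2 = 1) ∧
    Nat.card (Sylow 2 G) = Nat.card (S : Subgroup G) + 1

/-! ### Local structure -/

structure Loc1 (G : Type u) [Group G] (S : Sylow 2 G) : Prop where
  comm : ∀ a b : G, a ∈ CS S → b ∈ CS S → a * b = b * a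
  le : (S : Subgroup G) ≤ CS S
  cle : CS S ≤ NS S
  cent : ∀ t : G, t ∈ S → orderOf t = 2 → centralizer ({t} : Set G) = CS S
  ti : ∀ g x : G, x ∈ S → x ≠ 1 → g⁻¹ * x * g ∈ S → g ∈ NS S
  inv_mem : ∀ t : G, t ∈ NS S → orderOf t = 2 → t ∈ S
  two : ∀ c : G, c ∈ CS S → (∃ k : ℕ, orderOf c = 2 ^ k) → c ∈ S

structure Loc2 (G : Type u) [Group G] (S : Sylow 2 G) : Prop where
  odd : ∀ t w : G, t ∈ S → orderOf t = 2 → orderOf w = 2 → w ∉ NS S → Odd (orderOf (t * w))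
  conj : ∀ t w : G, orderOf t = 2 → orderOf w = 2 → ∃ g : G, g⁻¹ * t * g = w
  trans : ∀ t t' : G, t ∈ S → orderOf t = 2 → t' ∈ S → orderOf t' = 2 →
    ∃ h ∈ NS S, h⁻¹ * t * h = t'

structure Loc4 (G : Type u) [Group G] (S : Sylow 2 G) : Prop where
  jcard : ∀ w : G, orderOf w = 2 → w ∉ NS S →
    Nat.card {d : G // d ∈ NS S ∧ w * d * w = d⁻¹} = qm1 S
  transv_inj : ∀ w : G, orderOf w = 2 → w ∉ NS S → ∀ d d' : G, d ∈ NS S → d' ∈ NS S →
    w * d * w = d⁻¹ → w * d' * w = d'⁻¹ → d' * d⁻¹ ∈ CS S → d = d'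
  transv : ∀ w : G, orderOf w = 2 → w ∉ NS S → ∀ h : G, h ∈ NS S →
    ∃ d ∈ NS S, w * d * w = d⁻¹ ∧ h * d⁻¹ ∈ CS S

structure Loc5 (G : Type u) [Group G] (S : Sylow 2 G) : Prop where
  gen : ∀ g : G, ∃ l ∈ Inv G, ∃ c ∈ CS S, g = l * c
  core_le : (NS S).normalCore ≤ center G
  core_odd : Odd (Nat.card (NS S).normalCore)

structure Local (G : Type u) [Group G] (S : Sylow 2 G) : Prop where
  l1 : Loc1 G S
  three : 3 ≤ qm1 S
  l2 : Loc2 G S
  cardN : Nat.card (NS S) = Nat.card (CS S) * qm1 S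
  coset : ∀ g : G, g ∉ NS S → Nat.card {h : G // h ∈ NS S ∧ orderOf (h * g) = 2} = qm1 S
  l4 : Loc4 G S
  l5 : Loc5 G S

def PL1 : Prop := ∀ (G : Type u) [Group G] [Finite G] (S : Sylow 2 G), Hyp G S → Loc1 G S

def PL1b : Prop := ∀ (G : Type u) [Group G] [Finite G] (S : Sylow 2 G), Hyp G S → Loc1 G S →
  3 ≤ qm1 S

def PL2 : Prop := ∀ (G : Type u) [Group G] [Finite G] (S : Sylow 2 G), Hyp G S → Loc1 G S →
  Loc2 G S

def PL2b : Prop := ∀ (G : Type u) [Group G] [Finite G] (S : Sylow 2 G), Hyp G S → Loc1 G S →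
  Loc2 G S → Nat.card (NS S) = Nat.card (CS S) * qm1 S

def PL3 : Prop := ∀ (G : Type u) [Group G] [Finite G] (S : Sylow 2 G), Hyp G S → Loc1 G S →
  Loc2 G S → Nat.card (NS S) = Nat.card (CS S) * qm1 S →
  ∀ g : G, g ∉ NS S → Nat.card {h : G // h ∈ NS S ∧ orderOf (h * g) = 2} = qm1 S

def PL4 : Prop := ∀ (G : Type u) [Group G] [Finite G] (S : Sylow 2 G), Hyp G S → Loc1 G S →
  Loc2 G S → Nat.card (NS S) = Nat.card (CS S) * qm1 S →
  (∀ g : G, g ∉ NS S → Nat.card {h : G // h ∈ NS S ∧ orderOf (h * g) = 2} = qm1 S) →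
  Loc4 G S

def PL5 : Prop := ∀ (G : Type u) [Group G] [Finite G] (S : Sylow 2 G), Hyp G S → Loc1 G S →
  3 ≤ qm1 S → Loc2 G S →
  (∀ g : G, g ∉ NS S → Nat.card {h : G // h ∈ NS S ∧ orderOf (h * g) = 2} = qm1 S) →
  Loc4 G S → Loc5 G S

def LocalProp : Prop := ∀ (G : Type u) [Group G] [Finite G] (S : Sylow 2 G), Hyp G S →
  Local G S

/-! ### Quotients by central subgroups of odd order -/

def QuotA : Prop := ∀ (G : Type u) [Group G] [Finite G] (S : Sylow 2 G),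
  ¬ IsCyclic (S : Subgroup G) → ¬ (S : Subgroup G).Normal →
  ∀ (N : Subgroup G) [N.Normal], N ≤ center G → Odd (Nat.card N) →
  ∃ T : Sylow 2 (G ⧸ N), (T : Subgroup (G ⧸ N)) = (S : Subgroup G).map (QuotientGroup.mk' N) ∧
    ¬ IsCyclic (T : Subgroup (G ⧸ N)) ∧ ¬ (T : Subgroup (G ⧸ N)).Normal ∧
    Nat.card (T : Subgroup (G ⧸ N)) = Nat.card (S : Subgroup G) ∧
    Nat.card (Sylow 2 (G ⧸ N)) = Nat.card (Sylow 2 G)

def QuotB : Prop := ∀ (G : Type u) [Group G] [Finite G], AIC G →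
  ∀ (N : Subgroup G) [N.Normal], N ≤ center G → Odd (Nat.card N) → AIC (G ⧸ N)

def QuotC : Prop := ∀ (G : Type u) [Group G] [Finite G] (S : Sylow 2 G),
  ∀ (N : Subgroup G) [N.Normal], N ≤ center G → Odd (Nat.card N) →
  ∀ T : Sylow 2 (G ⧸ N), (T : Subgroup (G ⧸ N)) = (S : Subgroup G).map (QuotientGroup.mk' N) →
  ∀ x : G ⧸ N, x ∈ CS T → ∃ c ∈ CS S, QuotientGroup.mk' N c = x

def StepC : Prop := ∀ (G : Type u) [Group G] [Finite G] (S : Sylow 2 G), Hyp G S → Local G S →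
  ∀ (N : Subgroup G) [N.Normal], N ≤ center G → Odd (Nat.card N) →
  ∀ T : Sylow 2 (G ⧸ N), (T : Subgroup (G ⧸ N)) = (S : Subgroup G).map (QuotientGroup.mk' N) →
  Nat.card (T : Subgroup (G ⧸ N)) = Nat.card (S : Subgroup G) →
  Nat.card (Sylow 2 (G ⧸ N)) = Nat.card (Sylow 2 G) →
  QProp (G ⧸ N) T → QProp G S

/-- the induction hypothesis -/
def IH (G : Type u) [Group G] : Prop :=
  ∀ (K : Type u) [Group K] [Finite K] (T : Sylow 2 K), Nat.card K < Nat.card G →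
    Hyp K T → QProp K T

def CaseC : Prop := ∀ (G : Type u) [Group G] [Finite G] (S : Sylow 2 G), Hyp G S → Local G S →
  (NS S).normalCore ≠ ⊥ → IH G → QProp G S

/-! ### Subgroups -/

def Sub : Prop := ∀ (G : Type u) [Group G] [Finite G] (S : Sylow 2 G), Hyp G S →
  ∀ (K : Subgroup G) (hSK : (S : Subgroup G) ≤ K), ¬ K ≤ NS S →
    Hyp K (S.subtype hSK) ∧
    (∀ a : K, a ∈ Aset (S.subtype hSK) ↔ (a : G) ∈ Aset S) ∧
    (∀ a : K, a ∈ S.subtype hSK ↔ (a : G) ∈ S) ∧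
    Nat.card ((S.subtype hSK : Sylow 2 K) : Subgroup K) = Nat.card (S : Subgroup G) ∧
    Nat.card (Sylow 2 K) * Nat.card ((NS S ⊓ K : Subgroup G)) = Nat.card K

/-! ### Step D: `C_G(a) ≤ H` for `a ∈ A#` -/

structure DSet (G : Type u) [Group G] (S : Sylow 2 G) (Y : Subgroup G) : Prop where
  hyp : Hyp G S
  loc : Local G S
  le : NS S ≤ Y
  ne_top : Y ≠ ⊤
  not_le : ¬ Y ≤ NS S
  cen : ∀ y ∈ Y, ∀ b ∈ Aset S, y * b = b * y
  elem : ∀ x ∈ S, x ^ 2 = 1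
  card : Nat.card Y = (Nat.card (S : Subgroup G) + 1) * Nat.card (NS S)

/-- `W = Y ∩ Y^u` -/
def Wsub {G : Type u} [Group G] (Y : Subgroup G) (w : G) : Subgroup G :=
  Y ⊓ Y.comap (MulAut.conj w).toMonoidHom

def D2a : Prop := ∀ (G : Type u) [Group G] [Finite G] (S : Sylow 2 G) (Y : Subgroup G),
  DSet G S Y → ∃ w : G, orderOf w = 2 ∧ w ∉ Y

def D2b : Prop := ∀ (G : Type u) [Group G] [Finite G] (S : Sylow 2 G) (Y : Subgroup G),
  DSet G S Y → ∀ w : G, orderOf w = 2 → w ∉ Y → Odd (Nat.card (Wsub Y w))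

def D2c : Prop := ∀ (G : Type u) [Group G] [Finite G] (S : Sylow 2 G) (Y : Subgroup G),
  DSet G S Y → ∀ w : G, orderOf w = 2 → w ∉ Y → ∀ y ∈ Y, ∃ x ∈ Wsub Y w, x * y⁻¹ ∈ NS S

def D2d : Prop := ∀ (G : Type u) [Group G] [Finite G] (S : Sylow 2 G) (Y : Subgroup G),
  DSet G S Y → ∀ w : G, orderOf w = 2 → w ∉ Y →
  Nat.card (Wsub Y w ⊓ NS S : Subgroup G) = qm1 S * Nat.card (Wsub Y w ⊓ CS S : Subgroup G)

def D2e : Prop := ∀ (G : Type u) [Group G] [Finite G] (S : Sylow 2 G) (Y : Subgroup G),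
  DSet G S Y → ∀ W : Subgroup G, W ≤ Y → Odd (Nat.card W) →
  (∀ y ∈ Y, ∃ x ∈ W, x * y⁻¹ ∈ NS S) →
  Nat.card (W ⊓ NS S : Subgroup G) = qm1 S * Nat.card (W ⊓ CS S : Subgroup G) → False

def StepD2 : Prop := ∀ (G : Type u) [Group G] [Finite G] (S : Sylow 2 G) (Y : Subgroup G),
  DSet G S Y → False

def CaseD : Prop := ∀ (G : Type u) [Group G] [Finite G] (S : Sylow 2 G), Hyp G S → Local G S →
  (NS S).normalCore = ⊥ →
  (∃ a ∈ Aset S, a ≠ 1 ∧ ¬ centralizer ({a} : Set G) ≤ NS S) → IH G → False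

/-! ### Steps E–H: `C` is a TI subgroup on which `H/C` acts semiregularly -/

def StepE : Prop := ∀ (G : Type u) [Group G] [Finite G] (S : Sylow 2 G), Hyp G S → Local G S →
  (∀ a ∈ Aset S, a ≠ 1 → centralizer ({a} : Set G) ≤ NS S) →
  (∀ g y : G, y ∈ CS S → y ≠ 1 → g⁻¹ * y * g ∈ CS S → g ∈ NS S) ∧
    normalizer ((CS S : Subgroup G) : Set G) = NS S

def StepF : Prop := ∀ (G : Type u) [Group G] [Finite G] (S : Sylow 2 G), Hyp G S → Local G S →
  (∀ g y : G, y ∈ CS S → y ≠ 1 → g⁻¹ * y * g ∈ CS S → g ∈ NS S) →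
  ∀ g : G, g ∉ NS S → ∀ y ∈ CS S, g⁻¹ * y * g ∈ NS S → y = 1

def StepG : Prop := ∀ (G : Type u) [Group G] [Finite G] (S : Sylow 2 G), Hyp G S → Local G S →
  (∀ g : G, g ∉ NS S → ∀ y ∈ CS S, g⁻¹ * y * g ∈ NS S → y = 1) →
  ∀ w : G, orderOf w = 2 → w ∉ NS S → ∀ x ∈ NS S, w * x * w ∈ NS S → w * x * w = x⁻¹

def StepH : Prop := ∀ (G : Type u) [Group G] [Finite G] (S : Sylow 2 G), Hyp G S → Local G S →
  (∀ g y : G, y ∈ CS S → y ≠ 1 → g⁻¹ * y * g ∈ CS S → g ∈ NS S) →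
  (∀ g : G, g ∉ NS S → ∀ y ∈ CS S, g⁻¹ * y * g ∈ NS S → y = 1) →
  (∀ w : G, orderOf w = 2 → w ∉ NS S → ∀ x ∈ NS S, w * x * w ∈ NS S → w * x * w = x⁻¹) →
  ∀ w : G, orderOf w = 2 → w ∉ NS S → ∀ d ∈ NS S, w * d * w = d⁻¹ → d ≠ 1 →
    ∀ y ∈ CS S, d⁻¹ * y * d = y → y = 1

/-! ### The character-theoretic step -/

structure CharSet (G : Type u) [Group G] (C : Subgroup G) : Prop where
  comm : ∀ a b : G, a ∈ C → b ∈ C → a * b = b * a
  ti : ∀ g y : G, y ∈ C → y ≠ 1 → g⁻¹ * y * g ∈ C → g ∈ normalizer (C : Set G)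
  stab : ∀ g : G, g ∈ normalizer (C : Set G) → ∀ y : G, y ∈ C → y ≠ 1 → g⁻¹ * y * g = y → g ∈ C
  nn : ∃ g : G, g ∉ normalizer (C : Set G)
  trans : ∀ t t' : G, t ∈ C → orderOf t = 2 → t' ∈ C → orderOf t' = 2 →
    ∃ h ∈ normalizer (C : Set G), h⁻¹ * t * h = t'
  inv_mem : ∀ t : G, t ∈ normalizer (C : Set G) → orderOf t = 2 → t ∈ C
  two : 2 ≤ Nat.card {t : G // t ∈ C ∧ orderOf t = 2}

/-- the number of involutions of `C` -/
noncomputable def ecard {G : Type u} [Group G] (C : Subgroup G) : ℕ :=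
  Nat.card {t : G // t ∈ C ∧ orderOf t = 2}

def CharNum : Prop := ∀ (G : Type u) [Group G] [Finite G] (C : Subgroup G), CharSet G C →
  Nat.card (normalizer (C : Set G)) = Nat.card C * ecard C ∧
  Nat.card C ^ 2 ≤ Nat.card G ∧
  ((∃ x ∈ C, x ^ 2 ≠ 1) → (ecard C + 1) ^ 2 ≤ Nat.card C)

def CharPairs : Prop := ∀ (G : Type u) [Group G] [Finite G] (C : Subgroup G), CharSet G C →
  ∀ t : G, t ∈ C → orderOf t = 2 →
  (∀ v : G, v ∈ C → orderOf v = 2 → Nat.card {x : G // x * t * x⁻¹ = v} = Nat.card C) ∧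
  Nat.card {p : G × G // p.1 * t * p.1⁻¹ * (p.2 * t * p.2⁻¹) = t}
    = Nat.card C ^ 2 * (ecard C - 1) ∧
  (∀ x0 : G, x0 ∈ C → x0 ^ 2 ≠ 1 → ∀ p1 p2 : G, p1 * t * p1⁻¹ * (p2 * t * p2⁻¹) ≠ x0)

def CharProp : Prop := ∀ (G : Type u) [Group G] [Finite G] (C : Subgroup G), CharSet G C →
  ∀ x : G, x ∈ C → x ^ 2 = 1

/-! ### The end game -/

def Fin1 : Prop := ∀ (G : Type u) [Group G] [Finite G] (S : Sylow 2 G), Hyp G S → Local G S →
  (∀ x : G, x ∈ CS S → x ^ 2 = 1) → QProp G S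

def CaseE : Prop := ∀ (G : Type u) [Group G] [Finite G] (S : Sylow 2 G), Hyp G S → Local G S →
  (∀ a ∈ Aset S, a ≠ 1 → centralizer ({a} : Set G) ≤ NS S) → QProp G S

def Fin2a : Prop := ∀ (G : Type u) [Group G] [Finite G] (S : Sylow 2 G), Hyp G S → Local G S →
  QProp G S →
  Odd (Nat.card (center G)) ∧
  ∃ (F : Type) (_ : Field F) (_ : Fintype F), Fintype.card F = Nat.card (S : Subgroup G) ∧
    Nonempty (G ⧸ center G ≃* Matrix.ProjectiveSpecialLinearGroup (Fin 2) F)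

def SplitA : Prop := ∀ (G : Type u) [Group G] [Finite G], Odd (Nat.card (center G)) →
  ∀ (F : Type) [Field F] [Fintype F], CharP F 2 →
  Nonempty (G ⧸ center G ≃* Matrix.ProjectiveSpecialLinearGroup (Fin 2) F) →
  commutator G ⊓ center G = ⊥

def SplitB : Prop := ∀ (G : Type u) [Group G] [Finite G] (S : Sylow 2 G), Hyp G S → Local G S →
  QProp G S → commutator G ⊔ center G = ⊤

def SplitC : Prop := ∀ (G : Type u) [Group G] [Finite G], Odd (Nat.card (center G)) →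
  ∀ (F : Type) [Field F] [Fintype F], CharP F 2 →
  Nonempty (G ⧸ center G ≃* Matrix.ProjectiveSpecialLinearGroup (Fin 2) F) →
  commutator G ⊓ center G = ⊥ → commutator G ⊔ center G = ⊤ →
  ∃ (A : Type) (_ : CommGroup A) (_ : Finite A), Odd (Nat.card A) ∧
    Nonempty (G ≃* Matrix.SpecialLinearGroup (Fin 2) F × A)

/-- the main inductive theorem -/
def MainProp : Prop := ∀ (G : Type u) [Group G] [Finite G] (S : Sylow 2 G), Hyp G S →
  QProp G S

end Cfsg.Agent.Lib.Helper25.AICSpec
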