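import Mathlib
import Cfsg.Prelude.Def_Characters

/-!
Specification file for S3282 (Brauer--Suzuki--Wall, abstract form): the structures and the exact
statements (as `Prop`-valued definitions) of the pieces from which the theorem is assembled.
Each piece `X` below is proved elsewhere as a theorem of type `X.{u}`.
-/

set_option autoImplicit false
open Cfsg
open scoped ComplexConjugate

namespace Cfsg.Agent.Lib.Helper25.BSWSpec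

universe u

/-- the hypotheses of S3282 -/
structure BSW {G : Type u} [Group G] (t : G) (K : Subgroup G) (s : G) : Prop where
  ht : orderOf t = 2
  hKab : ∀ x ∈ K, ∀ y ∈ K, x * y = y * x
  hKH : K ≤ Subgroup.centralizer ({t} : Set G)
  htK : t ∈ K
  hs : orderOf s = 2
  hsH : s ∈ Subgroup.centralizer ({t} : Set G)
  hsK : s ∉ K
  hH : K ⊔ Subgroup.zpowers s = Subgroup.centralizer ({t} : Set G)
  hCK : K ⊓ Subgroup.centralizer ({s} : Set G) = Subgroup.zpowers t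
  hinv : ∀ x ∈ K, s * x * s⁻¹ = x⁻¹
  hTI : ∀ g : G, g ∉ Subgroup.centralizer ({t} : Set G) →
    K ⊓ K.map (MulAut.conj g).toMonoidHom = ⊥
  hconj : ∀ x y : G, orderOf x = 2 → orderOf y = 2 → IsConj x y

/-- elementwise consequences of `BSW`, the working hypotheses of all later pieces
(`k` is the order of `K`; `C(t) = K ∪ K s`) -/
structure Basic {G : Type u} [Group G] (t : G) (K : Subgroup G) (s : G) (k : ℕ) : Prop where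
  card_K : Nat.card K = k
  two_dvd : 2 ∣ k
  ht : orderOf t = 2
  htK : t ∈ K
  hs : orderOf s = 2
  hsK : s ∉ K
  comm : ∀ x ∈ K, ∀ y ∈ K, x * y = y * x
  inv : ∀ x ∈ K, s * x * s⁻¹ = x⁻¹
  cent_t : ∀ h : G, h * t = t * h ↔ (h ∈ K ∨ ∃ x ∈ K, h = x * s)
  invol_coset : ∀ x ∈ K, orderOf (x * s) = 2
  invol_K : ∀ x ∈ K, orderOf x = 2 → x = t
  ti : ∀ a ∈ K, a ≠ 1 → ∀ g : G, g * a * g⁻¹ ∈ K → g * t = t * g
  hconj : ∀ x y : G, orderOf x = 2 → orderOf y = 2 → IsConj x y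

/-- `z` has no conjugate in `K` -/
def NotConjK {G : Type u} [Group G] (K : Subgroup G) (z : G) : Prop := ∀ g : G, g * z * g⁻¹ ∉ K

/-- number of involutions inverting `z` -/
noncomputable def aInv {G : Type u} [Group G] (z : G) : ℕ :=
  Nat.card {w : G // orderOf w = 2 ∧ w * z * w⁻¹ = z⁻¹}

/-- number of pairs `(g, h)` with `g t g⁻¹ * h t h⁻¹ = z` -/
noncomputable def pairCount {G : Type u} [Group G] (t z : G) : ℕ :=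
  Nat.card {p : G × G // p.1 * t * p.1⁻¹ * (p.2 * t * p.2⁻¹) = z}

/-- the conclusion of S3282 -/
def Conclusion (G : Type u) [Group G] : Prop :=
  ∃ Q D : Subgroup G, 2 * Nat.card G = Nat.card ↥Q * (Nat.card ↥Q + 1) * (Nat.card ↥Q - 1) ∧
    (∀ x ∈ Q, x ≠ 1 → Subgroup.centralizer ({x} : Set G) = Q) ∧
    IsMulCommutative ↥D ∧ 2 * Nat.card ↥D + 1 = Nat.card ↥Q ∧ Q ⊓ D = ⊥ ∧
    Subgroup.normalizer (Q : Set G) = Q ⊔ D ∧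
    ∀ X : Subgroup G, X ≤ D → X ≠ ⊥ →
      Subgroup.normalizer (X : Set G) = Subgroup.normalizer (D : Set G) ∧
      ∃ w : G, orderOf w = 2 ∧ w ∉ D ∧ (∀ d ∈ D, w * d * w⁻¹ = d⁻¹) ∧
        Subgroup.normalizer (D : Set G) = D ⊔ Subgroup.zpowers w

/-! ### group-theoretic pieces -/

/-- P01 -/
def BasicOf : Prop := ∀ (G : Type u) [Group G] [Finite G] (t : G) (K : Subgroup G) (s : G),
  BSW t K s → Basic t K s (Nat.card K)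

/-- P02: the case `|K| = 2` (`C(t)` a four-group: `G` is `A₄` or `A₅`) -/
def CaseTwo : Prop := ∀ (G : Type u) [Group G] [Finite G] (t : G) (K : Subgroup G) (s : G),
  BSW t K s → Nat.card K = 2 → Conclusion G

/-- P03 -/
def PairK : Prop := ∀ (G : Type u) [Group G] [Finite G] (t : G) (K : Subgroup G) (s : G) (k : ℕ),
  Basic t K s k → ∀ z ∈ K, z ≠ 1 → pairCount t z = 4 * k ^ 3

/-- P04 -/
def PairInv : Prop := ∀ (G : Type u) [Group G] [Finite G] (t : G) (K : Subgroup G) (s : G) (k : ℕ),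
  Basic t K s k → ∀ z : G, NotConjK K z → pairCount t z = 4 * k ^ 2 * aInv z

/-- P05 -/
def CardConj : Prop := ∀ (G : Type u) [Group G] [Finite G] (t : G) (K : Subgroup G) (s : G)
  (k : ℕ), Basic t K s k →
  Nat.card {z : G // z ≠ 1 ∧ ¬ NotConjK K z} * (2 * k) = Nat.card G * (k - 1)

/-- P06: structure of the centralizer of a strongly real element not conjugate into `K` -/
def RealStruct1 : Prop := ∀ (G : Type u) [Group G] [Finite G] (t : G) (K : Subgroup G) (s : G)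
  (k : ℕ), Basic t K s k → ∀ z w : G, NotConjK K z → orderOf w = 2 → w * z * w⁻¹ = z⁻¹ →
    (∀ x ∈ Subgroup.centralizer ({z} : Set G), w * x * w⁻¹ = x⁻¹) ∧
    (∀ x ∈ Subgroup.centralizer ({z} : Set G), x ≠ 1 →
      NotConjK K x ∧ Subgroup.centralizer ({x} : Set G) = Subgroup.centralizer ({z} : Set G)) ∧
    aInv z = Nat.card (Subgroup.centralizer ({z} : Set G))

/-- P07: its normalizer -/
def RealStruct2 : Prop := RealStruct1.{u} →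
  ∀ (G : Type u) [Group G] [Finite G] (t : G) (K : Subgroup G) (s : G)
  (k : ℕ), Basic t K s k → ∀ z w : G, NotConjK K z → orderOf w = 2 → w * z * w⁻¹ = z⁻¹ →
    ∃ E : Subgroup G,
      Subgroup.normalizer (Subgroup.centralizer ({z} : Set G) : Set G) =
        Subgroup.centralizer ({z} : Set G) ⊔ E ∧
      Subgroup.centralizer ({z} : Set G) ⊓ E = ⊥ ∧ w ∈ E ∧
      Nat.card E ∣ Nat.card (Subgroup.centralizer ({z} : Set G)) - 1 ∧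
      ∃ g : G, g * t * g⁻¹ = w ∧ E ≤ K.map (MulAut.conj g).toMonoidHom

/-- P08: counting with the character `Λ`, case `q = 2k+1` -/
def CountM : Prop := ∀ (G : Type u) [Group G] [Finite G] (Λ : G → ℂ) (U : Set G) (a : G → ℕ)
  (k : ℕ), 4 ≤ k → IsIrrCharacter G Λ → (1 : G) ∉ U →
  Nat.card U * (2 * k) = Nat.card G * (k - 1) →
  Nat.card G = 2 * k * (k + 1) * (2 * k + 1) →
  Λ 1 = 2 * (k : ℂ) + 1 → (∀ z ∈ U, Λ z = 1) →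
  (∀ z : G, z ∉ U → z ≠ 1 → (a z : ℂ) = (2 * (k : ℂ) + 1) + (k : ℂ) * conj (Λ z)) →
  (∀ z : G, z ∉ U → z ≠ 1 → a z = 2 * k + 1 ∨ a z = k + 1) ∧
  Nat.card {z : G // z ∉ U ∧ z ≠ 1 ∧ a z = 2 * k + 1} = (2 * k + 1) ^ 2 - 1

/-- P09: counting with the character `Λ`, case `q = 2k-1` -/
def CountP : Prop := ∀ (G : Type u) [Group G] [Finite G] (Λ : G → ℂ) (U : Set G) (a : G → ℕ)
  (k : ℕ), 4 ≤ k → IsIrrCharacter G Λ → (1 : G) ∉ U →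
  Nat.card U * (2 * k) = Nat.card G * (k - 1) →
  Nat.card G = 2 * k * (k - 1) * (2 * k - 1) →
  Λ 1 = 2 * (k : ℂ) - 1 → (∀ z ∈ U, Λ z = -1) →
  (∀ z : G, z ∉ U → z ≠ 1 → (a z : ℂ) = ((k : ℂ) - 1) * conj (Λ z)) →
  (∀ z : G, z ∉ U → z ≠ 1 → a z = 0 ∨ a z = k - 1) ∧
  Nat.card {z : G // z ∉ U ∧ z ≠ 1 ∧ a z = 0} = (2 * k - 1) ^ 2 - 1 ∧
  ∃ z : G, z ∉ U ∧ z ≠ 1 ∧ a z = k - 1

/-- P10: endgame for `q = 2k+1` -/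
def EndM : Prop := RealStruct1.{u} → RealStruct2.{u} →
  ∀ (G : Type u) [Group G] [Finite G] (t : G) (K : Subgroup G) (s : G) (k : ℕ),
  Basic t K s k → 4 ≤ k → Nat.card G = 2 * k * (k + 1) * (2 * k + 1) →
  (∃ z : G, NotConjK K z ∧ aInv z = 2 * k + 1) →
  Nat.card {z : G // NotConjK K z ∧ aInv z = 2 * k + 1} = (2 * k + 1) ^ 2 - 1 →
  Conclusion G

/-- P11: the non-real elements for `q = 2k-1` -/
def NRA : Prop := RealStruct1.{u} → RealStruct2.{u} →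
  ∀ (G : Type u) [Group G] [Finite G] (t : G) (K : Subgroup G) (s : G) (k : ℕ),
  Basic t K s k → 4 ≤ k → Nat.card G = 2 * k * (k - 1) * (2 * k - 1) →
  (∀ z : G, NotConjK K z → aInv z = 0 ∨ aInv z = k - 1) →
  Nat.card {z : G // NotConjK K z ∧ aInv z = 0} = (2 * k - 1) ^ 2 - 1 →
  (∃ z : G, NotConjK K z ∧ aInv z = k - 1) →
  ∃ p : ℕ, p.Prime ∧ (∃ b : ℕ, 2 * k - 1 = p ^ b) ∧
    (∀ z : G, (NotConjK K z ∧ aInv z = 0) ↔ orderOf z = p) ∧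
    (∀ x : G, x ≠ 1 → (∃ i : ℕ, orderOf x = p ^ i) → orderOf x = p) ∧
    (∀ z : G, orderOf z = p → Nat.card (Subgroup.centralizer ({z} : Set G)) = 2 * k - 1)

/-- P14: a finite group partitioned by self-normalizing abelian centralizers is abelian -/
def PartitionLemma : Prop := ∀ (L : Type u) [Group L] [Finite L],
  (∀ y : L, y ≠ 1 →
    (∀ w ∈ Subgroup.centralizer ({y} : Set L), w ≠ 1 →
      Subgroup.centralizer ({w} : Set L) = Subgroup.centralizer ({y} : Set L)) ∧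
    Subgroup.normalizer (Subgroup.centralizer ({y} : Set L) : Set L) =
      Subgroup.centralizer ({y} : Set L)) →
  ∀ a b : L, a * b = b * a

/-- P15: `p`-closure of a subgroup whose `p'`-elements have self-normalizing TI centralizers
(Burnside transfer + induction) -/
def PClosed : Prop := ∀ (G : Type u) [Group G] [Finite G] (p : ℕ), p.Prime → ∀ L : Subgroup G,
  (∀ y ∈ L, y ≠ 1 → ¬ p ∣ orderOf y →
    (∀ w ∈ L, w ≠ 1 → w * y = y * w → ∀ x ∈ L, (x * w = w * x ↔ x * y = y * x)) ∧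
    (∀ l ∈ L, (l * y * l⁻¹) * y = y * (l * y * l⁻¹) → l * y = y * l) ∧
    ¬ p ∣ Nat.card ↥(Subgroup.centralizer ({y} : Set G) ⊓ L)) →
  ∃ P : Subgroup G, P ≤ L ∧ IsPGroup p ↥P ∧ ∀ x ∈ L, (∃ i : ℕ, orderOf x = p ^ i) → x ∈ P

/-- P16: Sylow `p`-subgroups are TI if all `p`-local normalizers are `p`-closed -/
def SylowTI : Prop := ∀ (G : Type u) [Group G] [Finite G] (p : ℕ), p.Prime →
  (∀ R : Subgroup G, R ≠ ⊥ → IsPGroup p ↥R →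
    ∃ P : Subgroup G, P ≤ Subgroup.normalizer (R : Set G) ∧ IsPGroup p ↥P ∧
      ∀ x ∈ Subgroup.normalizer (R : Set G), (∃ i : ℕ, orderOf x = p ^ i) → x ∈ P) →
  ∀ P Q : Sylow p G, P ≠ Q → (P : Subgroup G) ⊓ (Q : Subgroup G) = ⊥

/-- P12: Sylow `p`-subgroups are TI (`q = 2k-1 = p^b`) -/
def NRB : Prop := RealStruct1.{u} → RealStruct2.{u} → PClosed.{u} → SylowTI.{u} →
  ∀ (G : Type u) [Group G] [Finite G] (t : G) (K : Subgroup G) (s : G) (k : ℕ),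
  Basic t K s k → 4 ≤ k →
  (∀ z : G, NotConjK K z → aInv z = 0 ∨ aInv z = k - 1) →
  ∀ p : ℕ, p.Prime → (∃ b : ℕ, 2 * k - 1 = p ^ b) →
    (∀ z : G, (NotConjK K z ∧ aInv z = 0) ↔ orderOf z = p) →
    (∀ x : G, x ≠ 1 → (∃ i : ℕ, orderOf x = p ^ i) → orderOf x = p) →
    ∀ P Q : Sylow p G, P ≠ Q → (P : Subgroup G) ⊓ (Q : Subgroup G) = ⊥

/-- P13: endgame for `q = 2k-1` -/
def EndP : Prop := RealStruct1.{u} → RealStruct2.{u} → PartitionLemma.{u} →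
  ∀ (G : Type u) [Group G] [Finite G] (t : G) (K : Subgroup G) (s : G) (k : ℕ),
  Basic t K s k → 4 ≤ k → Nat.card G = 2 * k * (k - 1) * (2 * k - 1) →
  (∀ z : G, NotConjK K z → aInv z = 0 ∨ aInv z = k - 1) →
  Nat.card {z : G // NotConjK K z ∧ aInv z = 0} = (2 * k - 1) ^ 2 - 1 →
  ∀ p : ℕ, p.Prime → (∃ b : ℕ, 2 * k - 1 = p ^ b) →
    (∀ z : G, (NotConjK K z ∧ aInv z = 0) ↔ orderOf z = p) →
    (∀ x : G, x ≠ 1 → (∃ i : ℕ, orderOf x = p ^ i) → orderOf x = p) →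
    (∀ z : G, orderOf z = p → Nat.card (Subgroup.centralizer ({z} : Set G)) = 2 * k - 1) →
    (∀ P Q : Sylow p G, P ≠ Q → (P : Subgroup G) ⊓ (Q : Subgroup G) = ⊥) →
    Conclusion G

/-! ### character-theoretic pieces -/

/-- the character of `G` induced from the linear character `φ` of `K` -/
noncomputable def Pi {G : Type u} [Group G] [Fintype G] (K : Subgroup G) (φ : ↥K →* ℂˣ) : G → ℂ :=
  indFun K (fun x : ↥K => ((φ x : ℂˣ) : ℂ))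

/-- P17: values of the induced characters `Pi K φ` -/
def IndK : Prop := ∀ (G : Type u) [Group G] [Fintype G] (t : G) (K : Subgroup G) (s : G) (k : ℕ),
  Basic t K s k → ∀ φ : ↥K →* ℂˣ,
    (∀ x : ↥K, x ≠ 1 → Pi K φ (x : G) = ((φ x : ℂˣ) : ℂ) + ((φ x⁻¹ : ℂˣ) : ℂ)) ∧
    (k : ℂ) * Pi K φ 1 = (Nat.card G : ℂ) ∧
    (∀ z : G, NotConjK K z → Pi K φ z = 0) ∧
    Pi K φ⁻¹ = Pi K φ

/-- the integer vectors `v φ ψ = ⟨Pi φ - Pi 1, ψ⟩` and their properties -/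
structure VData {G : Type u} [Group G] (K : Subgroup G) (k : ℕ)
    [Fintype (IrrCharacter G)] [Fintype (↥K →* ℂˣ)]
    (v : (↥K →* ℂˣ) → IrrCharacter G → ℤ) : Prop where
  gram : ∀ φ φ' : ↥K →* ℂˣ, φ ≠ 1 → φ' ≠ 1 →
    ∑ ψ : IrrCharacter G, v φ ψ * v φ' ψ =
      (open Classical in if φ = φ' then 1 else 0) +
        (open Classical in if φ = φ'⁻¹ then 1 else 0) + 2
  inv : ∀ φ : ↥K →* ℂˣ, v φ⁻¹ = v φ
  one : ∀ ψ : IrrCharacter G, v 1 ψ = 0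
  triv : ∀ ψ : IrrCharacter G, (∀ g : G, ψ.1 g = 1) → ∀ φ : ↥K →* ℂˣ, φ ≠ 1 → v φ ψ = -1
  deg : ∀ φ : ↥K →* ℂˣ, ∑ ψ : IrrCharacter G, (v φ ψ : ℂ) * ψ.1 1 = 0
  val : ∀ (ψ : IrrCharacter G) (x : ↥K), x ≠ 1 →
    ψ.1 (x : G) = ∑ φ : ↥K →* ℂˣ, (v φ ψ : ℂ) * ((φ x : ℂˣ) : ℂ)
  cong : ∀ ψ : IrrCharacter G, ∃ m : ℕ,
    ψ.1 1 = (k : ℂ) * (m : ℂ) + ∑ φ : ↥K →* ℂˣ, (v φ ψ : ℂ)
  off : ∀ (φ : ↥K →* ℂˣ) (z : G), NotConjK K z →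
    ∑ ψ : IrrCharacter G, (v φ ψ : ℂ) * ψ.1 z = 0

/-- P18 -/
def VDataOf : Prop := IndK.{u} →
  ∀ (G : Type u) [Group G] [Fintype G] (t : G) (K : Subgroup G) (s : G) (k : ℕ)
    [Fintype (IrrCharacter G)] [Fintype (↥K →* ℂˣ)],
  Basic t K s k → ∃ v : (↥K →* ℂˣ) → IrrCharacter G → ℤ, VData K k v

/-- P19: the dual group of `K` -/
def Dual : Prop := ∀ (G : Type u) [Group G] [Finite G] (t : G) (K : Subgroup G) (s : G) (k : ℕ)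
    [Fintype (↥K →* ℂˣ)],
  Basic t K s k → 4 ≤ k →
  Fintype.card (↥K →* ℂˣ) = k ∧
  (∀ x : ↥K, x ≠ 1 → ∑ φ : ↥K →* ℂˣ, ((φ x : ℂˣ) : ℂ) = 0) ∧
  (∃ φ₀ : ↥K →* ℂˣ, φ₀⁻¹ ≠ φ₀) ∧
  ∃ σ : ↥K →* ℂˣ, σ ≠ 1 ∧ σ⁻¹ = σ ∧ ∀ φ : ↥K →* ℂˣ, φ⁻¹ = φ → φ = 1 ∨ φ = σ

/-- P20: linear independence of the characters of `K` modulo the regular character -/
def Indep : Prop := ∀ (G : Type u) [Group G] (K : Subgroup G) [Finite ↥K]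
    [Fintype (↥K →* ℂˣ)], (∀ x ∈ K, ∀ y ∈ K, x * y = y * x) →
  ∀ a : (↥K →* ℂˣ) → ℂ,
    (∀ x : ↥K, x ≠ 1 → ∑ φ : ↥K →* ℂˣ, a φ * ((φ x : ℂˣ) : ℂ) = 0) →
    ∀ φ φ' : ↥K →* ℂˣ, a φ = a φ'

/-- the generic configuration of the vectors `v` -/
structure ConfigIData {I Φ : Type u} (ι : Φ → Φ) (σ : Φ) (o : I) (v : Φ → I → ℤ)
    (Λ Γ₁ Γ₂ : I) (Θ : Φ → I) (δ ε δ₁ δ₂ : ℤ) : Prop where
  hδ : δ = 1 ∨ δ = -1
  hε : ε = 1 ∨ ε = -1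
  hδ₁ : δ₁ = 1 ∨ δ₁ = -1
  hδ₂ : δ₂ = 1 ∨ δ₂ = -1
  hΛo : Λ ≠ o
  hΓ₁o : Γ₁ ≠ o
  hΓ₂o : Γ₂ ≠ o
  hΓ₁Λ : Γ₁ ≠ Λ
  hΓ₂Λ : Γ₂ ≠ Λ
  hΓ : Γ₁ ≠ Γ₂
  hΘ : ∀ φ : Φ, ι φ ≠ φ → Θ φ ≠ o ∧ Θ φ ≠ Λ ∧ Θ φ ≠ Γ₁ ∧ Θ φ ≠ Γ₂ ∧ Θ (ι φ) = Θ φ
  hΘinj : ∀ φ φ' : Φ, ι φ ≠ φ → ι φ' ≠ φ' → Θ φ = Θ φ' → φ' = φ ∨ φ' = ι φ
  hv : ∀ φ : Φ, ι φ ≠ φ → ∀ ψ : I, v φ ψ =
    (open Classical in if ψ = o then -1 else 0) + (open Classical in if ψ = Λ then δ else 0) +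
      (open Classical in if ψ = Θ φ then ε else 0)
  hσ : ∀ ψ : I, v σ ψ =
    (open Classical in if ψ = o then -1 else 0) + (open Classical in if ψ = Λ then δ else 0) +
      (open Classical in if ψ = Γ₁ then δ₁ else 0) + (open Classical in if ψ = Γ₂ then δ₂ else 0)

/-- the exceptional configuration (six characters of `K`) -/
structure ConfigIIData {I Φ : Type u} (ι : Φ → Φ) (e σ : Φ) (o : I) (v : Φ → I → ℤ)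
    (φ₀ φ₁ : Φ) (Λ Θ Γ₁ Γ₂ : I) (δ ε δ₁ δ₂ : ℤ) : Prop where
  hδ : δ = 1 ∨ δ = -1
  hε : ε = 1 ∨ ε = -1
  hδ₁ : δ₁ = 1 ∨ δ₁ = -1
  hδ₂ : δ₂ = 1 ∨ δ₂ = -1
  h₀ : ι φ₀ ≠ φ₀
  h₁ : ι φ₁ ≠ φ₁
  h₁₀ : φ₁ ≠ φ₀
  h₁₀' : φ₁ ≠ ι φ₀
  hall : ∀ φ : Φ, φ = e ∨ φ = σ ∨ φ = φ₀ ∨ φ = ι φ₀ ∨ φ = φ₁ ∨ φ = ι φ₁
  hΛo : Λ ≠ o
  hΘo : Θ ≠ o
  hΓ₁o : Γ₁ ≠ o
  hΓ₂o : Γ₂ ≠ o
  hΘΛ : Θ ≠ Λ
  hΓ₁Λ : Γ₁ ≠ Λ
  hΓ₂Λ : Γ₂ ≠ Λ
  hΓ₁Θ : Γ₁ ≠ Θ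
  hΓ₂Θ : Γ₂ ≠ Θ
  hΓ : Γ₁ ≠ Γ₂
  hv₀ : ∀ ψ : I, v φ₀ ψ =
    (open Classical in if ψ = o then -1 else 0) + (open Classical in if ψ = Λ then δ else 0) +
      (open Classical in if ψ = Θ then ε else 0)
  hv₁ : ∀ ψ : I, v φ₁ ψ =
    (open Classical in if ψ = o then -1 else 0) + (open Classical in if ψ = Θ then ε else 0) +
      (open Classical in if ψ = Γ₁ then δ₁ else 0)
  hσ : ∀ ψ : I, v σ ψ =
    (open Classical in if ψ = o then -1 else 0) + (open Classical in if ψ = Λ then δ else 0) +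
      (open Classical in if ψ = Γ₁ then δ₁ else 0) + (open Classical in if ψ = Γ₂ then δ₂ else 0)

/-- P21: the combinatorial classification of the vectors `v` (no groups involved) -/
def CombB : Prop := ∀ (I Φ : Type u) [Fintype I] [Fintype Φ]
  (ι : Φ → Φ) (e σ : Φ) (o : I) (d : I → ℤ) (v : Φ → I → ℤ),
  (∀ φ, ι (ι φ) = φ) → ι e = e → ι σ = σ → σ ≠ e → (∀ φ, ι φ = φ → φ = e ∨ φ = σ) →
  (∃ φ, ι φ ≠ φ) → (∀ ψ, 0 < d ψ) →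
  (∀ φ φ', φ ≠ e → φ' ≠ e → ∑ ψ, v φ ψ * v φ' ψ =
    (open Classical in if φ = φ' then 1 else 0) +
      (open Classical in if φ = ι φ' then 1 else 0) + 2) →
  (∀ φ, v (ι φ) = v φ) → (∀ φ, φ ≠ e → v φ o = -1) → (∀ φ, φ ≠ e → ∑ ψ, v φ ψ * d ψ = 0) →
  (∃ (Λ Γ₁ Γ₂ : I) (Θ : Φ → I) (δ ε δ₁ δ₂ : ℤ), ConfigIData ι σ o v Λ Γ₁ Γ₂ Θ δ ε δ₁ δ₂) ∨
  (∃ (φ₀ φ₁ : Φ) (Λ Θ Γ₁ Γ₂ : I) (δ ε δ₁ δ₂ : ℤ),
    ConfigIIData ι e σ o v φ₀ φ₁ Λ Θ Γ₁ Γ₂ δ ε δ₁ δ₂)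

/-- P22: the exceptional configuration does not occur -/
def ConfigIIFalse : Prop := PairK.{u} → Indep.{u} → Dual.{u} →
  ∀ (G : Type u) [Group G] [Fintype G] (t : G) (K : Subgroup G) (s : G) (k : ℕ)
    [Fintype (IrrCharacter G)] [Fintype (↥K →* ℂˣ)]
    (v : (↥K →* ℂˣ) → IrrCharacter G → ℤ) (σ : ↥K →* ℂˣ) (o : IrrCharacter G),
  Basic t K s k → 4 ≤ k → VData K k v → (∀ g : G, o.1 g = 1) →
  σ ≠ 1 → σ⁻¹ = σ → (∀ φ : ↥K →* ℂˣ, φ⁻¹ = φ → φ = 1 ∨ φ = σ) →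
  ∀ (φ₀ φ₁ : ↥K →* ℂˣ) (Λ Θ Γ₁ Γ₂ : IrrCharacter G) (δ ε δ₁ δ₂ : ℤ),
    ConfigIIData (fun φ : ↥K →* ℂˣ => φ⁻¹) 1 σ o v φ₀ φ₁ Λ Θ Γ₁ Γ₂ δ ε δ₁ δ₂ → False

/-- P23: degrees, signs and the group order in the generic configuration -/
def ConfigINum : Prop := PairK.{u} → Indep.{u} → Dual.{u} →
  ∀ (G : Type u) [Group G] [Fintype G] (t : G) (K : Subgroup G) (s : G) (k : ℕ)
    [Fintype (IrrCharacter G)] [Fintype (↥K →* ℂˣ)]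
    (v : (↥K →* ℂˣ) → IrrCharacter G → ℤ) (σ : ↥K →* ℂˣ) (o : IrrCharacter G),
  Basic t K s k → 4 ≤ k → VData K k v → (∀ g : G, o.1 g = 1) →
  σ ≠ 1 → σ⁻¹ = σ → (∀ φ : ↥K →* ℂˣ, φ⁻¹ = φ → φ = 1 ∨ φ = σ) →
  ∀ (Λ Γ₁ Γ₂ : IrrCharacter G) (Θ : (↥K →* ℂˣ) → IrrCharacter G) (δ ε δ₁ δ₂ : ℤ),
    ConfigIData (fun φ : ↥K →* ℂˣ => φ⁻¹) σ o v Λ Γ₁ Γ₂ Θ δ ε δ₁ δ₂ →
    ε = -δ ∧ δ₁ = -δ ∧ δ₂ = -δ ∧
    Λ.1 1 = 2 * (k : ℂ) - (δ : ℂ) ∧ Γ₁.1 1 = (k : ℂ) - (δ : ℂ) ∧ Γ₂.1 1 = (k : ℂ) - (δ : ℂ) ∧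
    (∀ φ : ↥K →* ℂˣ, φ⁻¹ ≠ φ → (Θ φ).1 1 = 2 * ((k : ℂ) - (δ : ℂ))) ∧
    (Nat.card G : ℤ) = 2 * (k : ℤ) * ((k : ℤ) - δ) * (2 * (k : ℤ) - δ)

/-- P24: the class-multiplication formula off the conjugates of `K` -/
def ConfigIFormula : Prop := Dual.{u} →
  ∀ (G : Type u) [Group G] [Fintype G] (t : G) (K : Subgroup G) (s : G) (k : ℕ)
    [Fintype (IrrCharacter G)] [Fintype (↥K →* ℂˣ)]
    (v : (↥K →* ℂˣ) → IrrCharacter G → ℤ) (σ : ↥K →* ℂˣ) (o : IrrCharacter G),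
  Basic t K s k → 4 ≤ k → VData K k v → (∀ g : G, o.1 g = 1) →
  σ ≠ 1 → σ⁻¹ = σ → (∀ φ : ↥K →* ℂˣ, φ⁻¹ = φ → φ = 1 ∨ φ = σ) →
  ∀ (Λ Γ₁ Γ₂ : IrrCharacter G) (Θ : (↥K →* ℂˣ) → IrrCharacter G) (δ ε δ₁ δ₂ : ℤ),
    ConfigIData (fun φ : ↥K →* ℂˣ => φ⁻¹) σ o v Λ Γ₁ Γ₂ Θ δ ε δ₁ δ₂ →
    ε = -δ → δ₁ = -δ → δ₂ = -δ →
    Λ.1 1 = 2 * (k : ℂ) - (δ : ℂ) → Γ₁.1 1 = (k : ℂ) - (δ : ℂ) → Γ₂.1 1 = (k : ℂ) - (δ : ℂ) →
    (∀ φ : ↥K →* ℂˣ, φ⁻¹ ≠ φ → (Θ φ).1 1 = 2 * ((k : ℂ) - (δ : ℂ))) →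
    (Nat.card G : ℤ) = 2 * (k : ℤ) * ((k : ℤ) - δ) * (2 * (k : ℤ) - δ) →
    (∀ x ∈ K, x ≠ 1 → Λ.1 x = -(δ : ℂ)) ∧
    ∀ z : G, NotConjK K z →
      2 * (pairCount t z : ℂ) = 4 * (k : ℂ) ^ 2 *
        ((2 * (k : ℂ) - (δ : ℂ)) * (1 - (δ : ℂ)) + (2 * (k : ℂ) - 1 - (δ : ℂ)) * conj (Λ.1 z))

end Cfsg.Agent.Lib.Helper25.BSWSpec
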