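import Cfsg.Agent.S1500
import Cfsg.Agent.S0170
import Cfsg.Agent.Lib.CT.FrobRec
import Cfsg.Agent.Lib.Helper3.Irr
import Cfsg.Agent.Lib.Helper26.GenChar
import Mathlib

/-!
Induction from a subgroup `W` of class functions supported on a set `A ⊆ W` with the
trivial-intersection property `g a g⁻¹ ∈ A → g ∈ W` (`a ∈ A`): isometry and values, obtained from
the Dade isometry with trivial supporting subgroups.  Also the exceptional character lemma
`exceptional` in abstract form.
-/

set_option autoImplicit false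
open Cfsg
open scoped ComplexConjugate

namespace Cfsg.Agent.Lib.Helper25.TIInd

open Cfsg.Agent.Lib.CT.FrobRec Cfsg.Agent.Lib.Helper3.Irr

variable {G : Type*} [Group G]

theorem dade_of_TI (A : Set G) (W : Subgroup G) (h1 : (1 : G) ∉ A) (hAW : A ⊆ (W : Set G))
    (hconj : ∀ x ∈ W, ∀ a ∈ A, x * a * x⁻¹ ∈ A)
    (hTI : ∀ a ∈ A, ∀ g : G, g * a * g⁻¹ ∈ A → g ∈ W) :
    DadeHypothesis A W (fun _ => (⊥ : Subgroup G)) where
  one_not_mem := h1
  subset := hAW
  conj_mem := hconj
  fusion := fun a ha g hg => ⟨g, hTI a ha g hg, rfl⟩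
  le_centralizer := fun a _ => bot_le
  conj_mem_H := by
    intro a _ c _ u hu
    rw [Subgroup.mem_bot] at hu ⊢
    rw [hu]; group
  inf_eq_bot := fun a _ => bot_inf_eq _
  sup_eq := by
    intro a ha
    rw [bot_sup_eq]
    apply inf_eq_right.mpr
    intro g hg
    rw [Subgroup.mem_centralizer_singleton_iff] at hg
    apply hTI a ha g
    have e : g * a * g⁻¹ = a := by rw [hg]; group
    rw [e]; exact ha
  coprime := by
    intro a _ b _
    simp

variable [Fintype G]

theorem dade_eq_ind (A : Set G) (W : Subgroup G) [Fintype W]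
    (hD : DadeHypothesis A W (fun _ => (⊥ : Subgroup G))) (α : W → ℂ)
    (hα : IsClassFunction W α) (hαA : ∀ x : W, (x : G) ∉ A → α x = 0) :
    dadeIsometry A W (fun _ => (⊥ : Subgroup G)) α = indFun W α := by
  classical
  obtain ⟨d, hd⟩ : ∃ d : G → ℂ, d = dadeIsometry A W (fun _ => (⊥ : Subgroup G)) α - indFun W α :=
    ⟨_, rfl⟩
  have hdc : IsClassFunction G d := by
    intro g h
    rw [hd]
    simp only [Pi.sub_apply]
    rw [Cfsg.Agent.S1500.dade_class A W _ hD α hα g h, indFun_isClassFunction W α g h]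
  have h1 := classInner_sub_left (dadeIsometry A W (fun _ => (⊥ : Subgroup G)) α) (indFun W α) d
  rw [← hd] at h1
  have h2 : classInner (dadeIsometry A W (fun _ => (⊥ : Subgroup G)) α) d =
      classInner α (fun a : W => d a) := by
    apply Cfsg.Agent.S1500.part_ii A W _ hD α hα hαA d _ hdc
    intro a _
    rw [Cfsg.Agent.S1500.finsum_mem_eq]
    rw [Finset.sum_eq_single (1 : G)]
    · rw [if_pos (Subgroup.one_mem _)]
      simp
    · intro u _ hu
      rw [if_neg]
      intro hu'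
      exact hu (Subgroup.mem_bot.mp hu')
    · intro h; exact absurd (Finset.mem_univ _) h
  have h3 : classInner (indFun W α) d = classInner α (fun a : W => d a) :=
    frobenius_reciprocity W α d hdc
  rw [h2, h3, sub_self] at h1
  have := Cfsg.Agent.Lib.Helper26.GenChar.eq_zero_of_classInner_self_eq_zero h1
  rw [hd] at this
  exact sub_eq_zero.mp this

theorem ind_isometry (A : Set G) (W : Subgroup G) [Fintype W]
    (hD : DadeHypothesis A W (fun _ => (⊥ : Subgroup G))) (α β : W → ℂ)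
    (hα : IsClassFunction W α) (hαA : ∀ x : W, (x : G) ∉ A → α x = 0)
    (hβ : IsClassFunction W β) (hβA : ∀ x : W, (x : G) ∉ A → β x = 0) :
    classInner (indFun W α) (indFun W β) = classInner α β := by
  rw [← dade_eq_ind A W hD α hα hαA, ← dade_eq_ind A W hD β hβ hβA]
  exact (Cfsg.Agent.S1500.result A W _ hD α hα hαA).1 β hβ hβA

theorem ind_apply (A : Set G) (W : Subgroup G) [Fintype W]
    (hD : DadeHypothesis A W (fun _ => (⊥ : Subgroup G))) (α : W → ℂ)
    (hα : IsClassFunction W α) (hαA : ∀ x : W, (x : G) ∉ A → α x = 0) (a : W)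
    (ha : (a : G) ∈ A) : indFun W α (a : G) = α a := by
  rw [← dade_eq_ind A W hD α hα hαA]
  exact Cfsg.Agent.S1500.dade_eq A W _ hD α hα a ha (a : G) 1 1 (Subgroup.one_mem _) (by group)

/-- exceptional characters, abstract form -/
theorem exceptional {n : ℕ} (hn : 2 ≤ n) (Φ : Fin n → (G → ℂ))
    (hchar : ∀ i, IsCharacter G (Φ i))
    (hinner : ∀ i j k l, classInner (Φ i - Φ j) (Φ k - Φ l) =
      (if i = k then (1 : ℂ) else 0) - (if i = l then 1 else 0) - (if j = k then 1 else 0)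
        + (if j = l then 1 else 0))
    (hone : ∀ i j, Φ i 1 = Φ j 1) :
    ∃ ε : ℂ, (ε = 1 ∨ ε = -1) ∧ ∃ θ : Fin n → (G → ℂ), (∀ i, IsIrrCharacter G (θ i)) ∧
      Function.Injective θ ∧ ∀ i j, Φ i - Φ j = ε • (θ i - θ j) := by
  classical
  have hfin := finite_irrCharacter (G := G)
  haveI : Fintype (IrrCharacter G) := Fintype.ofFinite _
  choose m hm hexp using fun i => Cfsg.Agent.Lib.CT.NormOne.exists_mult_sum (hchar i)
  choose d hdpos hd using fun ψ : IrrCharacter G => IsIrrCharacter.exists_apply_one_pos ψ.2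
  have hdiff : ∀ i j, Φ i - Φ j =
      ∑ ψ : IrrCharacter G, ((m i ψ : ℂ) - (m j ψ : ℂ)) • (ψ : G → ℂ) := by
    intro i j
    have h1 : Φ i - Φ j = (∑ ψ : IrrCharacter G, (m i ψ : ℂ) • (ψ : G → ℂ)) -
        ∑ ψ : IrrCharacter G, (m j ψ : ℂ) • (ψ : G → ℂ) := by
      rw [← hexp i, ← hexp j]
    rw [h1, ← Finset.sum_sub_distrib]
    refine Finset.sum_congr rfl (fun ψ _ => ?_)
    rw [sub_smul]
  have hA : ∀ i j k l, ∑ ψ : IrrCharacter G,
      ((m i ψ : ℤ) - (m j ψ : ℤ)) * ((m k ψ : ℤ) - (m l ψ : ℤ))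
      = (if i = k then (1 : ℤ) else 0) - (if i = l then 1 else 0) - (if j = k then 1 else 0)
        + (if j = l then 1 else 0) := by
    intro i j k l
    have hL : classInner (Φ i - Φ j) (Φ k - Φ l)
        = ∑ ψ : IrrCharacter G, ((m i ψ : ℂ) - (m j ψ : ℂ)) * ((m k ψ : ℂ) - (m l ψ : ℂ)) := by
      rw [hdiff k l, Cfsg.Agent.S0170.inner_expand]
      refine Finset.sum_congr rfl (fun ψ _ => ?_)
      rw [classInner_sub_left, hm i ψ, hm j ψ]
      simp
    have h1 := hinner i j k l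
    rw [hL] at h1
    exact_mod_cast h1
  have hB : ∀ i j, ∑ ψ : IrrCharacter G, ((m i ψ : ℤ) - (m j ψ : ℤ)) * (d ψ : ℤ) = 0 := by
    intro i j
    have h1 : (Φ i - Φ j) 1 = 0 := by rw [Pi.sub_apply, hone i j, sub_self]
    have h2 : (Φ i - Φ j) 1
        = ∑ ψ : IrrCharacter G, ((m i ψ : ℂ) - (m j ψ : ℂ)) * (d ψ : ℂ) := by
      rw [hdiff i j, Finset.sum_apply]
      refine Finset.sum_congr rfl (fun ψ _ => ?_)
      rw [Pi.smul_apply, hd ψ, smul_eq_mul]
    rw [h2] at h1
    exact_mod_cast h1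
  obtain ⟨ε, hε, θ, hθinj, hθ⟩ := Cfsg.Agent.S0170.exists_theta hn (fun i ψ => (m i ψ : ℤ))
    (fun ψ => (d ψ : ℤ)) (fun ψ => by exact_mod_cast hdpos ψ) hA hB
  refine ⟨(ε : ℂ), ?_, fun i => (θ i : G → ℂ), fun i => (θ i).2, ?_, ?_⟩
  · rcases hε with rfl | rfl <;> simp
  · intro i j hij
    exact hθinj (Subtype.ext hij)
  · intro i j
    rw [hdiff i j]
    have h3 : ∀ ψ : IrrCharacter G, (((m i ψ : ℂ) - (m j ψ : ℂ)) • (ψ : G → ℂ))
        = ((ε : ℂ) * ((if ψ = θ i then (1 : ℂ) else 0) - (if ψ = θ j then 1 else 0)))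
          • (ψ : G → ℂ) := by
      intro ψ
      congr 1
      have := hθ i j ψ
      exact_mod_cast this
    simp only [h3]
    simp only [mul_smul, sub_smul, ite_smul, one_smul, zero_smul, smul_sub,
      Finset.sum_sub_distrib, ← Finset.smul_sum, Finset.sum_ite_eq', Finset.mem_univ, if_true]

end Cfsg.Agent.Lib.Helper25.TIInd
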