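import Mathlib
import Cfsg.Agent.Lib.Helper76.NilFrob

set_option autoImplicit false

/-! A Frobenius kernel `K` of order `[N : K] + 1`: all non-identity elements of `K` are
conjugate in `N`, and `K` is elementary abelian. -/

namespace Cfsg.Agent.Lib.Helper25.FrobEA

universe u

variable {N : Type u} [Group N] [Fintype N] (K : Subgroup N) [hKn : K.Normal]

theorem all_conj (hC : ∀ h ∈ K, h ≠ 1 → Subgroup.centralizer ({h} : Set N) ≤ K)
    (hcard : Nat.card K = K.index + 1) :
    (∀ a ∈ K, ∀ b ∈ K, a * b = b * a) ∧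
      ∀ x ∈ K, x ≠ 1 → ∀ y ∈ K, y ≠ 1 → IsConj x y := by
  classical
  obtain ⟨X, hX⟩ : ∃ X : Finset N, X = Finset.univ.filter (fun y => y ∈ K ∧ y ≠ 1) := ⟨_, rfl⟩
  have hXcard : X.card = K.index := by
    have h1 : X = (Finset.univ.filter (fun y => y ∈ K)).erase 1 := by
      ext y
      simp [hX, and_comm]
    rw [h1, Finset.card_erase_of_mem (by simp [K.one_mem]), ← Fintype.card_subtype,
      ← Nat.card_eq_fintype_card]
    show Nat.card K - 1 = _
    omega
  have key : ∀ x ∈ K, x ≠ 1 → K ≤ Subgroup.centralizer ({x} : Set N) ∧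
      Finset.univ.filter (fun a : N => IsConj x a) = X := by
    intro x hx hx1
    have hcc := Cfsg.Agent.Lib.Helper76.NilFrob.conj_class_card
      (Subgroup.centralizer ({x} : Set N)) x (by
        intro q
        rw [Subgroup.mem_centralizer_singleton_iff]
        constructor
        · intro h
          calc q * x = q * x * q⁻¹ * q := by group
            _ = x * q := by rw [h]
        · intro h
          rw [h]
          group)
    have hsub : Finset.univ.filter (fun a : N => IsConj x a) ⊆ X := by
      intro a ha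
      rw [Finset.mem_filter] at ha
      obtain ⟨c, hc⟩ := isConj_iff.mp ha.2
      rw [hX, Finset.mem_filter]
      refine ⟨Finset.mem_univ _, ?_, ?_⟩
      · rw [← hc]
        exact hKn.conj_mem x hx c
      · rintro rfl
        apply hx1
        have : x = c⁻¹ * (c * x * c⁻¹) * c := by group
        rw [this, hc]
        group
    have hdvd : K.index ∣ (Subgroup.centralizer ({x} : Set N)).index :=
      Subgroup.index_dvd_of_le (hC x hx hx1)
    have hpos : 0 < (Subgroup.centralizer ({x} : Set N)).index :=
      Nat.pos_of_ne_zero Subgroup.index_ne_zero_of_finite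
    have hle1 : K.index ≤ (Subgroup.centralizer ({x} : Set N)).index := Nat.le_of_dvd hpos hdvd
    have hle2 : (Subgroup.centralizer ({x} : Set N)).index ≤ K.index := by
      rw [← hcc, ← hXcard]
      exact Finset.card_le_card hsub
    have heq : (Subgroup.centralizer ({x} : Set N)).index = K.index := le_antisymm hle2 hle1
    refine ⟨?_, Finset.eq_of_subset_of_card_le hsub (by rw [hcc, hXcard, heq])⟩
    have h1 := Subgroup.relIndex_mul_index (hC x hx hx1)
    rw [heq] at h1
    have hKpos : 0 < K.index := Nat.pos_of_ne_zero Subgroup.index_ne_zero_of_finite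
    have h2 : (Subgroup.centralizer ({x} : Set N)).relIndex K = 1 := by
      have : (Subgroup.centralizer ({x} : Set N)).relIndex K * K.index = 1 * K.index := by
        rw [h1, one_mul]
      exact Nat.eq_of_mul_eq_mul_right hKpos this
    exact Subgroup.relIndex_eq_one.mp h2
  refine ⟨?_, ?_⟩
  · intro a ha b hb
    by_cases ha1 : a = 1
    · rw [ha1, one_mul, mul_one]
    · have := (key a ha ha1).1 hb
      rw [Subgroup.mem_centralizer_singleton_iff] at this
      exact this.symm
  · intro x hx hx1 y hy hy1
    have h1 : y ∈ X := by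
      rw [hX, Finset.mem_filter]
      exact ⟨Finset.mem_univ _, hy, hy1⟩
    rw [← (key x hx hx1).2, Finset.mem_filter] at h1
    exact h1.2

theorem pow_eq_one (hC : ∀ h ∈ K, h ≠ 1 → Subgroup.centralizer ({h} : Set N) ≤ K)
    (hcard : Nat.card K = K.index + 1) (p : ℕ) [Fact p.Prime] (hp : p ∣ Nat.card K) :
    ∀ a ∈ K, a ^ p = 1 := by
  obtain ⟨x₀, hx₀⟩ := exists_prime_orderOf_dvd_card' (G := K) p hp
  have hx1 : (x₀ : N) ≠ 1 := by
    intro h
    have h1 : x₀ = 1 := Subtype.ext h
    rw [h1, orderOf_one] at hx₀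
    exact (Fact.out : p.Prime).one_lt.ne hx₀
  have hxp : (x₀ : N) ^ p = 1 := by
    have := pow_orderOf_eq_one x₀
    rw [hx₀] at this
    exact_mod_cast congrArg Subtype.val this
  intro a ha
  by_cases ha1 : a = 1
  · rw [ha1, one_pow]
  · obtain ⟨c, hc⟩ := isConj_iff.mp ((all_conj K hC hcard).2 x₀ x₀.2 hx1 a ha ha1)
    rw [← hc, conj_pow, hxp]
    group

end Cfsg.Agent.Lib.Helper25.FrobEA
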