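import Mathlib
import Cfsg.Agent.Lib.Helper25.FeitCrit
import Cfsg.Agent.Lib.Helper25.TIInd
import Cfsg.Agent.Lib.Helper76.Coherence
import Cfsg.Agent.Lib.Helper76.Coherence2

set_option autoImplicit false
open Cfsg

/-! Coherence of sets of irreducible characters of equal degree, and the chain form of
Feit's criterion, for unrelated groups `N`, `G`. -/

namespace Cfsg.Agent.Lib.Helper25.FeitBase

open Cfsg.Agent.Lib.CT Cfsg.Agent.Lib.CT.Wedderburn Cfsg.Agent.Lib.Helper26.GenChar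
open Cfsg.Agent.Lib.Helper26.Coherence (irr_inner irr_inner_self irr_inner_ne zsmul_apply)
open Cfsg.Agent.Lib.Helper76.Coherence (extension mem_zspan_finset tau_sum tau_sub tau_neg
  tau_zero sub_mem_zspanOn_compl zspanOn_neg zspanOn_zsmul zspanOn_sub zspanOn_mono)
open scoped ComplexConjugate

universe u v

variable {N : Type u} [Group N] [Fintype N] {G : Type v} [Group G] [Fintype G]

theorem iso_mono {E E' : Set (N → ℂ)} {τ : (N → ℂ) → (G → ℂ)} (h : IsLinearIsometryOn E τ)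
    (hsub : E' ⊆ E) : IsLinearIsometryOn E' τ :=
  ⟨fun α hα β hβ => h.1 α (hsub hα) β (hsub hβ), fun α hα m => h.2.1 α (hsub hα) m,
    fun α hα β hβ => h.2.2.1 α (hsub hα) β (hsub hβ), fun α hα => h.2.2.2 α (hsub hα)⟩

/-- A set of at least two irreducible characters of the same degree is coherent. -/
theorem equal_deg (T : Finset (N → ℂ)) (hirr : ∀ ξ ∈ T, IsIrrCharacter N ξ)
    (hdeg : ∀ ξ ∈ T, ∀ η ∈ T, ξ 1 = η 1) (htwo : 2 ≤ T.card)
    (τ : (N → ℂ) → (G → ℂ)) (hτ : IsLinearIsometryOn (zspanOn (↑T : Set (N → ℂ)) {1}ᶜ) τ)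
    (hτ1 : ∀ α ∈ zspanOn (↑T : Set (N → ℂ)) {1}ᶜ, τ α 1 = 0) :
    IsCoherent (↑T : Set (N → ℂ)) {1}ᶜ τ := by
  classical
  obtain ⟨e, he⟩ : ∃ e : Fin T.card ≃ T, e = T.equivFin.symm := ⟨_, rfl⟩
  obtain ⟨χ, hχdef⟩ : ∃ χ : Fin T.card → (N → ℂ), χ = fun i => ((e i : T) : N → ℂ) := ⟨_, rfl⟩
  have hχT : ∀ i, χ i ∈ T := fun i => by rw [hχdef]; exact (e i).2
  have hχinj : ∀ i k, χ i = χ k ↔ i = k := by
    intro i k
    constructor
    · intro h
      rw [hχdef] at h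
      exact e.injective (Subtype.ext h)
    · intro h; rw [h]
  have hχsurj : ∀ φ ∈ T, ∃ i, χ i = φ := by
    intro φ hφ
    refine ⟨e.symm ⟨φ, hφ⟩, ?_⟩
    rw [hχdef]
    simp
  have hχirr : ∀ i, IsIrrCharacter N (χ i) := fun i => hirr _ (hχT i)
  let i₀ : Fin T.card := ⟨0, by omega⟩
  let i₁ : Fin T.card := ⟨1, by omega⟩
  have hmem : ∀ i j, χ i - χ j ∈ zspanOn (↑T : Set (N → ℂ)) {1}ᶜ := fun i j =>
    sub_mem_zspanOn_compl (Finset.mem_coe.mpr (hχT i)) (Finset.mem_coe.mpr (hχT j))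
      (hdeg _ (hχT i) _ (hχT j))
  obtain ⟨D, hDdef⟩ : ∃ D : Fin T.card → (G → ℂ), D = fun i => τ (χ i - χ i₀) := ⟨_, rfl⟩
  have hDgen : ∀ i, IsGeneralizedCharacter G (D i) := fun i => by
    rw [hDdef]; exact hτ.2.2.2 _ (hmem i i₀)
  choose a b ha hb hD using hDgen
  obtain ⟨Φ, hΦdef⟩ : ∃ Φ : Fin T.card → (G → ℂ), Φ = fun i => D i + ∑ k, b k := ⟨_, rfl⟩
  have hchar : ∀ i, IsCharacter G (Φ i) := by
    intro i
    have h1 : Φ i = a i + ∑ k ∈ Finset.univ.erase i, b k := by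
      rw [hΦdef]
      show D i + ∑ k, b k = _
      rw [hD i, ← Finset.add_sum_erase Finset.univ b (Finset.mem_univ i)]
      abel
    rw [h1]
    exact Ops.isCharacter_add (ha i) (Ops.isCharacter_sum _ _ (fun k _ => hb k))
  have hΦsub : ∀ i j, Φ i - Φ j = τ (χ i - χ j) := by
    intro i j
    have h1 : Φ i - Φ j = D i - D j := by
      rw [hΦdef]
      show D i + ∑ k, b k - (D j + ∑ k, b k) = _
      abel
    have h2 : χ i - χ j = (χ i - χ i₀) - (χ j - χ i₀) := by abel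
    rw [h1, h2, tau_sub hτ (hmem i i₀) (hmem j i₀) (zspanOn_neg (hmem j i₀)), hDdef]
  have hinner : ∀ i j k l, classInner (Φ i - Φ j) (Φ k - Φ l) =
      (if i = k then (1 : ℂ) else 0) - (if i = l then 1 else 0) - (if j = k then 1 else 0)
        + (if j = l then 1 else 0) := by
    intro i j k l
    rw [hΦsub, hΦsub, hτ.2.2.1 _ (hmem i j) _ (hmem k l)]
    simp only [Orth.classInner_sub_left, classInner_sub_right,
      irr_inner (hχirr _) (hχirr _), hχinj]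
    ring
  have hone : ∀ i j, Φ i 1 = Φ j 1 := by
    intro i j
    have h : ∀ i, Φ i 1 = (∑ k, b k) 1 := by
      intro i
      rw [hΦdef]
      show (D i + ∑ k, b k) 1 = _
      rw [Pi.add_apply, hDdef]
      show τ (χ i - χ i₀) 1 + _ = _
      rw [hτ1 _ (hmem i i₀), zero_add]
    rw [h i, h j]
  obtain ⟨ε, hε, θ, hθirr, hθinj, hθ⟩ :=
    Cfsg.Agent.Lib.Helper25.TIInd.exceptional htwo Φ hchar hinner hone
  have hεε : ε * conj ε = 1 := by
    rcases hε with h | h <;> rw [h] <;> simp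
  obtain ⟨U, hUdef⟩ : ∃ U : (N → ℂ) → (G → ℂ),
      U = fun φ => if h : φ ∈ T then ε • θ (e.symm ⟨φ, h⟩) else 0 := ⟨_, rfl⟩
  have hUχ : ∀ i, U (χ i) = ε • θ i := by
    intro i
    rw [hUdef]
    show (if h : χ i ∈ T then ε • θ (e.symm ⟨χ i, h⟩) else 0) = _
    rw [dif_pos (hχT i)]
    have h2 : e.symm ⟨χ i, hχT i⟩ = i := by
      rw [Equiv.symm_apply_eq]
      apply Subtype.ext
      show χ i = ((e i : T) : N → ℂ)
      rw [hχdef]
    rw [h2]
  obtain ⟨τ₁, hτ₁, hval⟩ := extension T (fun _ => 1) (fun _ _ => one_ne_zero)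
    (fun φ hφ => by rw [irr_inner_self (hirr φ hφ), Nat.cast_one])
    (fun φ hφ ψ hψ hne => irr_inner_ne (hirr φ hφ) (hirr ψ hψ) hne) U
    (by
      intro φ hφ
      obtain ⟨i, rfl⟩ := hχsurj φ hφ
      rw [hUχ]
      rcases hε with h | h
      · rw [h, one_smul]; exact isGeneralizedCharacter_of_irr (hθirr i)
      · rw [h, neg_one_smul]
        exact isGeneralizedCharacter_neg (isGeneralizedCharacter_of_irr (hθirr i)))
    (by
      intro φ hφ ψ hψ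
      obtain ⟨i, rfl⟩ := hχsurj φ hφ
      obtain ⟨j, rfl⟩ := hχsurj ψ hψ
      rw [hUχ, hUχ, Orth.classInner_smul_left, classInner_smul_right,
        irr_inner (hθirr i) (hθirr j), irr_inner (hχirr i) (hχirr j), ← mul_assoc, hεε, one_mul]
      by_cases hij : i = j
      · rw [if_pos (by rw [hij]), if_pos (by rw [hij])]
      · rw [if_neg (fun h => hij (hθinj h)), if_neg (fun h => hij ((hχinj i j).mp h))])
  have h01 : χ i₀ ≠ χ i₁ := by
    intro h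
    have := (hχinj i₀ i₁).mp h
    simp [i₀, i₁, Fin.ext_iff] at this
  refine ⟨⟨χ i₀ - χ i₁, hmem i₀ i₁, fun h => h01 (sub_eq_zero.mp h)⟩, τ₁, hτ₁, ?_⟩
  intro α hα
  obtain ⟨c, rfl⟩ := mem_zspan_finset T hα.1
  rw [hval]
  have hα1 := hα.2 1 (by simp)
  obtain ⟨m, hmpos, hm⟩ := irr_exists_apply_one_pos (hχirr i₀)
  have hsum0 : ∑ φ ∈ T, c φ = 0 := by
    have h1 : (∑ φ ∈ T, c φ • φ) 1 = ((∑ φ ∈ T, c φ : ℤ) : ℂ) * (m : ℂ) := by
      rw [Finset.sum_apply]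
      push_cast
      rw [Finset.sum_mul]
      refine Finset.sum_congr rfl fun φ hφ => ?_
      rw [zsmul_apply, hdeg φ hφ _ (hχT i₀), hm]
    rw [h1] at hα1
    have hmC : (m : ℂ) ≠ 0 := by exact_mod_cast hmpos.ne'
    have h2 : ((∑ φ ∈ T, c φ : ℤ) : ℂ) = 0 := by
      rcases mul_eq_zero.mp hα1 with h | h
      · exact h
      · exact absurd h hmC
    exact_mod_cast h2
  have hφmem : ∀ φ ∈ T, φ - χ i₀ ∈ zspanOn (↑T : Set (N → ℂ)) {1}ᶜ := by
    intro φ hφ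
    obtain ⟨i, rfl⟩ := hχsurj φ hφ
    exact hmem i i₀
  have hτφ : ∀ φ ∈ T, τ (φ - χ i₀) = U φ - U (χ i₀) := by
    intro φ hφ
    obtain ⟨i, rfl⟩ := hχsurj φ hφ
    rw [← hΦsub, hθ, hUχ, hUχ, smul_sub]
  have e1 : ∑ φ ∈ T, c φ • φ = ∑ φ ∈ T, c φ • (φ - χ i₀) := by
    have h1 : ∑ φ ∈ T, c φ • (φ - χ i₀) = ∑ φ ∈ T, c φ • φ - (∑ φ ∈ T, c φ) • χ i₀ := by
      rw [Finset.sum_smul, ← Finset.sum_sub_distrib]
      exact Finset.sum_congr rfl fun φ _ => smul_sub _ _ _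
    rw [h1, hsum0, zero_smul, sub_zero]
  rw [e1, tau_sum hτ T _ (fun φ hφ => zspanOn_zsmul (hφmem φ hφ) _)]
  have e2 : ∑ φ ∈ T, τ (c φ • (φ - χ i₀)) = ∑ φ ∈ T, c φ • (U φ - U (χ i₀)) :=
    Finset.sum_congr rfl fun φ hφ => by rw [hτ.2.1 _ (hφmem φ hφ), hτφ φ hφ]
  rw [e2]
  have e3 : ∑ φ ∈ T, c φ • (U φ - U (χ i₀)) = ∑ φ ∈ T, c φ • U φ - (∑ φ ∈ T, c φ) • U (χ i₀) := by
    rw [Finset.sum_smul, ← Finset.sum_sub_distrib]
    exact Finset.sum_congr rfl fun φ _ => smul_sub _ _ _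
  rw [e3, hsum0, zero_smul, sub_zero]

/-- Chain form of Feit's criterion. -/
theorem chain (T₀ T : Finset (N → ℂ)) (hT₀T : T₀ ⊆ T) (hirr : ∀ ξ ∈ T, IsIrrCharacter N ξ)
    (d : (N → ℂ) → ℕ) (hd : ∀ ξ ∈ T, ξ 1 = (d ξ : ℂ))
    (τ : (N → ℂ) → (G → ℂ)) (hτ : IsLinearIsometryOn (zspanOn (↑T : Set (N → ℂ)) {1}ᶜ) τ)
    (hτ1 : ∀ α ∈ zspanOn (↑T : Set (N → ℂ)) {1}ᶜ, τ α 1 = 0)
    (hcoh : IsCoherent (↑T₀ : Set (N → ℂ)) {1}ᶜ τ) (ψ : N → ℂ) (hψ : ψ ∈ T₀)
    (hstep : ∀ χ ∈ T, χ ∉ T₀ → d ψ ∣ d χ ∧ 2 * d ψ * d χ < ∑ ξ ∈ T₀, d ξ ^ 2) :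
    IsCoherent (↑T : Set (N → ℂ)) {1}ᶜ τ := by
  classical
  have key : ∀ k : ℕ, ∀ T' : Finset (N → ℂ), T₀ ⊆ T' → T' ⊆ T → (T' \ T₀).card = k →
      IsCoherent (↑T' : Set (N → ℂ)) {1}ᶜ τ := by
    intro k
    induction k with
    | zero =>
      intro T' h0 _ hk
      have hsub : T' ⊆ T₀ := by
        rw [Finset.card_eq_zero, Finset.sdiff_eq_empty_iff_subset] at hk
        exact hk
      rw [Finset.Subset.antisymm hsub h0]
      exact hcoh
    | succ k ih =>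
      intro T' h0 hT' hk
      have hne : (T' \ T₀).Nonempty := by
        rw [← Finset.card_pos, hk]; omega
      obtain ⟨χ, hχ⟩ := hne
      obtain ⟨hχT', hχT₀⟩ := Finset.mem_sdiff.mp hχ
      have h0' : T₀ ⊆ T'.erase χ := by
        intro x hx
        exact Finset.mem_erase.mpr ⟨fun h => hχT₀ (h ▸ hx), h0 hx⟩
      have hsub' : T'.erase χ ⊆ T := (Finset.erase_subset _ _).trans hT'
      have hk' : (T'.erase χ \ T₀).card = k := by
        have h1 : T'.erase χ \ T₀ = (T' \ T₀).erase χ := by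
          ext x
          simp only [Finset.mem_sdiff, Finset.mem_erase]
          tauto
        rw [h1, Finset.card_erase_of_mem hχ, hk]
        rfl
      have hcoh' := ih (T'.erase χ) h0' hsub' hk'
      have hins : insert χ (T'.erase χ) = T' := Finset.insert_erase hχT'
      have hinsT : (↑(insert χ (T'.erase χ)) : Set (N → ℂ)) ⊆ ↑T := by
        rw [hins]; exact Finset.coe_subset.mpr hT'
      have hres := Cfsg.Agent.Lib.Helper25.FeitCrit.feit_criterion (T'.erase χ) χ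
        (fun ξ hξ => hirr ξ (hsub' hξ)) (hirr χ (hT' hχT')) (Finset.notMem_erase χ T') d
        (fun ξ hξ => hd ξ (hinsT (Finset.mem_coe.mpr hξ))) τ
        (iso_mono hτ (fun α hα => zspanOn_mono hinsT hα))
        (fun α hα => hτ1 α (zspanOn_mono hinsT hα)) hcoh' ψ (h0' hψ)
        (hstep χ (hT' hχT') hχT₀).1
        (lt_of_lt_of_le (hstep χ (hT' hχT') hχT₀).2
          (Finset.sum_le_sum_of_subset h0'))
      rw [hins] at hres
      exact hres
  exact key _ T hT₀T (Finset.Subset.refl T) rfl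

end Cfsg.Agent.Lib.Helper25.FeitBase
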