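import Mathlib

set_option autoImplicit false

/-! Two integer lemmas used in linking two coherent sets of characters. -/

namespace Cfsg.Agent.Lib.Helper25.SibInt

theorem sq_eq_one_iff_of_ne_minus_one'' (z : ℤ) (h : z ^ 2 = 1) : z = 1 ∨ z = -1 := by
  have h1 : (z - 1) * (z + 1) = 0 := by ring_nf; linarith
  rcases mul_eq_zero.mp h1 with h2 | h2
  · left; omega
  · right; omega

theorem intA {ι : Type*} [DecidableEq ι] (X : Finset ι) (χ : ι) (hχ : χ ∈ X) (hX2 : 2 ≤ X.card)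
    (x : ι → ℤ) (d : ι → ℤ) (hd : ∀ ξ ∈ X, 0 < d ξ)
    (hR : ∀ ξ ∈ X, ξ ≠ χ → d χ * x ξ = d ξ * (x χ - 1)) :
    1 ≤ ∑ ξ ∈ X, x ξ ^ 2 ∧ (∑ ξ ∈ X, x ξ ^ 2 ≤ 1 →
      (∀ ξ ∈ X, x ξ = if ξ = χ then 1 else 0) ∨
      (∃ χ' ∈ X, χ' ≠ χ ∧ X = {χ, χ'} ∧ d χ' = d χ ∧ x χ = 0 ∧ x χ' = -1)) := by
  have hsplit : ∑ ξ ∈ X, x ξ ^ 2 = x χ ^ 2 + ∑ ξ ∈ X.erase χ, x ξ ^ 2 :=
    (Finset.add_sum_erase X (fun ξ => x ξ ^ 2) hχ).symm
  have hcard : (X.erase χ).card = X.card - 1 := Finset.card_erase_of_mem hχ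
  by_cases h1 : x χ = 1
  · have hz : ∀ ξ ∈ X.erase χ, x ξ = 0 := by
      intro ξ hξ
      obtain ⟨hne, hξX⟩ := Finset.mem_erase.mp hξ
      have := hR ξ hξX hne
      rw [h1, sub_self, mul_zero] at this
      rcases mul_eq_zero.mp this with h | h
      · have := hd χ hχ
        omega
      · exact h
    have hs0 : ∑ ξ ∈ X.erase χ, x ξ ^ 2 = 0 :=
      Finset.sum_eq_zero fun ξ hξ => by rw [hz ξ hξ]; rfl
    rw [hsplit, hs0, h1]
    refine ⟨by norm_num, fun _ => Or.inl ?_⟩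
    intro ξ hξ
    by_cases hξχ : ξ = χ
    · rw [if_pos hξχ, hξχ, h1]
    · rw [if_neg hξχ]
      exact hz ξ (Finset.mem_erase.mpr ⟨hξχ, hξ⟩)
  · have hnz : ∀ ξ ∈ X.erase χ, 1 ≤ x ξ ^ 2 := by
      intro ξ hξ
      obtain ⟨hne, hξX⟩ := Finset.mem_erase.mp hξ
      have hx0 : x ξ ≠ 0 := by
        intro h0
        have := hR ξ hξX hne
        rw [h0, mul_zero] at this
        rcases mul_eq_zero.mp this.symm with h | h
        · have := hd ξ hξX
          omega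
        · exact h1 (by omega)
      have : 0 < x ξ ^ 2 := by positivity
      omega
    have hge : ((X.erase χ).card : ℤ) ≤ ∑ ξ ∈ X.erase χ, x ξ ^ 2 := by
      have := Finset.card_nsmul_le_sum (X.erase χ) (fun ξ => x ξ ^ 2) 1 hnz
      simpa using this
    have hc1 : (1 : ℤ) ≤ ((X.erase χ).card : ℤ) := by
      have : 1 ≤ (X.erase χ).card := by omega
      exact_mod_cast this
    have hsq : 0 ≤ x χ ^ 2 := by positivity
    refine ⟨by rw [hsplit]; omega, fun hle => Or.inr ?_⟩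
    rw [hsplit] at hle
    have hcard1 : (X.erase χ).card = 1 := by
      have : ((X.erase χ).card : ℤ) ≤ 1 := by omega
      have : (X.erase χ).card ≤ 1 := by exact_mod_cast this
      omega
    obtain ⟨χ', hχ'⟩ := Finset.card_eq_one.mp hcard1
    have hχ'mem : χ' ∈ X.erase χ := by rw [hχ']; exact Finset.mem_singleton_self _
    obtain ⟨hne, hχ'X⟩ := Finset.mem_erase.mp hχ'mem
    have hsum1 : ∑ ξ ∈ X.erase χ, x ξ ^ 2 = x χ' ^ 2 := by
      rw [hχ', Finset.sum_singleton]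
    rw [hsum1] at hle hge
    rw [hcard1] at hge
    have hx0 : x χ = 0 := by
      have : x χ ^ 2 = 0 := by
        push_cast at hge
        omega
      exact pow_eq_zero_iff (by norm_num) |>.mp this
    have hx'sq : x χ' ^ 2 = 1 := by
      push_cast at hge
      omega
    have hrel := hR χ' hχ'X hne
    rw [hx0] at hrel
    have hdχ := hd χ hχ
    have hdχ' := hd χ' hχ'X
    have hx' : x χ' = -1 := by
      have h2 : x χ' = 1 ∨ x χ' = -1 := sq_eq_one_iff_of_ne_minus_one'' (x χ') hx'sq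
      rcases h2 with h | h
      · rw [h] at hrel
        nlinarith
      · exact h
    refine ⟨χ', hχ'X, hne, ?_, ?_, hx0, hx'⟩
    · rw [← Finset.insert_erase hχ, hχ']
    · rw [hx'] at hrel
      linarith

theorem intB {ι : Type*} [DecidableEq ι] (Y : Finset ι) (ζ : ι) (hζ : ζ ∈ Y) (hY2 : 2 ≤ Y.card)
    (y : ι → ℤ) (a : ℤ) (ha : 0 < a) (hR : ∀ η ∈ Y, η ≠ ζ → y η = y ζ + a) (hdiv : a ∣ y ζ) :
    a ^ 2 ≤ ∑ η ∈ Y, y η ^ 2 ∧ (∑ η ∈ Y, y η ^ 2 ≤ a ^ 2 →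
      (y ζ = -a ∧ ∀ η ∈ Y, η ≠ ζ → y η = 0) ∨
      (∃ ζ' ∈ Y, ζ' ≠ ζ ∧ Y = {ζ, ζ'} ∧ y ζ = 0 ∧ y ζ' = a)) := by
  obtain ⟨m, hm⟩ := hdiv
  have hcard : (Y.erase ζ).card = Y.card - 1 := Finset.card_erase_of_mem hζ
  have hsplit : ∑ η ∈ Y, y η ^ 2 = y ζ ^ 2 + ∑ η ∈ Y.erase ζ, y η ^ 2 :=
    (Finset.add_sum_erase Y (fun η => y η ^ 2) hζ).symm
  have hs : ∑ η ∈ Y.erase ζ, y η ^ 2 = ((Y.erase ζ).card : ℤ) * (a * (m + 1)) ^ 2 := by
    rw [Finset.sum_congr rfl (fun η hη => by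
      obtain ⟨hne, hηY⟩ := Finset.mem_erase.mp hη
      rw [hR η hηY hne, hm]), Finset.sum_const, nsmul_eq_mul]
    ring
  obtain ⟨c, hc⟩ : ∃ c : ℤ, c = ((Y.erase ζ).card : ℤ) := ⟨_, rfl⟩
  have hc1 : 1 ≤ c := by
    rw [hc]
    have : 1 ≤ (Y.erase ζ).card := by omega
    exact_mod_cast this
  have htot : ∑ η ∈ Y, y η ^ 2 = a ^ 2 * (m ^ 2 + c * (m + 1) ^ 2) := by
    rw [hsplit, hs, hm, ← hc]
    ring
  have ha2 : 0 < a ^ 2 := by positivity
  have hm2 : 0 ≤ m ^ 2 := by positivity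
  have hm12 : 0 ≤ (m + 1) ^ 2 := by positivity
  have hge1 : 1 ≤ m ^ 2 + c * (m + 1) ^ 2 := by
    by_cases hm1 : m = -1
    · rw [hm1]
      norm_num
    · have : 1 ≤ (m + 1) ^ 2 := by
        have h0 : m + 1 ≠ 0 := fun h => hm1 (by omega)
        have : 0 < (m + 1) ^ 2 := by positivity
        omega
      nlinarith
  refine ⟨by rw [htot]; nlinarith, fun hle => ?_⟩
  rw [htot] at hle
  have hle1 : m ^ 2 + c * (m + 1) ^ 2 ≤ 1 := by
    by_contra hcon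
    push Not at hcon
    have : a ^ 2 * 2 ≤ a ^ 2 * (m ^ 2 + c * (m + 1) ^ 2) :=
      mul_le_mul_of_nonneg_left (by omega) ha2.le
    nlinarith
  by_cases hm1 : m = -1
  · left
    refine ⟨by rw [hm, hm1]; ring, fun η hη hne => ?_⟩
    rw [hR η hη hne, hm, hm1]
    ring
  · right
    have h12 : 1 ≤ (m + 1) ^ 2 := by
      have h0 : m + 1 ≠ 0 := fun h => hm1 (by omega)
      have : 0 < (m + 1) ^ 2 := by positivity
      omega
    have hcm : c ≤ c * (m + 1) ^ 2 := by nlinarith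
    have hm0 : m = 0 := by
      have : m ^ 2 = 0 := by omega
      exact pow_eq_zero_iff (by norm_num) |>.mp this
    have hceq : c = 1 := by omega
    have hcard1 : (Y.erase ζ).card = 1 := by
      rw [hc] at hceq
      exact_mod_cast hceq
    obtain ⟨ζ', hζ'⟩ := Finset.card_eq_one.mp hcard1
    have hζ'mem : ζ' ∈ Y.erase ζ := by rw [hζ']; exact Finset.mem_singleton_self _
    obtain ⟨hne, hζ'Y⟩ := Finset.mem_erase.mp hζ'mem
    have hy0 : y ζ = 0 := by rw [hm, hm0, mul_zero]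
    refine ⟨ζ', hζ'Y, hne, ?_, hy0, ?_⟩
    · rw [← Finset.insert_erase hζ, hζ']
    · rw [hR ζ' hζ'Y hne, hy0, zero_add]

end Cfsg.Agent.Lib.Helper25.SibInt
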