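import Mathlib
import Cfsg.Agent.S1531
import Cfsg.Agent.Lib.Helper25.FeitBase
import Cfsg.Agent.Lib.Helper25.SibInt

set_option autoImplicit false
open Cfsg

/-! Linking two coherent sets of irreducible characters (Sibley's argument): if the
second set consists of characters of one degree `e` dividing the degrees of the first, and
the relevant inner products are divisible by the degree ratio, the union is coherent. -/

namespace Cfsg.Agent.Lib.Helper25.SibLink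

open Cfsg.Agent.Lib.CT Cfsg.Agent.Lib.CT.Wedderburn Cfsg.Agent.Lib.Helper26.GenChar
open Cfsg.Agent.Lib.Helper26.Coherence (irr_inner irr_inner_self irr_inner_ne zsmul_apply
  subset_zspan zsmul_mem_zspan sub_mem_zspan iso_sub iso_zsmul iso_add isZSub_zspan)
open Cfsg.Agent.Lib.Helper76.Coherence (extension mem_zspan_finset zspanOn_mono
  sub_mem_zspanOn_compl bessel_le bessel_eq)
open Cfsg.Agent.Lib.Helper25.SibInt
open scoped ComplexConjugate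

universe u v

theorem lin_mem {X : Type*} {S : Set (X → ℂ)} {φ ψ : X → ℂ} (hφ : φ ∈ S) (hψ : ψ ∈ S)
    (m n : ℤ) (x₀ : X) (h : (m : ℂ) * φ x₀ = (n : ℂ) * ψ x₀) :
    m • φ - n • ψ ∈ zspanOn S ({x₀}ᶜ : Set X) := by
  refine ⟨sub_mem_zspan (zsmul_mem_zspan m (subset_zspan hφ))
    (zsmul_mem_zspan n (subset_zspan hψ)), fun x hx => ?_⟩
  have hx' : x = x₀ := by
    by_contra hne
    exact hx hne
  rw [hx', Pi.sub_apply, zsmul_apply, zsmul_apply, h, sub_self]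

/-- For a coherent pair of characters of the same degree, the swapped and negated extension
is again an extension. -/
theorem swap {L : Type u} [Group L] [Fintype L] {G : Type v} [Group G] [Fintype G]
    (χ χ' : L → ℂ) (hne : χ ≠ χ') (hχ : IsIrrCharacter L χ)
    (hχ' : IsIrrCharacter L χ') (hdeg : χ 1 = χ' 1) (α σ : (L → ℂ) → (G → ℂ))
    (hσ : IsLinearIsometryOn (zspan (↑({χ, χ'} : Finset (L → ℂ)) : Set (L → ℂ))) σ)
    (hσα : ∀ θ ∈ zspanOn (↑({χ, χ'} : Finset (L → ℂ)) : Set (L → ℂ)) {1}ᶜ, σ θ = α θ) :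
    ∃ σ' : (L → ℂ) → (G → ℂ),
      IsLinearIsometryOn (zspan (↑({χ, χ'} : Finset (L → ℂ)) : Set (L → ℂ))) σ' ∧
      (∀ θ ∈ zspanOn (↑({χ, χ'} : Finset (L → ℂ)) : Set (L → ℂ)) {1}ᶜ, σ' θ = α θ) ∧
      σ' χ = -σ χ' ∧ σ' χ' = -σ χ := by
  classical
  have hmχ : χ ∈ zspan (↑({χ, χ'} : Finset (L → ℂ)) : Set (L → ℂ)) := subset_zspan (by simp)
  have hmχ' : χ' ∈ zspan (↑({χ, χ'} : Finset (L → ℂ)) : Set (L → ℂ)) :=
    subset_zspan (by simp)
  have hT : ∀ φ ∈ ({χ, χ'} : Finset (L → ℂ)), φ = χ ∨ φ = χ' := by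
    intro φ hφ
    rcases Finset.mem_insert.mp hφ with h | h
    · exact Or.inl h
    · exact Or.inr (Finset.mem_singleton.mp h)
  obtain ⟨U, hUdef⟩ : ∃ U : (L → ℂ) → (G → ℂ),
      U = fun φ => if φ = χ then -σ χ' else -σ χ := ⟨_, rfl⟩
  have hUχ : U χ = -σ χ' := by
    rw [hUdef]
    show (if χ = χ then -σ χ' else -σ χ) = _
    rw [if_pos rfl]
  have hUχ' : U χ' = -σ χ := by
    rw [hUdef]
    show (if χ' = χ then -σ χ' else -σ χ) = _
    rw [if_neg hne.symm]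
  have hin : ∀ a b : L → ℂ, classInner (-σ a) (-σ b) = classInner (σ a) (σ b) := by
    intro a b
    rw [Orth.classInner_neg_left, classInner_neg_right, neg_neg]
  have i1 : classInner χ χ = 1 := irr_inner_self hχ
  have i2 : classInner χ' χ' = 1 := irr_inner_self hχ'
  have i3 : classInner χ χ' = 0 := irr_inner_ne hχ hχ' hne
  have i4 : classInner χ' χ = 0 := irr_inner_ne hχ' hχ hne.symm
  obtain ⟨σ', hσ', hval⟩ := extension ({χ, χ'} : Finset (L → ℂ)) (fun _ => 1)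
    (fun _ _ => one_ne_zero)
    (fun φ hφ => by
      rcases hT φ hφ with rfl | rfl
      · rw [i1, Nat.cast_one]
      · rw [i2, Nat.cast_one])
    (fun φ hφ ψ hψ hne' => by
      rcases hT φ hφ with rfl | rfl <;> rcases hT ψ hψ with rfl | rfl
      · exact absurd rfl hne'
      · exact i3
      · exact i4
      · exact absurd rfl hne')
    U
    (fun φ hφ => by
      rcases hT φ hφ with rfl | rfl
      · rw [hUχ]; exact isGeneralizedCharacter_neg (hσ.2.2.2 _ hmχ')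
      · rw [hUχ']; exact isGeneralizedCharacter_neg (hσ.2.2.2 _ hmχ))
    (fun φ hφ ψ hψ => by
      rcases hT φ hφ with rfl | rfl <;> rcases hT ψ hψ with rfl | rfl
      · rw [hUχ, hin, hσ.2.2.1 _ hmχ' _ hmχ', i1, i2]
      · rw [hUχ, hUχ', hin, hσ.2.2.1 _ hmχ' _ hmχ, i3, i4]
      · rw [hUχ, hUχ', hin, hσ.2.2.1 _ hmχ _ hmχ', i3, i4]
      · rw [hUχ', hin, hσ.2.2.1 _ hmχ _ hmχ, i1, i2])
  have hval2 : ∀ c : (L → ℂ) → ℤ, σ' (c χ • χ + c χ' • χ') = c χ • U χ + c χ' • U χ' := by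
    intro c
    have := hval c
    rwa [Finset.sum_pair hne, Finset.sum_pair hne] at this
  refine ⟨σ', hσ', ?_, ?_, ?_⟩
  · intro θ hθ
    obtain ⟨c, rfl⟩ := mem_zspan_finset _ hθ.1
    rw [← hσα _ hθ]
    have h1 := hθ.2 1 (by simp)
    rw [Finset.sum_pair hne] at h1 ⊢
    rw [Pi.add_apply, zsmul_apply, zsmul_apply, ← hdeg, ← add_mul] at h1
    obtain ⟨m, hm, hm1⟩ := irr_exists_apply_one_pos hχ
    have hχ1 : χ 1 ≠ 0 := by
      rw [hm1]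
      exact_mod_cast hm.ne'
    have hc : c χ' = -c χ := by
      rcases mul_eq_zero.mp h1 with h | h
      · have h2 : c χ + c χ' = 0 := by exact_mod_cast h
        omega
      · exact absurd h hχ1
    rw [hval2, hσ.1 _ (zsmul_mem_zspan _ hmχ) _ (zsmul_mem_zspan _ hmχ'), hσ.2.1 _ hmχ,
      hσ.2.1 _ hmχ', hUχ, hUχ', hc]
    simp only [neg_smul, smul_neg, neg_neg]
    abel
  · have := hval2 (fun φ => if φ = χ then 1 else 0)
    simp only [if_pos, if_neg hne.symm, one_smul, zero_smul, add_zero] at this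
    rw [this, hUχ]
  · have := hval2 (fun φ => if φ = χ then 0 else 1)
    simp only [if_pos, if_neg hne.symm, one_smul, zero_smul, zero_add] at this
    rw [this, hUχ']

/-- The link: two disjoint coherent sets `X`, `Y`, all members of `Y` of the degree of `ζ`,
`χ ∈ X` of degree `a` times that, with the inner products of `α (χ - a ζ)` with the extension
of `Y` divisible by `a`: then `X ∪ Y` is coherent. -/
theorem link {G : Type u} [Group G] [Fintype G] (N : Subgroup G) [Fintype N]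
    (S : Set (N → ℂ)) (X Y : Finset (N → ℂ)) (hirr : ∀ ξ ∈ S, IsIrrCharacter N ξ)
    (hXS : (↑X : Set (N → ℂ)) ⊆ S) (hYS : (↑Y : Set (N → ℂ)) ⊆ S) (hXY : Disjoint X Y)
    (hX2 : 2 ≤ X.card) (hY2 : 2 ≤ Y.card)
    (α : (N → ℂ) → (G → ℂ)) (hα : IsLinearIsometryOn (zspanOn S {1}ᶜ) α)
    (hα1 : ∀ θ ∈ zspanOn S {1}ᶜ, α θ 1 = 0)
    (σ τ : (N → ℂ) → (G → ℂ)) (hσ : IsLinearIsometryOn (zspan (↑X : Set (N → ℂ))) σ)
    (hσα : ∀ θ ∈ zspanOn (↑X : Set (N → ℂ)) {1}ᶜ, σ θ = α θ)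
    (hτ : IsLinearIsometryOn (zspan (↑Y : Set (N → ℂ))) τ)
    (hτα : ∀ θ ∈ zspanOn (↑Y : Set (N → ℂ)) {1}ᶜ, τ θ = α θ)
    (d : (N → ℂ) → ℕ) (hd : ∀ ξ ∈ S, ξ 1 = (d ξ : ℂ))
    (χ ζ : N → ℂ) (hχ : χ ∈ X) (hζ : ζ ∈ Y) (hYdeg : ∀ η ∈ Y, d η = d ζ) (a : ℕ)
    (ha : d χ = a * d ζ)
    (hdiv : ∀ η ∈ Y, ∃ k : ℤ, classInner (α (χ - (a : ℤ) • ζ)) (τ η) = (a : ℂ) * (k : ℂ)) :
    IsCoherent ((↑X : Set (N → ℂ)) ∪ ↑Y) {1}ᶜ α := by
  classical
  have hXS' : ∀ ξ ∈ X, ξ ∈ S := fun ξ h => hXS (Finset.mem_coe.mpr h)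
  have hYS' : ∀ ξ ∈ Y, ξ ∈ S := fun ξ h => hYS (Finset.mem_coe.mpr h)
  have hXirr : ∀ ξ ∈ X, IsIrrCharacter N ξ := fun ξ h => hirr ξ (hXS' ξ h)
  have hYirr : ∀ ξ ∈ Y, IsIrrCharacter N ξ := fun ξ h => hirr ξ (hYS' ξ h)
  have hdpos : ∀ ξ ∈ S, 0 < d ξ := by
    intro ξ hξ
    obtain ⟨m, hm, hm1⟩ := irr_exists_apply_one_pos (hirr ξ hξ)
    have h1 := hd ξ hξ
    rw [hm1] at h1
    have h2 : m = d ξ := by exact_mod_cast h1
    omega
  have ha0 : 0 < a := by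
    rcases Nat.eq_zero_or_pos a with h | h
    · rw [h, zero_mul] at ha
      have := hdpos χ (hXS' χ hχ)
      omega
    · exact h
  have hdisj : ∀ ξ ∈ X, ∀ η ∈ Y, ξ ≠ η := fun ξ hξ η hη h =>
    Finset.disjoint_left.mp hXY hξ (h ▸ hη)
  have hX2' : ∃ a ∈ (↑X : Set (N → ℂ)), ∃ b ∈ (↑X : Set (N → ℂ)), a ≠ b := by
    obtain ⟨a, ha, b, hb, hab⟩ := Finset.one_lt_card.mp (by omega : 1 < X.card)
    exact ⟨a, Finset.mem_coe.mpr ha, b, Finset.mem_coe.mpr hb, hab⟩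
  have hY2' : ∃ a ∈ (↑Y : Set (N → ℂ)), ∃ b ∈ (↑Y : Set (N → ℂ)), a ≠ b := by
    obtain ⟨a, ha, b, hb, hab⟩ := Finset.one_lt_card.mp (by omega : 1 < Y.card)
    exact ⟨a, Finset.mem_coe.mpr ha, b, Finset.mem_coe.mpr hb, hab⟩
  have hXYset : Disjoint (↑X : Set (N → ℂ)) ↑Y := Finset.disjoint_coe.mpr hXY
  have horth := (Cfsg.Agent.S1531.result N S ↑X ↑Y hirr hXS hYS hXYset hX2' hY2' α hα hα1 σ τ
    hσ hσα hτ hτα).1
  have hσmem : ∀ ξ ∈ X, ξ ∈ zspan (↑X : Set (N → ℂ)) := fun ξ h =>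
    subset_zspan (Finset.mem_coe.mpr h)
  have hτmem : ∀ η ∈ Y, η ∈ zspan (↑Y : Set (N → ℂ)) := fun η h =>
    subset_zspan (Finset.mem_coe.mpr h)
  obtain ⟨β, hβdef⟩ : ∃ β : N → ℂ, β = χ - (a : ℤ) • ζ := ⟨_, rfl⟩
  have hβ : β ∈ zspanOn S {1}ᶜ := by
    have := lin_mem (hXS' χ hχ) (hYS' ζ hζ) 1 (a : ℤ) (1 : N) (by
      rw [hd χ (hXS' χ hχ), hd ζ (hYS' ζ hζ), ha]
      push_cast
      ring)
    rwa [one_smul, ← hβdef] at this
  rw [← hβdef] at hdiv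
  obtain ⟨θ, hθdef⟩ : ∃ θ : G → ℂ, θ = α β := ⟨_, rfl⟩
  rw [← hθdef] at hdiv
  have hθgen : IsGeneralizedCharacter G θ := by
    rw [hθdef]
    exact hα.2.2.2 β hβ
  have iχχ : classInner χ χ = 1 := irr_inner_self (hXirr χ hχ)
  have iζζ : classInner ζ ζ = 1 := irr_inner_self (hYirr ζ hζ)
  have iχζ : classInner χ ζ = 0 := irr_inner_ne (hXirr χ hχ) (hYirr ζ hζ) (hdisj χ hχ ζ hζ)
  have iζχ : classInner ζ χ = 0 :=
    irr_inner_ne (hYirr ζ hζ) (hXirr χ hχ) (hdisj χ hχ ζ hζ).symm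
  have hββ : classInner β β = 1 + (a : ℂ) ^ 2 := by
    rw [hβdef]
    simp only [Orth.classInner_sub_left, classInner_sub_right, classInner_intCast_smul_left,
      classInner_intCast_smul_right, iχχ, iζζ, iχζ, iζχ]
    push_cast
    ring
  have hθθ : classInner θ θ = 1 + (a : ℂ) ^ 2 := by
    rw [hθdef, hα.2.2.1 β hβ β hβ, hββ]
  -- the coefficients
  have hxex : ∀ ξ : N → ℂ, ∃ n : ℤ, ξ ∈ X → classInner θ (σ ξ) = (n : ℂ) := by
    intro ξ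
    by_cases h : ξ ∈ X
    · obtain ⟨n, hn⟩ := classInner_genChar_int hθgen (hσ.2.2.2 ξ (hσmem ξ h))
      exact ⟨n, fun _ => hn⟩
    · exact ⟨0, fun h' => absurd h' h⟩
  choose x hx using hxex
  have hyex : ∀ η : N → ℂ, ∃ n : ℤ, η ∈ Y → classInner θ (τ η) = (n : ℂ) := by
    intro η
    by_cases h : η ∈ Y
    · obtain ⟨n, hn⟩ := classInner_genChar_int hθgen (hτ.2.2.2 η (hτmem η h))
      exact ⟨n, fun _ => hn⟩
    · exact ⟨0, fun h' => absurd h' h⟩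
  choose y hy using hyex
  have hR1 : ∀ ξ ∈ X, ξ ≠ χ → (d χ : ℤ) * x ξ = (d ξ : ℤ) * (x χ - 1) := by
    intro ξ hξ hne
    obtain ⟨γ, hγdef⟩ : ∃ γ : N → ℂ, γ = (d χ : ℤ) • ξ - (d ξ : ℤ) • χ := ⟨_, rfl⟩
    have hγX : γ ∈ zspanOn (↑X : Set (N → ℂ)) {1}ᶜ := by
      rw [hγdef]
      exact lin_mem (Finset.mem_coe.mpr hξ) (Finset.mem_coe.mpr hχ) _ _ 1 (by
        rw [hd χ (hXS' χ hχ), hd ξ (hXS' ξ hξ)]
        push_cast
        ring)
    have hγS : γ ∈ zspanOn S {1}ᶜ := zspanOn_mono hXS hγX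
    have e1 : classInner θ (σ γ) = classInner β γ := by
      rw [hσα γ hγX, hθdef, hα.2.2.1 β hβ γ hγS]
    have j1 : classInner χ ξ = 0 := irr_inner_ne (hXirr χ hχ) (hXirr ξ hξ) (Ne.symm hne)
    have j2 : classInner ζ ξ = 0 :=
      irr_inner_ne (hYirr ζ hζ) (hXirr ξ hξ) (hdisj ξ hξ ζ hζ).symm
    have e2 : classInner β γ = -(d ξ : ℂ) := by
      rw [hβdef, hγdef]
      simp only [Orth.classInner_sub_left, classInner_sub_right, classInner_intCast_smul_left,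
        classInner_intCast_smul_right, iχχ, iζχ, j1, j2]
      push_cast
      ring
    have e3 : σ γ = (d χ : ℤ) • σ ξ - (d ξ : ℤ) • σ χ := by
      rw [hγdef, iso_sub (isZSub_zspan _) hσ (zsmul_mem_zspan _ (hσmem ξ hξ))
        (zsmul_mem_zspan _ (hσmem χ hχ)), iso_zsmul hσ _ (hσmem ξ hξ),
        iso_zsmul hσ _ (hσmem χ hχ)]
    rw [e3, classInner_sub_right, classInner_intCast_smul_right, classInner_intCast_smul_right,
      hx ξ hξ, hx χ hχ, e2] at e1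
    have e4 : ((d χ : ℤ) * x ξ - (d ξ : ℤ) * x χ : ℤ) = -(d ξ : ℤ) := by exact_mod_cast e1
    linarith
  have hR2 : ∀ η ∈ Y, η ≠ ζ → y η = y ζ + (a : ℤ) := by
    intro η hη hne
    have hdeg : η 1 = ζ 1 := by
      rw [hd η (hYS' η hη), hd ζ (hYS' ζ hζ), hYdeg η hη]
    have hγY : η - ζ ∈ zspanOn (↑Y : Set (N → ℂ)) {1}ᶜ :=
      sub_mem_zspanOn_compl (Finset.mem_coe.mpr hη) (Finset.mem_coe.mpr hζ) hdeg
    have hγS : η - ζ ∈ zspanOn S {1}ᶜ := zspanOn_mono hYS hγY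
    have e1 : classInner θ (τ (η - ζ)) = classInner β (η - ζ) := by
      rw [hτα _ hγY, hθdef, hα.2.2.1 β hβ _ hγS]
    have j1 : classInner χ η = 0 := irr_inner_ne (hXirr χ hχ) (hYirr η hη) (hdisj χ hχ η hη)
    have j2 : classInner ζ η = 0 := irr_inner_ne (hYirr ζ hζ) (hYirr η hη) (Ne.symm hne)
    have e2 : classInner β (η - ζ) = (a : ℂ) := by
      rw [hβdef]
      simp only [Orth.classInner_sub_left, classInner_sub_right, classInner_intCast_smul_left,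
        iχζ, iζζ, j1, j2]
      push_cast
      ring
    rw [iso_sub (isZSub_zspan _) hτ (hτmem η hη) (hτmem ζ hζ), classInner_sub_right, hy η hη,
      hy ζ hζ, e2] at e1
    have e4 : (y η - y ζ : ℤ) = (a : ℤ) := by exact_mod_cast e1
    linarith
  have hR3 : (a : ℤ) ∣ y ζ := by
    obtain ⟨k, hk⟩ := hdiv ζ hζ
    rw [hy ζ hζ] at hk
    exact ⟨k, by exact_mod_cast hk⟩
  -- Bessel
  obtain ⟨w, hwdef⟩ : ∃ w : (N → ℂ) → (G → ℂ), w = fun ξ => if ξ ∈ X then σ ξ else τ ξ :=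
    ⟨_, rfl⟩
  have hwX : ∀ ξ ∈ X, w ξ = σ ξ := by
    intro ξ hξ
    rw [hwdef]
    show (if ξ ∈ X then σ ξ else τ ξ) = _
    rw [if_pos hξ]
  have hwY : ∀ η ∈ Y, w η = τ η := by
    intro η hη
    rw [hwdef]
    show (if η ∈ X then σ η else τ η) = _
    rw [if_neg (fun h => hdisj η h η hη rfl)]
  have hself : ∀ i ∈ X ∪ Y, classInner (w i) (w i) = (((fun _ => 1 : (N → ℂ) → ℕ) i : ℕ) : ℂ) := by
    intro i hi
    rcases Finset.mem_union.mp hi with h | h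
    · rw [hwX i h, hσ.2.2.1 _ (hσmem i h) _ (hσmem i h), irr_inner_self (hXirr i h)]
      simp
    · rw [hwY i h, hτ.2.2.1 _ (hτmem i h) _ (hτmem i h), irr_inner_self (hYirr i h)]
      simp
  have horthw : ∀ i ∈ X ∪ Y, ∀ j ∈ X ∪ Y, i ≠ j → classInner (w i) (w j) = 0 := by
    intro i hi j hj hij
    rcases Finset.mem_union.mp hi with h | h <;> rcases Finset.mem_union.mp hj with h' | h'
    · rw [hwX i h, hwX j h', hσ.2.2.1 _ (hσmem i h) _ (hσmem j h'),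
        irr_inner_ne (hXirr i h) (hXirr j h') hij]
    · rw [hwX i h, hwY j h']
      exact horth i (Finset.mem_coe.mpr h) j (Finset.mem_coe.mpr h')
    · rw [hwY i h, hwX j h', Clifford.classInner_conj_symm,
        horth j (Finset.mem_coe.mpr h') i (Finset.mem_coe.mpr h), map_zero]
    · rw [hwY i h, hwY j h', hτ.2.2.1 _ (hτmem i h) _ (hτmem j h'),
        irr_inner_ne (hYirr i h) (hYirr j h') hij]
  have hsumeq : ∑ i ∈ X ∪ Y, ‖classInner θ (w i)‖ ^ 2 / (((fun _ => 1 : (N → ℂ) → ℕ) i : ℕ) : ℝ)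
      = ((∑ ξ ∈ X, x ξ ^ 2 + ∑ η ∈ Y, y η ^ 2 : ℤ) : ℝ) := by
    rw [Finset.sum_union hXY]
    push_cast
    congr 1
    · refine Finset.sum_congr rfl fun ξ hξ => ?_
      rw [hwX ξ hξ, hx ξ hξ, Complex.norm_intCast, sq_abs]
      simp
    · refine Finset.sum_congr rfl fun η hη => ?_
      rw [hwY η hη, hy η hη, Complex.norm_intCast, sq_abs]
      simp
  have hre : (classInner θ θ).re = ((1 + (a : ℤ) ^ 2 : ℤ) : ℝ) := by
    rw [hθθ]
    push_cast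
    have : (1 + (a : ℂ) ^ 2) = (((1 + (a : ℝ) ^ 2 : ℝ)) : ℂ) := by push_cast; rfl
    rw [this, Complex.ofReal_re]
  have hbes := bessel_le (X ∪ Y) w (fun _ => 1) (fun _ _ => one_ne_zero) hself horthw θ
  rw [hsumeq, hre] at hbes
  have hbesZ : ∑ ξ ∈ X, x ξ ^ 2 + ∑ η ∈ Y, y η ^ 2 ≤ 1 + (a : ℤ) ^ 2 := by exact_mod_cast hbes
  have hA := intA X χ hχ hX2 x (fun ξ => (d ξ : ℤ))
    (fun ξ hξ => by exact_mod_cast hdpos ξ (hXS' ξ hξ)) hR1
  have hB := intB Y ζ hζ hY2 y (a : ℤ) (by exact_mod_cast ha0) hR2 hR3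
  have hAle : ∑ ξ ∈ X, x ξ ^ 2 ≤ 1 := by linarith [hB.1]
  have hBle : ∑ η ∈ Y, y η ^ 2 ≤ (a : ℤ) ^ 2 := by linarith [hA.1]
  have hθeq : θ = ∑ ξ ∈ X, (x ξ : ℂ) • σ ξ + ∑ η ∈ Y, (y η : ℂ) • τ η := by
    have h1 := bessel_eq (X ∪ Y) w (fun _ => 1) (fun _ _ => one_ne_zero) hself horthw θ (by
      rw [hsumeq, hre]
      have : (1 + (a : ℤ) ^ 2 : ℤ) ≤ ∑ ξ ∈ X, x ξ ^ 2 + ∑ η ∈ Y, y η ^ 2 := by
        linarith [hA.1, hB.1]
      exact_mod_cast this)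
    rw [Finset.sum_union hXY] at h1
    have e1 : ∑ ξ ∈ X, (classInner θ (w ξ) / (((fun _ => 1 : (N → ℂ) → ℕ) ξ : ℕ) : ℂ)) • w ξ
        = ∑ ξ ∈ X, (x ξ : ℂ) • σ ξ := by
      refine Finset.sum_congr rfl fun ξ hξ => ?_
      rw [hwX ξ hξ, hx ξ hξ]
      simp
    have e2 : ∑ η ∈ Y, (classInner θ (w η) / (((fun _ => 1 : (N → ℂ) → ℕ) η : ℕ) : ℂ)) • w η
        = ∑ η ∈ Y, (y η : ℂ) • τ η := by
      refine Finset.sum_congr rfl fun η hη => ?_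
      rw [hwY η hη, hy η hη]
      simp
    rw [e1, e2] at h1
    exact h1
  -- choose the extensions
  have CX : ∃ σ' : (N → ℂ) → (G → ℂ), IsLinearIsometryOn (zspan (↑X : Set (N → ℂ))) σ' ∧
      (∀ θ ∈ zspanOn (↑X : Set (N → ℂ)) {1}ᶜ, σ' θ = α θ) ∧
      ∑ ξ ∈ X, (x ξ : ℂ) • σ ξ = σ' χ := by
    rcases hA.2 hAle with h | ⟨χ', hχ', hne, hXeq, hdeq, hx0, hx1⟩
    · refine ⟨σ, hσ, hσα, ?_⟩
      rw [Finset.sum_eq_single χ]
      · rw [h χ hχ, if_pos rfl]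
        simp
      · intro ξ hξ hne
        rw [h ξ hξ, if_neg hne]
        simp
      · intro h'
        exact absurd hχ h'
    · subst hXeq
      have hdeg : χ 1 = χ' 1 := by
        rw [hd χ (hXS' χ hχ), hd χ' (hXS' χ' hχ')]
        have : d χ' = d χ := by exact_mod_cast hdeq
        rw [this]
      obtain ⟨σ', hσ', hσ'α, h1, -⟩ := swap χ χ' (Ne.symm hne) (hXirr χ hχ) (hXirr χ' hχ') hdeg α σ
        hσ hσα
      refine ⟨σ', hσ', hσ'α, ?_⟩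
      rw [Finset.sum_pair (Ne.symm hne), hx0, hx1, h1]
      simp
  have CY : ∃ τ' : (N → ℂ) → (G → ℂ), IsLinearIsometryOn (zspan (↑Y : Set (N → ℂ))) τ' ∧
      (∀ θ ∈ zspanOn (↑Y : Set (N → ℂ)) {1}ᶜ, τ' θ = α θ) ∧
      ∑ η ∈ Y, (y η : ℂ) • τ η = -((a : ℂ) • τ' ζ) := by
    rcases hB.2 hBle with ⟨h0, h⟩ | ⟨ζ', hζ', hne, hYeq, hy0, hy1⟩
    · refine ⟨τ, hτ, hτα, ?_⟩
      rw [Finset.sum_eq_single ζ]
      · rw [h0]
        push_cast
        rw [neg_smul]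
      · intro η hη hne
        rw [h η hη hne]
        simp
      · intro h'
        exact absurd hζ h'
    · subst hYeq
      have hdeg : ζ 1 = ζ' 1 := by
        rw [hd ζ (hYS' ζ hζ), hd ζ' (hYS' ζ' hζ'), hYdeg ζ' hζ']
      obtain ⟨τ', hτ', hτ'α, h1, -⟩ := swap ζ ζ' (Ne.symm hne) (hYirr ζ hζ) (hYirr ζ' hζ') hdeg α τ
        hτ hτα
      refine ⟨τ', hτ', hτ'α, ?_⟩
      rw [Finset.sum_pair (Ne.symm hne), hy0, hy1, h1]
      simp
  obtain ⟨σ', hσ', hσ'α, hsX⟩ := CX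
  obtain ⟨τ', hτ', hτ'α, hsY⟩ := CY
  rw [hsX, hsY] at hθeq
  refine (Cfsg.Agent.S1531.result N S ↑X ↑Y hirr hXS hYS hXYset hX2' hY2' α hα hα1 σ' τ'
    hσ' hσ'α hτ' hτ'α).2 ⟨χ, Finset.mem_coe.mpr hχ, ζ, Finset.mem_coe.mpr hζ, ?_⟩
  have e : χ 1 • ζ - ζ 1 • χ = (-(d ζ : ℤ)) • β := by
    rw [hβdef, hd χ (hXS' χ hχ), hd ζ (hYS' ζ hζ), ha]
    funext g
    simp only [Pi.sub_apply, Pi.smul_apply]
    simp only [smul_eq_mul, zsmul_eq_mul]
    push_cast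
    ring
  rw [e, hα.2.1 β hβ, ← hθdef, hθeq, hd χ (hXS' χ hχ), hd ζ (hYS' ζ hζ), ha]
  funext g
  simp only [Pi.sub_apply, Pi.smul_apply, Pi.add_apply, Pi.neg_apply]
  simp only [smul_eq_mul, zsmul_eq_mul]
  push_cast
  ring

end Cfsg.Agent.Lib.Helper25.SibLink
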