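import Mathlib
import Cfsg.Agent.Lib.Helper25.AICSpec

set_option autoImplicit false

namespace Cfsg.Agent.Lib.Helper25.AICCaseC

open Subgroup Cfsg.Agent.Lib.Helper25.AICSpec

universe u

theorem main (hA : QuotA.{u}) (hB : QuotB.{u}) (hC : StepC.{u}) : CaseC.{u} := by
  intro G _ _ S hHyp hL hcore hIH
  have hNle := hL.l5.core_le
  have hNodd := hL.l5.core_odd
  have hnorm : (NS S).normalCore.Normal := normalCore_normal _
  obtain ⟨T, hT, hTc, hTn, hTcard, hSyl⟩ :=
    hA G S hHyp.2.1 hHyp.2.2 (NS S).normalCore hNle hNodd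
  have hAIC := hB G hHyp.1 (NS S).normalCore hNle hNodd
  have hlt : Nat.card (G ⧸ (NS S).normalCore) < Nat.card G := by
    have h1 := Subgroup.card_eq_card_quotient_mul_card_subgroup (NS S).normalCore
    have h2 : 1 < Nat.card (NS S).normalCore := (NS S).normalCore.one_lt_card_iff_ne_bot.mpr hcore
    have h3 : 0 < Nat.card (G ⧸ (NS S).normalCore) := Nat.card_pos
    nlinarith
  have hQ := hIH (G ⧸ (NS S).normalCore) T hlt ⟨hAIC, hTc, hTn⟩
  exact hC G S hHyp hL (NS S).normalCore hNle hNodd T hT hTcard hSyl hQ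

end Cfsg.Agent.Lib.Helper25.AICCaseC
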