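import Mathlib
import Cfsg.Agent.Lib.Helper25.AICSpec

set_option autoImplicit false

namespace Cfsg.Agent.Lib.Helper25.AICCaseD

open Subgroup Cfsg.Agent.Lib.Helper25.AICSpec

universe u

theorem conj_mem_CS {G : Type u} [Group G] (S : Sylow 2 G) {h n : G} (hh : h ∈ NS S)
    (hn : n ∈ CS S) : h * n * h⁻¹ ∈ CS S := by
  unfold CS at *
  unfold NS at hh
  rw [mem_centralizer_iff] at *
  intro s hs
  have hs' : h⁻¹ * s * h ∈ (S : Subgroup G) := by
    have h1 := (mem_normalizer_iff.mp (inv_mem hh)) s
    rw [inv_inv] at h1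
    exact h1.mp hs
  have h2 := hn (h⁻¹ * s * h) hs'
  calc s * (h * n * h⁻¹) = h * ((h⁻¹ * s * h) * n) * h⁻¹ := by group
    _ = h * (n * (h⁻¹ * s * h)) * h⁻¹ := by rw [h2]
    _ = h * n * h⁻¹ * s := by group

theorem conj_mem_Aset {G : Type u} [Group G] (S : Sylow 2 G) {h n : G} (hh : h ∈ NS S)
    (hn : n ∈ Aset S) : h * n * h⁻¹ ∈ Aset S := by
  refine ⟨conj_mem_CS S hh hn.1, ?_⟩
  have : orderOf (h * n * h⁻¹) = orderOf n := by
    have := (MulAut.conj h).orderOf_eq n
    rwa [MulAut.conj_apply] at this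
  rw [this]
  exact hn.2

theorem main (hSub : Sub.{u}) (hD : StepD2.{u}) : CaseD.{u} := by
  intro G _ _ S hHyp hL hcore hex hIH
  obtain ⟨a, haA, ha1, hnle⟩ := hex
  have hCleN : CS S ≤ NS S := hL.l1.cle
  -- elements all of whose conjugates lie in `H` are trivial
  have hcoreA : ∀ b : G, (∀ g : G, g * b * g⁻¹ ∈ NS S) → b = 1 := by
    intro b hb
    have hmem : b ∈ (NS S).normalCore := hb
    rw [hcore] at hmem
    exact mem_bot.mp hmem
  -- `K = C_G(a)`
  have hSK : (S : Subgroup G) ≤ centralizer ({a} : Set G) := by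
    intro s hs
    rw [mem_centralizer_iff]
    intro x hx
    rw [Set.mem_singleton_iff] at hx
    subst hx
    have h1 := haA.1
    unfold CS at h1
    rw [mem_centralizer_iff] at h1
    exact (h1 s hs).symm
  have hKtop : centralizer ({a} : Set G) ≠ ⊤ := by
    intro htop
    apply ha1
    apply hcoreA
    intro g
    have hg : g ∈ centralizer ({a} : Set G) := by rw [htop]; exact mem_top g
    rw [mem_centralizer_iff] at hg
    have h1 := hg a (Set.mem_singleton a)
    have h2 : g * a * g⁻¹ = a := by rw [← h1, mul_inv_cancel_right]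
    rw [h2]
    exact hCleN haA.1
  have hKlt : Nat.card (centralizer ({a} : Set G)) < Nat.card G := by
    apply lt_of_le_of_ne (card_le_card_group _)
    intro heq
    exact hKtop (eq_top_of_card_eq _ heq)
  obtain ⟨hHypK, hAiffK, -, -, -⟩ := hSub G S hHyp (centralizer ({a} : Set G)) hSK hnle
  have hQK := hIH (centralizer ({a} : Set G)) (S.subtype hSK) hKlt hHypK
  -- every element of `K` centralizes `A`
  have hKA : ∀ x : G, x ∈ centralizer ({a} : Set G) → ∀ b : G, b ∈ Aset S → x * b = b * x := by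
    intro x hx b hb
    have hbK : b ∈ centralizer ({a} : Set G) := by
      rw [mem_centralizer_iff]
      intro y hy
      rw [Set.mem_singleton_iff] at hy
      subst hy
      exact hL.l1.comm _ _ haA.1 hb.1
    have hbT : (⟨b, hbK⟩ : centralizer ({a} : Set G)) ∈ Aset (S.subtype hSK) :=
      (hAiffK ⟨b, hbK⟩).mpr hb
    have hcen := hQK.1 _ hbT
    rw [mem_center_iff] at hcen
    have := hcen ⟨x, hx⟩
    exact congrArg Subtype.val this
  obtain ⟨x0, hx0K, hx0N⟩ := SetLike.not_le_iff_exists.mp hnle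
  -- `Y = N_G(A)`
  have hconjK : ∀ x : G, x ∈ centralizer ({a} : Set G) → ∀ n : G,
      (n ∈ Aset S ↔ x * n * x⁻¹ ∈ Aset S) := by
    intro x hx n
    constructor
    · intro hn
      have h1 := hKA x hx n hn
      have h2 : x * n * x⁻¹ = n := by rw [h1, mul_inv_cancel_right]
      rw [h2]; exact hn
    · intro hm
      have h1 := hKA x hx _ hm
      have h2 : n = x * n * x⁻¹ := by
        have h3 : x * (x * n * x⁻¹) = x * n := by
          rw [h1]; group
        exact (mul_left_cancel h3).symm
      rw [h2]; exact hm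
  have hx0Y : x0 ∈ normalizer (Aset S) := by
    rw [mem_set_normalizer_iff]
    exact hconjK x0 hx0K
  have hNY : NS S ≤ normalizer (Aset S) := by
    intro h hh
    rw [mem_set_normalizer_iff]
    intro n
    constructor
    · intro hn
      exact conj_mem_Aset S hh hn
    · intro hm
      have h1 := conj_mem_Aset S (inv_mem hh) hm
      have h2 : h⁻¹ * (h * n * h⁻¹) * h⁻¹⁻¹ = n := by group
      rwa [h2] at h1
  have hSY : (S : Subgroup G) ≤ normalizer (Aset S) := le_trans le_normalizer hNY
  have hYtop : normalizer (Aset S) ≠ ⊤ := by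
    intro htop
    apply ha1
    apply hcoreA
    intro g
    have hg : g ∈ normalizer (Aset S) := by rw [htop]; exact mem_top g
    rw [mem_set_normalizer_iff] at hg
    exact hCleN ((hg a).mp haA).1
  have hYnle : ¬ normalizer (Aset S) ≤ NS S := fun hle => hx0N (hle hx0Y)
  have hYlt : Nat.card (normalizer (Aset S)) < Nat.card G := by
    apply lt_of_le_of_ne (card_le_card_group _)
    intro heq
    exact hYtop (eq_top_of_card_eq _ heq)
  obtain ⟨hHypY, hAiffY, hmemY, hcardY, hSylY⟩ := hSub G S hHyp (normalizer (Aset S)) hSY hYnle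
  have hQY := hIH (normalizer (Aset S)) (S.subtype hSY) hYlt hHypY
  have hDS : DSet G S (normalizer (Aset S)) := by
    refine ⟨hHyp, hL, hNY, hYtop, hYnle, ?_, ?_, ?_⟩
    · intro y hy b hb
      have hbY : b ∈ normalizer (Aset S) := hNY (hCleN hb.1)
      have hbT : (⟨b, hbY⟩ : normalizer (Aset S)) ∈ Aset (S.subtype hSY) :=
        (hAiffY ⟨b, hbY⟩).mpr hb
      have hcen := hQY.1 _ hbT
      rw [mem_center_iff] at hcen
      have := hcen ⟨y, hy⟩
      exact congrArg Subtype.val this
    · intro x hx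
      have hxT : (⟨x, hSY hx⟩ : normalizer (Aset S)) ∈ S.subtype hSY :=
        (hmemY ⟨x, hSY hx⟩).mpr hx
      have := hQY.2.1 _ hxT
      exact congrArg Subtype.val this
    · have h1 := hQY.2.2
      rw [hcardY] at h1
      have h2 : (NS S ⊓ normalizer (Aset S) : Subgroup G) = NS S := inf_eq_left.mpr hNY
      rw [h2, h1] at hSylY
      exact hSylY.symm
  exact hD G S (normalizer (Aset S)) hDS

end Cfsg.Agent.Lib.Helper25.AICCaseD
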