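import Mathlib
import Cfsg.Agent.Lib.Helper25.AICSpec

set_option autoImplicit false

namespace Cfsg.Agent.Lib.Helper25.AICCaseE

open Subgroup Cfsg.Agent.Lib.Helper25.AICSpec

universe u

theorem main (hE : StepE.{u}) (hF : StepF.{u}) (hG : StepG.{u}) (hH : StepH.{u})
    (hCh : CharProp.{u}) (hFin : Fin1.{u}) : CaseE.{u} := by
  intro G _ _ S hHyp hL hA
  obtain ⟨hTI, hNC⟩ := hE G S hHyp hL hA
  have hF' := hF G S hHyp hL hTI
  have hG' := hG G S hHyp hL hF'
  have hH' := hH G S hHyp hL hTI hF' hG'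
  -- an element outside `H`
  obtain ⟨g, hg⟩ : ∃ g : G, g ∉ NS S := by
    by_contra hcon
    push Not at hcon
    apply hHyp.2.2
    have htop : NS S = ⊤ := by
      rw [eq_top_iff]
      intro x _
      exact hcon x
    exact normalizer_eq_top_iff.mp htop
  -- an involution outside `H`
  have hcos := hL.coset g hg
  have hthree := hL.three
  have hpos : 0 < Nat.card {h : G // h ∈ NS S ∧ orderOf (h * g) = 2} := by
    rw [hcos]; omega
  obtain ⟨⟨h0, hh0, hord⟩⟩ := (Nat.card_pos_iff.mp hpos).1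
  have hwN : h0 * g ∉ NS S := by
    intro hw
    apply hg
    have := (NS S).mul_mem ((NS S).inv_mem hh0) hw
    simpa using this
  -- the Frobenius property
  have hstab : ∀ h : G, h ∈ NS S → ∀ y : G, y ∈ CS S → y ≠ 1 → h⁻¹ * y * h = y → h ∈ CS S := by
    intro h hh y hy hy1 hfix
    obtain ⟨d, hd, hwd, hc⟩ := hL.l4.transv (h0 * g) hord hwN h hh
    by_cases hd1 : d = 1
    · subst hd1
      simpa using hc
    · exfalso
      have hcy : (h * d⁻¹) * y = y * (h * d⁻¹) := hL.l1.comm _ _ hc hy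
      have hdy : d⁻¹ * y * d = y := by
        have h1 : d = (h * d⁻¹)⁻¹ * h := by group
        have h2 : d⁻¹ * y * d = h⁻¹ * ((h * d⁻¹) * y * (h * d⁻¹)⁻¹) * h := by group
        rw [h2, hcy, mul_inv_cancel_right, hfix]
      exact hy1 (hH' (h0 * g) hord hwN d hd hwd hd1 y hy hdy)
  have hinvC : ∀ t : G, t ∈ CS S → orderOf t = 2 → t ∈ S := by
    intro t ht ho
    exact hL.l1.two t ht ⟨1, by rw [ho, pow_one]⟩
  have hCS : CharSet G (CS S) := by
    refine ⟨hL.l1.comm, ?_, ?_, ?_, ?_, ?_, ?_⟩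
    · rw [hNC]; exact hTI
    · rw [hNC]; exact hstab
    · rw [hNC]; exact ⟨g, hg⟩
    · intro t t' ht hto ht' hto'
      rw [hNC]
      exact hL.l2.trans t t' (hinvC t ht hto) hto (hinvC t' ht' hto') hto'
    · intro t ht hto
      rw [hNC] at ht
      exact hL.l1.le (hL.l1.inv_mem t ht hto)
    · have heq : Nat.card {t : G // t ∈ CS S ∧ orderOf t = 2} = qm1 S := by
        unfold qm1
        apply Nat.card_congr
        exact Equiv.subtypeEquivRight (fun t =>
          ⟨fun h => ⟨hinvC t h.1 h.2, h.2⟩, fun h => ⟨hL.l1.le h.1, h.2⟩⟩)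
      rw [heq]; omega
  have hsq := hCh G (CS S) hCS
  exact hFin G S hHyp hL hsq

end Cfsg.Agent.Lib.Helper25.AICCaseE
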