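import Mathlib
import Cfsg.Agent.Lib.Helper25.AICSpec

/-!
Assembly for S2202 from the pieces of `AICSpec`.
-/

set_option autoImplicit false

namespace Cfsg.Agent.Lib.Helper25.AICGlue

open Subgroup Cfsg.Agent.Lib.Helper25.AICSpec

universe u

theorem localProp (h1 : PL1.{u}) (h1b : PL1b.{u}) (h2 : PL2.{u}) (h2b : PL2b.{u})
    (h3 : PL3.{u}) (h4 : PL4.{u}) (h5 : PL5.{u}) : LocalProp.{u} := by
  intro G _ _ S hH
  have l1 := h1 G S hH
  have l1b := h1b G S hH l1
  have l2 := h2 G S hH l1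
  have l2b := h2b G S hH l1 l2
  have l3 := h3 G S hH l1 l2 l2b
  have l4 := h4 G S hH l1 l2 l2b l3
  have l5 := h5 G S hH l1 l1b l2 l3 l4
  exact ⟨l1, l1b, l2, l2b, l3, l4, l5⟩

theorem stepD2 (ha : D2a.{u}) (hb : D2b.{u}) (hc : D2c.{u}) (hd : D2d.{u}) (he : D2e.{u}) :
    StepD2.{u} := by
  intro G _ _ S Y hD
  obtain ⟨w, hw, hwY⟩ := ha G S Y hD
  exact he G S Y hD (Wsub Y w) inf_le_left (hb G S Y hD w hw hwY) (hc G S Y hD w hw hwY)
    (hd G S Y hD w hw hwY)

theorem mainProp (hLoc : LocalProp.{u}) (hC : CaseC.{u}) (hD : CaseD.{u}) (hE : CaseE.{u}) :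
    MainProp.{u} := by
  have key : ∀ (n : ℕ) (G : Type u) [Group G] [Finite G] (S : Sylow 2 G), Nat.card G = n →
      Hyp G S → QProp G S := by
    intro n
    induction n using Nat.strong_induction_on with
    | _ n ih =>
      intro G _ _ S hn hH
      have hIH : IH G := by
        intro K _ _ T hlt hK
        exact ih (Nat.card K) (hn ▸ hlt) K T rfl hK
      have hL := hLoc G S hH
      by_cases hcore : (NS S).normalCore = ⊥
      · by_cases hex : ∃ a ∈ Aset S, a ≠ 1 ∧ ¬ centralizer ({a} : Set G) ≤ NS S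
        · exact (hD G S hH hL hcore hex hIH).elim
        · refine hE G S hH hL ?_
          intro a ha ha1
          by_contra hcon
          exact hex ⟨a, ha, ha1, hcon⟩
      · exact hC G S hH hL hcore hIH
  intro G _ _ S hH
  exact key (Nat.card G) G S rfl hH

theorem final (hMain : MainProp.{u}) (hLoc : LocalProp.{u}) (hF : Fin2a.{u}) (hA : SplitA.{u})
    (hB : SplitB.{u}) (hSC : SplitC.{u})
    {G : Type u} [Group G] [Finite G] (heven : Even (Nat.card G))
    (h : ∀ t : G, orderOf t = 2 → IsMulCommutative ↥(Subgroup.centralizer ({t} : Set G))) :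
    (∀ P : Sylow 2 G, IsCyclic ↥P) ∨ (∀ P : Sylow 2 G, (P : Subgroup G).Normal) ∨
    (∃ (F : Type) (_ : Field F) (_ : Fintype F) (A : Type) (_ : CommGroup A) (_ : Finite A),
      CharP F 2 ∧ Odd (Nat.card A) ∧
      Nonempty (G ≃* Matrix.SpecialLinearGroup (Fin 2) F × A)) := by
  by_cases hcyc : ∀ P : Sylow 2 G, IsCyclic ↥P
  · exact Or.inl hcyc
  by_cases hnor : ∀ P : Sylow 2 G, (P : Subgroup G).Normal
  · exact Or.inr (Or.inl hnor)
  right; right
  push Not at hcyc hnor
  obtain ⟨P, hP⟩ := hcyc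
  obtain ⟨P', hP'⟩ := hnor
  have hPn : ¬ (P : Subgroup G).Normal := by
    intro hn
    apply hP'
    have hu : Unique (Sylow 2 G) := Sylow.unique_of_normal P hn
    have : P' = P := (hu.uniq P').trans (hu.uniq P).symm
    rw [this]
    exact hn
  have hAIC : AIC G := by
    intro t ht a b ha hb
    have := (h t ht).is_comm.comm ⟨a, ha⟩ ⟨b, hb⟩
    exact congrArg Subtype.val this
  have hH : Hyp G P := ⟨hAIC, hP, hPn⟩
  have hQ := hMain G P hH
  have hL := hLoc G P hH
  obtain ⟨hodd, F, instF, instFt, hcard, hiso⟩ := hF G P hH hL hQ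
  have hchar : CharP F 2 := by
    obtain ⟨p, hp⟩ := CharP.exists F
    have := hp
    have : Fact p.Prime := ⟨CharP.char_is_prime F p⟩
    obtain ⟨n, hn⟩ := FiniteField.card F p
    have h2 : IsPGroup 2 (P : Subgroup G) := P.isPGroup'
    obtain ⟨k, hk⟩ := IsPGroup.iff_card.mp h2
    have hpk : p ^ (n : ℕ) = 2 ^ k := by
      rw [← hn.2, hcard, hk]
    have hp2 : p = 2 := by
      have hdvd : p ∣ 2 ^ k := by
        rw [← hpk]
        exact dvd_pow_self p n.ne_zero
      exact (Nat.prime_dvd_prime_iff_eq hn.1 Nat.prime_two).mp (hn.1.dvd_of_dvd_pow hdvd)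
    rw [← hp2]
    exact hp
  have hAeq := hA G hodd F hchar hiso
  have hBeq := hB G P hH hL hQ
  obtain ⟨A, instA, instAf, hAodd, hGiso⟩ := hSC G hodd F hchar hiso hAeq hBeq
  exact ⟨F, instF, instFt, A, instA, instAf, hchar, hAodd, hGiso⟩

end Cfsg.Agent.Lib.Helper25.AICGlue
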