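import Mathlib
import Cfsg.Agent.Lib.Helper25.AICSpec

set_option autoImplicit false

namespace Cfsg.Agent.Lib.Helper25.AICStepG

open Subgroup Cfsg.Agent.Lib.Helper25.AICSpec

universe u

theorem main : StepG.{u} := by
  intro G _ _ S hH hL hF w hw hwN x hx hwx
  obtain ⟨d, hd, hwd, hxd⟩ := hL.l4.transv w hw hwN x hx
  have hw2 : w * w = 1 := by
    have := pow_orderOf_eq_one w
    rw [hw, sq] at this
    exact this
  have hwinv : w⁻¹ = w := inv_eq_of_mul_eq_one_right hw2
  -- c := x * d⁻¹ ∈ C and w c w ∈ H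
  have hc : w⁻¹ * (x * d⁻¹) * w ∈ NS S := by
    have h1 : w⁻¹ * (x * d⁻¹) * w = (w * x * w) * d := by
      rw [hwinv]
      have h2 : w * d⁻¹ * w = d := by
        have h3 : w * d⁻¹ * w = (w * d * w)⁻¹ := by
          rw [mul_inv_rev, mul_inv_rev, hwinv, mul_assoc]
        rw [h3, hwd, inv_inv]
      calc w * (x * d⁻¹) * w = (w * x * w) * (w * d⁻¹ * w) := by
            simp only [mul_assoc]
            rw [← mul_assoc w w, hw2, one_mul]
        _ = (w * x * w) * d := by rw [h2]
    rw [h1]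
    exact mul_mem hwx hd
  have hc1 := hF w hwN (x * d⁻¹) hxd hc
  have hxd' : x = d := by
    have := mul_inv_eq_one.mp hc1
    exact this
  rw [hxd']
  exact hwd

end Cfsg.Agent.Lib.Helper25.AICStepG
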