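import Mathlib
import Cfsg.Agent.Lib.Helper25.AICSpec
import Cfsg.Agent.Lib.Helper25.AICCaseD

/-!
S2202 piece `StepH`: the complement `D` acts fixed-point-freely on `C = C_G(S)`
(orbit counting of `C_G(d)` on the cosets of `H = N_G(S)`).
-/

set_option autoImplicit false

namespace Cfsg.Agent.Lib.Helper25.AICStepH

open Subgroup Cfsg.Agent.Lib.Helper25.AICSpec

universe u


/-- If every point of a finite invariant set has stabilizer of order `r` and `|K| = m r`,
then `m` divides the size of the set. -/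
theorem dvd_ncard_of_stab {K Ω : Type*} [Group K] [Finite K] [MulAction K Ω] (r m : ℕ)
    (hr : 0 < r) (hK : Nat.card K = m * r) :
    ∀ (n : ℕ) (T : Set Ω), T.Finite → T.ncard = n → (∀ k : K, ∀ P ∈ T, k • P ∈ T) →
      (∀ P ∈ T, Nat.card (MulAction.stabilizer K P) = r) → m ∣ n := by
  intro n
  induction n using Nat.strong_induction_on with
  | _ n ih =>
    intro T hfin hn hinv hstab
    by_cases hT : T = ∅
    · subst hT
      rw [Set.ncard_empty] at hn
      rw [← hn]
      exact dvd_zero m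
    · obtain ⟨P, hP⟩ := Set.nonempty_iff_ne_empty.mpr hT
      have horb : MulAction.orbit K P ⊆ T := by
        rintro Q ⟨k, rfl⟩
        exact hinv k P hP
      have hcard : (MulAction.orbit K P).ncard = m := by
        have e := MulAction.orbitEquivQuotientStabilizer K P
        have h1 : Nat.card (MulAction.orbit K P) = Nat.card (K ⧸ MulAction.stabilizer K P) :=
          Nat.card_congr e
        have h2 := Subgroup.card_eq_card_quotient_mul_card_subgroup (MulAction.stabilizer K P)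
        rw [hstab P hP, hK, ← h1] at h2
        have h3 : Nat.card (MulAction.orbit K P) = m := (Nat.eq_of_mul_eq_mul_right hr h2).symm
        rw [← h3]
        rfl
      have hdiff : (T \ MulAction.orbit K P).ncard + (MulAction.orbit K P).ncard = T.ncard :=
        Set.ncard_diff_add_ncard_of_subset horb hfin
      have hmpos : 0 < m := by
        rcases Nat.eq_zero_or_pos m with h | h
        · rw [h, zero_mul] at hK
          have := Nat.card_pos (α := K)
          omega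
        · exact h
      have hlt : (T \ MulAction.orbit K P).ncard < n := by omega
      have hinv' : ∀ k : K, ∀ Q ∈ T \ MulAction.orbit K P, k • Q ∈ T \ MulAction.orbit K P := by
        intro k Q hQ
        refine ⟨hinv k Q hQ.1, ?_⟩
        intro hmem
        apply hQ.2
        have : Q = k⁻¹ • (k • Q) := by rw [inv_smul_smul]
        rw [this]
        exact (MulAction.mem_orbit_iff).mpr (by
          obtain ⟨k', hk'⟩ := hmem
          have hk'' : k' • P = k • Q := hk'
          exact ⟨k⁻¹ * k', by rw [mul_smul, hk'']⟩)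
      have hd := ih _ hlt (T \ MulAction.orbit K P) (hfin.subset Set.sdiff_subset) rfl hinv'
        (fun Q hQ => hstab Q hQ.1)
      have : n = (T \ MulAction.orbit K P).ncard + m := by omega
      rw [this]
      exact Dvd.dvd.add hd (dvd_refl m)


theorem inv_sq {G : Type u} [Group G] {w : G} (hw : orderOf w = 2) : w * w = 1 := by
  have := pow_orderOf_eq_one w
  rw [hw, sq] at this
  exact this

theorem inv_inv' {G : Type u} [Group G] {w : G} (hw : orderOf w = 2) : w⁻¹ = w :=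
  inv_eq_of_mul_eq_one_right (inv_sq hw)

theorem conj_mul' {G : Type u} [Group G] {w : G} (hw : orderOf w = 2) (a b : G) :
    w * (a * b) * w = (w * a * w) * (w * b * w) := by
  have h := inv_sq hw
  calc w * (a * b) * w = w * a * (1 * b) * w := by rw [one_mul]; group
    _ = w * a * (w * w * b) * w := by rw [h]
    _ = (w * a * w) * (w * b * w) := by group

theorem conj_inv' {G : Type u} [Group G] {w : G} (hw : orderOf w = 2) (a : G) :
    w * a⁻¹ * w = (w * a * w)⁻¹ := by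
  rw [mul_inv_rev, mul_inv_rev, inv_inv' hw, mul_assoc]

section

variable {G : Type u} [Group G] [Finite G] (S : Sylow 2 G)

/-- elements of `D_v = H ∩ vHv` commute -/
theorem Dv_comm
    (hG : ∀ w : G, orderOf w = 2 → w ∉ NS S → ∀ x ∈ NS S, w * x * w ∈ NS S → w * x * w = x⁻¹)
    {v : G} (hv : orderOf v = 2) (hvN : v ∉ NS S) {x x' : G} (hx : x ∈ NS S)
    (hx' : x' ∈ NS S) (hvx : v * x * v ∈ NS S) (hvx' : v * x' * v ∈ NS S) :
    x * x' = x' * x := by
  have e1 := hG v hv hvN x hx hvx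
  have e2 := hG v hv hvN x' hx' hvx'
  have e3 := hG v hv hvN (x * x') (mul_mem hx hx') (by
    rw [conj_mul' hv]; exact mul_mem hvx hvx')
  rw [conj_mul' hv, e1, e2, mul_inv_rev] at e3
  have e4 : (x⁻¹ * x'⁻¹)⁻¹ = (x'⁻¹ * x⁻¹)⁻¹ := by rw [e3]
  rw [mul_inv_rev, mul_inv_rev, inv_inv, inv_inv] at e4
  exact e4.symm

theorem Dv_card (hL : Local G S)
    (hG : ∀ w : G, orderOf w = 2 → w ∉ NS S → ∀ x ∈ NS S, w * x * w ∈ NS S → w * x * w = x⁻¹)
    {v : G} (hv : orderOf v = 2) (hvN : v ∉ NS S) :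
    Nat.card {k : G // k ∈ NS S ∧ v * k * v ∈ NS S} = qm1 S := by
  rw [← hL.l4.jcard v hv hvN]
  apply Nat.card_congr
  exact Equiv.subtypeEquivRight (fun k =>
    ⟨fun h => ⟨h.1, hG v hv hvN k h.1 h.2⟩, fun h => ⟨h.1, by rw [h.2]; exact inv_mem h.1⟩⟩)

/-- `|C_H(d)| = |C_C(d)| (q-1)` for `d ∈ D_v`. -/
theorem card_XH (hL : Local G S)
    (hF : ∀ g : G, g ∉ NS S → ∀ y ∈ CS S, g⁻¹ * y * g ∈ NS S → y = 1)
    (hG : ∀ w : G, orderOf w = 2 → w ∉ NS S → ∀ x ∈ NS S, w * x * w ∈ NS S → w * x * w = x⁻¹)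
    {v : G} (hv : orderOf v = 2) (hvN : v ∉ NS S) {d : G} (hd : d ∈ NS S)
    (hvd : v * d * v ∈ NS S) :
    Nat.card {h : G // h ∈ NS S ∧ h * d = d * h}
      = Nat.card {c : G // c ∈ CS S ∧ c * d = d * c} * qm1 S := by
  rw [← Dv_card S hL hG hv hvN, ← Nat.card_prod]
  symm
  let f : {c : G // c ∈ CS S ∧ c * d = d * c} × {k : G // k ∈ NS S ∧ v * k * v ∈ NS S} →
      {h : G // h ∈ NS S ∧ h * d = d * h} := fun p =>
    ⟨p.1.1 * p.2.1, mul_mem (hL.l1.cle p.1.2.1) p.2.2.1, by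
      have h1 := Dv_comm S hG hv hvN p.2.2.1 hd p.2.2.2 hvd
      calc p.1.1 * p.2.1 * d = p.1.1 * (p.2.1 * d) := by rw [mul_assoc]
        _ = p.1.1 * (d * p.2.1) := by rw [h1]
        _ = (p.1.1 * d) * p.2.1 := by rw [mul_assoc]
        _ = (d * p.1.1) * p.2.1 := by rw [p.1.2.2]
        _ = d * (p.1.1 * p.2.1) := by rw [mul_assoc]⟩
  apply Nat.card_congr
  refine Equiv.ofBijective f ⟨?_, ?_⟩
  · rintro ⟨⟨c, hc, hcd⟩, ⟨k, hk, hvk⟩⟩ ⟨⟨c', hc', hcd'⟩, ⟨k', hk', hvk'⟩⟩ heq
    have heq' : c * k = c' * k' := congrArg Subtype.val heq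
    have hz : c'⁻¹ * c = k' * k⁻¹ := by
      have : c = c' * k' * k⁻¹ := by rw [← heq', mul_inv_cancel_right]
      rw [this]; group
    have hzC : c'⁻¹ * c ∈ CS S := mul_mem (inv_mem hc') hc
    have hzH : v⁻¹ * (c'⁻¹ * c) * v ∈ NS S := by
      rw [hz, inv_inv' hv, conj_mul' hv, conj_inv' hv]
      exact mul_mem hvk' (inv_mem hvk)
    have hz1 := hF v hvN _ hzC hzH
    have hcc : c = c' := by
      have := inv_mul_eq_one.mp hz1
      exact this.symm
    have hkk : k = k' := by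
      rw [hz] at hz1
      have := mul_inv_eq_one.mp hz1
      exact this.symm
    subst hcc; subst hkk
    rfl
  · rintro ⟨h, hh, hhd⟩
    obtain ⟨k, hk, hvk, hc⟩ := hL.l4.transv v hv hvN h hh
    have hvkH : v * k * v ∈ NS S := by rw [hvk]; exact inv_mem hk
    have hkd := Dv_comm S hG hv hvN hk hd hvkH hvd
    have hkd' : k⁻¹ * d = d * k⁻¹ := by
      have : d = k * d * k⁻¹ := by rw [hkd, mul_inv_cancel_right]
      calc k⁻¹ * d = k⁻¹ * (k * d * k⁻¹) := by rw [← this]
        _ = d * k⁻¹ := by group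
    refine ⟨⟨⟨h * k⁻¹, hc, ?_⟩, ⟨k, hk, hvkH⟩⟩, ?_⟩
    · calc h * k⁻¹ * d = h * (k⁻¹ * d) := by rw [mul_assoc]
        _ = h * (d * k⁻¹) := by rw [hkd']
        _ = (h * d) * k⁻¹ := by rw [mul_assoc]
        _ = (d * h) * k⁻¹ := by rw [hhd]
        _ = d * (h * k⁻¹) := by rw [mul_assoc]
    · apply Subtype.ext
      show h * k⁻¹ * k = h
      rw [inv_mul_cancel_right]

end


section

variable {G : Type u} [Group G] [Finite G] (S : Sylow 2 G)

/-- `|C_{vHv}(d)| = |C_H(d)|` for `d ∈ D_v`. -/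
theorem card_XvH
    (hG : ∀ w : G, orderOf w = 2 → w ∉ NS S → ∀ x ∈ NS S, w * x * w ∈ NS S → w * x * w = x⁻¹)
    {v : G} (hv : orderOf v = 2) (hvN : v ∉ NS S) {d : G} (hd : d ∈ NS S)
    (hvd : v * d * v ∈ NS S) :
    Nat.card {x : G // v⁻¹ * x * v ∈ NS S ∧ x * d = d * x}
      = Nat.card {h : G // h ∈ NS S ∧ h * d = d * h} := by
  have hvv := inv_sq hv
  have e1 := hG v hv hvN d hd hvd
  apply Nat.card_congr
  refine (MulAut.conj v).toEquiv.subtypeEquiv ?_
  intro x
  show (v⁻¹ * x * v ∈ NS S ∧ x * d = d * x) ↔ (v * x * v⁻¹ ∈ NS S ∧ (v * x * v⁻¹) * d = d * (v * x * v⁻¹))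
  rw [inv_inv' hv]
  constructor
  · rintro ⟨h1, h2⟩
    refine ⟨h1, ?_⟩
    -- (v x v) d = d (v x v)  from  x d = d x  and v d v = d⁻¹
    have h3 : x * d⁻¹ = d⁻¹ * x := by
      have : x = d * x * d⁻¹ := by rw [← h2, mul_inv_cancel_right]
      calc x * d⁻¹ = d⁻¹ * (d * x * d⁻¹) := by group
        _ = d⁻¹ * x := by rw [← this]
    have h4 : v * x * v * d = v * (x * (v * d * v)) * v := by
      calc v * x * v * d = v * x * v * d * (v * v) := by rw [hvv, mul_one]
        _ = v * (x * (v * d * v)) * v := by group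
    have h5 : d * (v * x * v) = v * ((v * d * v) * x) * v := by
      calc d * (v * x * v) = (v * v) * d * (v * x * v) := by rw [hvv, one_mul]
        _ = v * ((v * d * v) * x) * v := by group
    rw [h4, h5, e1, h3]
  · rintro ⟨h1, h2⟩
    refine ⟨h1, ?_⟩
    have h4 : v * x * v * d = v * (x * (v * d * v)) * v := by
      calc v * x * v * d = v * x * v * d * (v * v) := by rw [hvv, mul_one]
        _ = v * (x * (v * d * v)) * v := by group
    have h5 : d * (v * x * v) = v * ((v * d * v) * x) * v := by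
      calc d * (v * x * v) = (v * v) * d * (v * x * v) := by rw [hvv, one_mul]
        _ = v * ((v * d * v) * x) * v := by group
    rw [h4, h5, e1] at h2
    have h6 : x * d⁻¹ = d⁻¹ * x := by
      have := mul_left_cancel (mul_right_cancel h2)
      exact this
    have : x = d⁻¹ * x * d := by rw [← h6, inv_mul_cancel_right]
    calc x * d = d * (d⁻¹ * x * d) := by group
      _ = d * x := by rw [← this]

/-- two-point stabilizers in `C_G(d)` have order `q-1`. -/
theorem card_two (hL : Local G S)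
    (hG : ∀ w : G, orderOf w = 2 → w ∉ NS S → ∀ x ∈ NS S, w * x * w ∈ NS S → w * x * w = x⁻¹)
    {g : G} (hg : g ∉ NS S) {d : G} (hd : d ∈ NS S) (hgd : g⁻¹ * d * g ∈ NS S) :
    Nat.card {k : G // k ∈ NS S ∧ g⁻¹ * k * g ∈ NS S ∧ k * d = d * k} = qm1 S := by
  have hg' : g⁻¹ ∉ NS S := fun h => hg (by simpa using inv_mem h)
  have hcos := hL.coset g⁻¹ hg'
  have hthree := hL.three
  have hpos : 0 < Nat.card {h : G // h ∈ NS S ∧ orderOf (h * g⁻¹) = 2} := by
    rw [hcos]; omega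
  obtain ⟨⟨h0, hh0, hv⟩⟩ := (Nat.card_pos_iff.mp hpos).1
  have hvN : h0 * g⁻¹ ∉ NS S := by
    intro hw
    apply hg'
    have := (NS S).mul_mem ((NS S).inv_mem hh0) hw
    simpa using this
  have hvinv : h0 * g⁻¹ = g * h0⁻¹ := by
    have := inv_inv' hv
    rw [mul_inv_rev, inv_inv] at this
    exact this.symm
  have hconj : ∀ k : G, (h0 * g⁻¹) * k * (h0 * g⁻¹) = h0 * (g⁻¹ * k * g) * h0⁻¹ := by
    intro k
    nth_rewrite 2 [hvinv]
    group
  have hiff : ∀ k : G, ((h0 * g⁻¹) * k * (h0 * g⁻¹) ∈ NS S ↔ g⁻¹ * k * g ∈ NS S) := by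
    intro k
    rw [hconj]
    constructor
    · intro h
      have := mul_mem (mul_mem (inv_mem hh0) h) hh0
      convert this using 1; group
    · intro h
      exact mul_mem (mul_mem hh0 h) (inv_mem hh0)
  rw [← Dv_card S hL hG hv hvN]
  apply Nat.card_congr
  refine Equiv.subtypeEquivRight (fun k => ?_)
  constructor
  · rintro ⟨h1, h2, -⟩
    exact ⟨h1, (hiff k).mpr h2⟩
  · rintro ⟨h1, h2⟩
    exact ⟨h1, (hiff k).mp h2, Dv_comm S hG hv hvN h1 hd h2 ((hiff d).mpr hgd)⟩

/-- no element of `C_G(d)` maps the point `wH` to `H`. -/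
theorem no_swap (hL : Local G S)
    (hF : ∀ g : G, g ∉ NS S → ∀ y ∈ CS S, g⁻¹ * y * g ∈ NS S → y = 1)
    (hG : ∀ w : G, orderOf w = 2 → w ∉ NS S → ∀ x ∈ NS S, w * x * w ∈ NS S → w * x * w = x⁻¹)
    {w : G} (hw : orderOf w = 2) (hwN : w ∉ NS S) {d : G} (hd : d ∈ NS S)
    (hwd : w * d * w = d⁻¹) (hd1 : d ≠ 1) {x : G} (hx : x * d = d * x) : x * w ∉ NS S := by
  intro hh
  have hww := inv_sq hw
  have hwdH : w * d * w ∈ NS S := by rw [hwd]; exact inv_mem hd
  -- h := x w inverts d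
  have hinv : (x * w)⁻¹ * d * (x * w) = d⁻¹ := by
    have hx' : x⁻¹ * d * x = d := by rw [mul_assoc, ← hx, inv_mul_cancel_left]
    calc (x * w)⁻¹ * d * (x * w) = w⁻¹ * (x⁻¹ * d * x) * w := by group
      _ = w * d * w := by rw [hx', inv_inv' hw]
      _ = d⁻¹ := hwd
  obtain ⟨k, hk, hwk, hc⟩ := hL.l4.transv w hw hwN (x * w) hh
  have hwkH : w * k * w ∈ NS S := by rw [hwk]; exact inv_mem hk
  have hkd := Dv_comm S hG hw hwN hk hd hwkH hwdH
  -- c := x w k⁻¹ ∈ C satisfies c⁻¹ d c = d⁻¹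
  have hcinv : (x * w * k⁻¹)⁻¹ * d * (x * w * k⁻¹) = d⁻¹ := by
    have h1 : (x * w * k⁻¹)⁻¹ * d * (x * w * k⁻¹) = k * ((x * w)⁻¹ * d * (x * w)) * k⁻¹ := by
      group
    rw [h1, hinv]
    have h2 : k * d⁻¹ = d⁻¹ * k := by
      have : k = d * k * d⁻¹ := by rw [← hkd, mul_inv_cancel_right]
      calc k * d⁻¹ = d⁻¹ * (d * k * d⁻¹) := by group
        _ = d⁻¹ * k := by rw [← this]
    rw [h2, mul_inv_cancel_right]
  -- d² ∈ C
  have hd2C : d * d ∈ CS S := by
    have h1 : d * d = (d * (x * w * k⁻¹)⁻¹ * d⁻¹) * (x * w * k⁻¹) := by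
      have h2 : d = (x * w * k⁻¹)⁻¹ * d⁻¹ * (x * w * k⁻¹) := by
        have h3 : ((x * w * k⁻¹)⁻¹ * d * (x * w * k⁻¹))⁻¹ = d⁻¹⁻¹ := by rw [hcinv]
        rw [inv_inv] at h3
        calc d = ((x * w * k⁻¹)⁻¹ * d * (x * w * k⁻¹))⁻¹ := h3.symm
          _ = (x * w * k⁻¹)⁻¹ * d⁻¹ * (x * w * k⁻¹) := by group
      calc d * d = d * ((x * w * k⁻¹)⁻¹ * d⁻¹ * (x * w * k⁻¹)) := by rw [← h2]
        _ = (d * (x * w * k⁻¹)⁻¹ * d⁻¹) * (x * w * k⁻¹) := by group
    rw [h1]
    exact mul_mem (Cfsg.Agent.Lib.Helper25.AICCaseD.conj_mem_CS S hd (inv_mem hc)) hc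
  have hd2H : w⁻¹ * (d * d) * w ∈ NS S := by
    rw [inv_inv' hw, conj_mul' hw]
    exact mul_mem hwdH hwdH
  have hdd := hF w hwN (d * d) hd2C hd2H
  -- d is an involution in H, hence in S; then w ∈ H
  have hdo : orderOf d = 2 := by
    apply orderOf_eq_prime
    · rw [sq]; exact hdd
    · exact hd1
  have hdS := hL.l1.inv_mem d hd hdo
  have hdinv : d⁻¹ = d := inv_inv' hdo
  have hwdS : w⁻¹ * d * w ∈ (S : Subgroup G) := by
    rw [inv_inv' hw, hwd, hdinv]; exact hdS
  exact hwN (hL.l1.ti w d hdS hd1 hwdS)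

end


theorem smul_mk_eq_iff {G : Type u} [Group G] (H : Subgroup G) (k g : G) :
    k • ((g : G) : G ⧸ H) = ((g : G) : G ⧸ H) ↔ g⁻¹ * k * g ∈ H := by
  rw [MulAction.Quotient.smul_mk, smul_eq_mul, QuotientGroup.eq]
  constructor
  · intro h
    have := H.inv_mem h
    convert this using 1
    group
  · intro h
    have := H.inv_mem h
    convert this using 1
    group

theorem card_stab_sub {G : Type u} [Group G] (H X : Subgroup G)
    (p : G ⧸ H) :
    Nat.card (MulAction.stabilizer X p) = Nat.card {x : G // x ∈ X ∧ x • p = p} := by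
  apply Nat.card_congr
  exact
    { toFun := fun s => ⟨(s.1 : G), s.1.2, s.2⟩
      invFun := fun t => ⟨⟨t.1, t.2.1⟩, t.2.2⟩
      left_inv := fun s => rfl
      right_inv := fun t => rfl }

theorem orbit_ncard_mul {K Ω : Type*} [Group K] [Finite K] [MulAction K Ω] (p : Ω) :
    (MulAction.orbit K p).ncard * Nat.card (MulAction.stabilizer K p) = Nat.card K := by
  have e := MulAction.orbitEquivQuotientStabilizer K p
  have h1 : Nat.card (MulAction.orbit K p) = Nat.card (K ⧸ MulAction.stabilizer K p) :=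
    Nat.card_congr e
  have h2 := Subgroup.card_eq_card_quotient_mul_card_subgroup (MulAction.stabilizer K p)
  rw [← h1] at h2
  rw [h2]
  rfl

theorem mem_orbit_sub {G : Type u} [Group G] (H X : Subgroup G) (g : G) (P : G ⧸ H) :
    P ∈ MulAction.orbit X ((g : G) : G ⧸ H) ↔ ∃ x ∈ X, P = ((x * g : G) : G ⧸ H) := by
  constructor
  · rintro ⟨x, rfl⟩
    exact ⟨x.1, x.2, rfl⟩
  · rintro ⟨x, hx, rfl⟩
    exact ⟨⟨x, hx⟩, rfl⟩

theorem main : StepH.{u} := by
  intro G _ _ S hHyp hL hTI hF hG w hw hwN d hd hwd hd1 y hy hyd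
  classical
  by_contra hy1
  have hwdH : w * d * w ∈ NS S := by rw [hwd]; exact inv_mem hd
  have hq3 := hL.three
  obtain ⟨m, hm⟩ : ∃ m, m = Nat.card {c : G // c ∈ CS S ∧ c * d = d * c} := ⟨_, rfl⟩
  have hXH := card_XH S hL hF hG hw hwN hd hwdH
  rw [← hm] at hXH
  have hXwH := card_XvH S hG hw hwN hd hwdH
  rw [hXH] at hXwH
  have hm1 : m ≠ 1 := by
    intro h1
    rw [h1] at hm
    have huniq := Nat.card_eq_one_iff_unique.mp hm.symm
    have hyd' : y * d = d * y := by
      calc y * d = d * (d⁻¹ * y * d) := by group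
        _ = d * y := by rw [hyd]
    have := huniq.1.elim (⟨y, hy, hyd'⟩ : {c : G // c ∈ CS S ∧ c * d = d * c})
      ⟨1, one_mem _, by simp⟩
    exact hy1 (congrArg Subtype.val this)
  have hmpos : 0 < m := by
    rw [hm]
    haveI : Nonempty {c : G // c ∈ CS S ∧ c * d = d * c} := ⟨⟨1, one_mem _, by simp⟩⟩
    exact Nat.card_pos
  have hmq : 0 < m * qm1 S := Nat.mul_pos hmpos (by omega)
  obtain ⟨X, hX⟩ : ∃ X : Subgroup G, X = centralizer ({d} : Set G) := ⟨_, rfl⟩
  have hXmem : ∀ x : G, x ∈ X ↔ x * d = d * x := by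
    intro x
    rw [hX]
    exact mem_centralizer_singleton_iff
  obtain ⟨K, hKdef⟩ : ∃ K : Subgroup G, K = X ⊓ NS S := ⟨_, rfl⟩
  have hKmem : ∀ x : G, x ∈ K ↔ x ∈ X ∧ x ∈ NS S := by
    intro x
    rw [hKdef]
    exact mem_inf
  have hKX : ∀ k : K, (k : G) ∈ X := fun k => ((hKmem k).mp k.2).1
  have hKH : ∀ k : K, (k : G) ∈ NS S := fun k => ((hKmem k).mp k.2).2
  -- stabilizers in X of the two base points
  have hstab1 : Nat.card (MulAction.stabilizer X (((1 : G) : G ⧸ NS S))) = m * qm1 S := by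
    rw [card_stab_sub, ← hXH]
    apply Nat.card_congr
    refine Equiv.subtypeEquivRight (fun x => ?_)
    rw [hXmem, smul_mk_eq_iff]
    simp only [inv_one, one_mul, mul_one]
    exact and_comm
  have hstab2 : Nat.card (MulAction.stabilizer X (((w : G) : G ⧸ NS S))) = m * qm1 S := by
    rw [card_stab_sub, ← hXwH]
    apply Nat.card_congr
    refine Equiv.subtypeEquivRight (fun x => ?_)
    rw [hXmem, smul_mk_eq_iff]
    exact and_comm
  have ho1 := orbit_ncard_mul (K := X) (((1 : G) : G ⧸ NS S))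
  have ho2 := orbit_ncard_mul (K := X) (((w : G) : G ⧸ NS S))
  rw [hstab1] at ho1
  rw [hstab2] at ho2
  have hO : (MulAction.orbit X (((1 : G) : G ⧸ NS S))).ncard
      = (MulAction.orbit X (((w : G) : G ⧸ NS S))).ncard :=
    Nat.eq_of_mul_eq_mul_right hmq (ho1.trans ho2.symm)
  have hKcard : Nat.card K = m * qm1 S := by
    rw [← hXH]
    apply Nat.card_congr
    refine Equiv.subtypeEquivRight (fun x => ?_)
    rw [hKmem, hXmem]
    exact and_comm
  -- the stabilizer in K of a point gH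
  have hstabK : ∀ g : G, g ∉ NS S → g⁻¹ * d * g ∈ NS S →
      Nat.card (MulAction.stabilizer K (((g : G) : G ⧸ NS S))) = qm1 S := by
    intro g hg hgd
    rw [card_stab_sub, ← card_two S hL hG hg hd hgd]
    apply Nat.card_congr
    refine Equiv.subtypeEquivRight (fun k => ?_)
    rw [hKmem, hXmem, smul_mk_eq_iff]
    tauto
  have hb1 : ∀ k : K, (k : G) • (((1 : G) : G ⧸ NS S)) = (((1 : G) : G ⧸ NS S)) := by
    intro k
    rw [smul_mk_eq_iff]
    simpa using hKH k
  -- first divisibility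
  have hdvd1 : m ∣ (MulAction.orbit X (((1 : G) : G ⧸ NS S)) \ {((1 : G) : G ⧸ NS S)}).ncard := by
    refine dvd_ncard_of_stab (K := K) (qm1 S) m (by omega) hKcard _ _ (Set.toFinite _) rfl ?_ ?_
    · rintro k P ⟨hP, hPb⟩
      obtain ⟨x, hx, rfl⟩ := (mem_orbit_sub (NS S) X 1 P).mp hP
      refine ⟨(mem_orbit_sub (NS S) X 1 _).mpr ⟨(k : G) * x, mul_mem (hKX k) hx, ?_⟩, ?_⟩
      · show (k : G) • (((x * 1 : G) : G ⧸ NS S)) = _
        rw [MulAction.Quotient.smul_mk, smul_eq_mul, mul_assoc]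
      · intro hcon
        apply hPb
        rw [Set.mem_singleton_iff] at hcon ⊢
        have h1 : (k : G) • (((x * 1 : G) : G ⧸ NS S)) = (((1 : G) : G ⧸ NS S)) := hcon
        have h2 := congrArg (fun q => (k : G)⁻¹ • q) h1
        simp only [inv_smul_smul] at h2
        rw [h2]
        have h3 := hb1 k
        have h4 := congrArg (fun q => (k : G)⁻¹ • q) h3
        simp only [inv_smul_smul] at h4
        exact h4.symm
    · rintro P ⟨hP, hPb⟩
      obtain ⟨x, hx, rfl⟩ := (mem_orbit_sub (NS S) X 1 P).mp hP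
      apply hstabK
      · intro hxH
        apply hPb
        rw [Set.mem_singleton_iff, QuotientGroup.eq]
        simpa using inv_mem hxH
      · have hxd := (hXmem x).mp hx
        have : (x * 1)⁻¹ * d * (x * 1) = d := by
          rw [mul_one, mul_assoc, ← hxd, inv_mul_cancel_left]
        rw [this]; exact hd
  -- second divisibility
  have hdvd2 : m ∣ (MulAction.orbit X (((w : G) : G ⧸ NS S))).ncard := by
    refine dvd_ncard_of_stab (K := K) (qm1 S) m (by omega) hKcard _ _ (Set.toFinite _) rfl ?_ ?_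
    · rintro k P hP
      obtain ⟨x, hx, rfl⟩ := (mem_orbit_sub (NS S) X w P).mp hP
      refine (mem_orbit_sub (NS S) X w _).mpr ⟨(k : G) * x, mul_mem (hKX k) hx, ?_⟩
      show (k : G) • (((x * w : G) : G ⧸ NS S)) = _
      rw [MulAction.Quotient.smul_mk, smul_eq_mul, mul_assoc]
    · rintro P hP
      obtain ⟨x, hx, rfl⟩ := (mem_orbit_sub (NS S) X w P).mp hP
      have hxd := (hXmem x).mp hx
      apply hstabK
      · exact no_swap S hL hF hG hw hwN hd hwd hd1 hxd
      · have : (x * w)⁻¹ * d * (x * w) = w * d * w := by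
          have hx' : x⁻¹ * d * x = d := by rw [mul_assoc, ← hxd, inv_mul_cancel_left]
          calc (x * w)⁻¹ * d * (x * w) = w⁻¹ * (x⁻¹ * d * x) * w := by group
            _ = w * d * w := by rw [hx', inv_inv' hw]
        rw [this]; exact hwdH
  have hb : ((1 : G) : G ⧸ NS S) ∈ MulAction.orbit X (((1 : G) : G ⧸ NS S)) :=
    MulAction.mem_orbit_self _
  have hsum := Set.ncard_sdiff_singleton_add_one hb (Set.toFinite _)
  rw [← hO, ← hsum] at hdvd2
  have h1 : m ∣ 1 := (Nat.dvd_add_right hdvd1).mp hdvd2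
  exact hm1 (Nat.dvd_one.mp h1)

end Cfsg.Agent.Lib.Helper25.AICStepH
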