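import Mathlib
import Cfsg.Agent.Lib.Helper25.ACStmt
import Cfsg.Agent.Lib.Helper25.ACOddStmt

set_option autoImplicit false

namespace Cfsg.Agent.Lib.Helper25.AOBURNA
open Cfsg.Agent.Lib.Helper25.ACStmt Cfsg.Agent.Lib.Helper25.ACOddStmt

universe u

theorem conj_pow_zpow {G : Type u} [Group G] (k x : G) (a : ℤ) (hka : k * x * k⁻¹ = x ^ a) (n : ℕ) :
    k ^ n * x * (k ^ n)⁻¹ = x ^ (a ^ n) := by
  induction n with
  | zero => simp
  | succ n ih =>
    have h1 : k ^ (n + 1) * x * (k ^ (n + 1))⁻¹ = k * (k ^ n * x * (k ^ n)⁻¹) * k⁻¹ := by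
      rw [pow_succ']; group
    have h5 : k * x ^ (a ^ n) * k⁻¹ = (k * x * k⁻¹) ^ (a ^ n) := by
      rw [conj_zpow]
    rw [h1, ih, h5, hka, ← zpow_mul, pow_succ']

theorem main : BurnA.{u} := by
  intro G _ _ p hp P hcyc M hMn hPM hsup
  haveI := hMn
  obtain ⟨⟨x, hxP⟩, hx₀⟩ := hcyc.exists_generator
  have hgen : ∀ y ∈ (P : Subgroup G), ∃ k : ℤ, x ^ k = y := by
    intro y hy
    obtain ⟨k, hk⟩ := Subgroup.mem_zpowers_iff.mp (hx₀ ⟨y, hy⟩)
    refine ⟨k, ?_⟩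
    have h1 := congrArg Subtype.val hk
    simpa using h1
  have hxM : x ∉ M := by
    intro h
    apply hPM
    intro y hy
    obtain ⟨k, rfl⟩ := hgen y hy
    exact M.zpow_mem h k
  have hPcomm : ∀ y ∈ (P : Subgroup G), ∀ z ∈ (P : Subgroup G), y * z = z * y := by
    intro y hy z hz
    obtain ⟨k, rfl⟩ := hgen y hy
    obtain ⟨l, rfl⟩ := hgen z hz
    rw [← zpow_add, ← zpow_add, add_comm]
  have hdecomp : ∀ g : G, ∃ m ∈ M, ∃ y ∈ (P : Subgroup G), g = m * y := by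
    intro g
    have hg : g ∈ ((M ⊔ (P : Subgroup G) : Subgroup G) : Set G) := by
      rw [hsup]; trivial
    rw [Subgroup.normal_mul] at hg
    obtain ⟨m, hm, y, hy, rfl⟩ := Set.mem_mul.mp hg
    exact ⟨m, hm, y, hy, rfl⟩
  have hcomm : ∀ g h : G, g * h * g⁻¹ * h⁻¹ ∈ M := by
    intro g h
    obtain ⟨m₁, hm₁, y₁, hy₁, rfl⟩ := hdecomp g
    obtain ⟨m₂, hm₂, y₂, hy₂, rfl⟩ := hdecomp h
    rw [← QuotientGroup.eq_one_iff (N := M)]
    have e1 : ((m₁ : G) : G ⧸ M) = 1 := (QuotientGroup.eq_one_iff _).mpr hm₁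
    have e2 : ((m₂ : G) : G ⧸ M) = 1 := (QuotientGroup.eq_one_iff _).mpr hm₂
    have e3 : ((y₁ * y₂ : G) : G ⧸ M) = ((y₂ * y₁ : G) : G ⧸ M) := by
      rw [hPcomm y₁ hy₁ y₂ hy₂]
    simp only [QuotientGroup.mk_mul, QuotientGroup.mk_inv, e1, e2, one_mul] at e3 ⊢
    rw [e3]; group
  obtain ⟨m, hm⟩ : ∃ m, orderOf x = p ^ m := by
    obtain ⟨m, hm⟩ := (IsPGroup.iff_orderOf.mp P.isPGroup') ⟨x, hxP⟩
    exact ⟨m, by rw [← hm, ← Subgroup.orderOf_coe]⟩
  have hm1 : 1 ≤ m := by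
    rcases Nat.eq_zero_or_pos m with h0 | h0
    · exfalso
      rw [h0, pow_zero, orderOf_eq_one_iff] at hm
      exact hxM (hm ▸ M.one_mem)
    · exact h0
  have h4 : x ^ ((p : ℤ) ^ m) = 1 := by
    have h : x ^ (p ^ m) = 1 := by rw [← hm]; exact pow_orderOf_eq_one x
    exact_mod_cast h
  have hnorm : ∀ k : G, k ∈ Subgroup.normalizer ((P : Subgroup G) : Set G) →
      ∃ a : ℤ, k * x * k⁻¹ = x ^ a ∧ (p : ℤ) ∣ a - 1 := by
    intro k hk
    have hkx : k * x * k⁻¹ ∈ (P : Subgroup G) := (Subgroup.mem_normalizer_iff.mp hk x).mp hxP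
    obtain ⟨a, ha⟩ := hgen _ hkx
    refine ⟨a, ha.symm, ?_⟩
    by_contra hpa
    have h1 : x ^ (a - 1) ∈ M := by
      have h := hcomm k x
      rw [← ha] at h
      rwa [zpow_sub_one]
    have hcop1 : IsCoprime (a - 1) (p : ℤ) := by
      rw [Int.isCoprime_iff_gcd_eq_one]
      have h2 : ¬ p ∣ (a - 1).natAbs := fun h => hpa (Int.natCast_dvd.mpr h)
      have h3 : Nat.Coprime p (a - 1).natAbs := (Nat.Prime.coprime_iff_not_dvd hp.out).mpr h2
      have h3' : Nat.gcd (a - 1).natAbs p = 1 := Nat.coprime_comm.mp h3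
      simpa [Int.gcd] using h3'
    obtain ⟨u, v, huv⟩ := hcop1.pow_right (n := m)
    have hx1 : x = (x ^ (a - 1)) ^ u := by
      calc x = x ^ (1 : ℤ) := (zpow_one x).symm
        _ = x ^ (u * (a - 1) + v * (p : ℤ) ^ m) := by rw [huv]
        _ = (x ^ (a - 1)) ^ u := by
            rw [zpow_add, zpow_mul' x u (a - 1), zpow_mul' x v ((p : ℤ) ^ m), h4, one_zpow, mul_one]
    exact hxM (by rw [hx1]; exact M.zpow_mem h1 u)
  have hcent : ∀ k : G, k ∈ Subgroup.normalizer ((P : Subgroup G) : Set G) →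
      Commute (k ^ (p ^ (m - 1))) x := by
    intro k hk
    obtain ⟨a, hka, hpa⟩ := hnorm k hk
    have h6 := conj_pow_zpow k x a hka (p ^ (m - 1))
    have h7 : ((p : ℤ) ^ m) ∣ a ^ p ^ (m - 1) - 1 := by
      have h8 := dvd_sub_pow_of_dvd_sub (R := ℤ) (p := p) (a := a) (b := 1) (by simpa using hpa) (m - 1)
      rw [one_pow, Nat.sub_add_cancel hm1] at h8
      exact h8
    have h9 : x ^ (a ^ p ^ (m - 1)) = x := by
      obtain ⟨c, hc⟩ := h7
      have h10 : a ^ p ^ (m - 1) = 1 + (p : ℤ) ^ m * c := by linarith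
      rw [h10, zpow_add, zpow_one, zpow_mul, h4, one_zpow, mul_one]
    rw [h9] at h6
    show k ^ (p ^ (m - 1)) * x = x * k ^ (p ^ (m - 1))
    calc k ^ (p ^ (m - 1)) * x
        = (k ^ (p ^ (m - 1)) * x * (k ^ (p ^ (m - 1)))⁻¹) * k ^ (p ^ (m - 1)) := by group
      _ = x * k ^ (p ^ (m - 1)) := by rw [h6]
  intro g hg
  rw [Subgroup.mem_centralizer_iff]
  obtain ⟨s, u, hu, hn⟩ := Nat.exists_eq_pow_mul_and_not_dvd (orderOf_pos g).ne' p hp.out.ne_one
  -- `g ^ u` is a `p`-element of the normalizer, hence in `P`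
  have hguP : g ^ u ∈ (P : Subgroup G) := by
    have hZ : IsPGroup p ↥(Subgroup.zpowers (g ^ u)) := by
      rw [IsPGroup.iff_orderOf]
      intro y
      have hy : (y : G) ^ (p ^ s) = 1 := by
        obtain ⟨k, hk⟩ := Subgroup.mem_zpowers_iff.mp y.2
        rw [← hk, ← zpow_natCast, ← zpow_mul, mul_comm, zpow_mul, zpow_natCast, ← pow_mul, mul_comm u,
          ← hn, pow_orderOf_eq_one, one_zpow]
      have hy' : y ^ (p ^ s) = 1 := Subtype.ext (by simpa using hy)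
      obtain ⟨j, -, hj⟩ := (Nat.dvd_prime_pow hp.out).mp (orderOf_dvd_of_pow_eq_one hy')
      exact ⟨j, hj⟩
    have hle : Subgroup.zpowers (g ^ u) ≤ Subgroup.normalizer ((P : Subgroup G) : Set G) := by
      rw [Subgroup.zpowers_le]
      exact Subgroup.pow_mem _ hg u
    have hQ : IsPGroup p ↥((P : Subgroup G) ⊔ Subgroup.zpowers (g ^ u) : Subgroup G) :=
      IsPGroup.to_sup_of_normal_left' P.isPGroup' hZ hle
    have hEq := P.is_maximal' hQ le_sup_left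
    have hmem : g ^ u ∈ ((P : Subgroup G) ⊔ Subgroup.zpowers (g ^ u) : Subgroup G) :=
      (le_sup_right : Subgroup.zpowers (g ^ u) ≤ _) (Subgroup.mem_zpowers _)
    rw [hEq] at hmem
    exact hmem
  have hc1 : Commute (g ^ u) x := hPcomm _ hguP _ hxP
  have hc2 : Commute (g ^ (p ^ (m - 1))) x := hcent g hg
  have hcop : IsCoprime (u : ℤ) ((p ^ (m - 1) : ℕ) : ℤ) := by
    rw [Nat.isCoprime_iff_coprime]
    exact (Nat.Coprime.pow_right _ ((Nat.Prime.coprime_iff_not_dvd hp.out).mpr hu).symm)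
  obtain ⟨i, j, hij⟩ := hcop
  have hg1 : g = (g ^ u) ^ i * (g ^ (p ^ (m - 1))) ^ j := by
    calc g = g ^ (1 : ℤ) := (zpow_one g).symm
      _ = g ^ (i * (u : ℤ) + j * ((p ^ (m - 1) : ℕ) : ℤ)) := by rw [hij]
      _ = (g ^ u) ^ i * (g ^ (p ^ (m - 1))) ^ j := by
          rw [zpow_add, zpow_mul' g i (u : ℤ), zpow_mul' g j _, zpow_natCast, zpow_natCast]
  have hgx : Commute g x := by
    rw [hg1]
    exact (hc1.zpow_left i).mul_left (hc2.zpow_left j)
  intro h hh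
  obtain ⟨k, rfl⟩ := hgen h hh
  exact ((hgx.zpow_right k).eq).symm

end Cfsg.Agent.Lib.Helper25.AOBURNA
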