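import Mathlib
import Cfsg.Agent.Lib.Helper25.BSWSpec
import Cfsg.Agent.Lib.CT.ClassMult

/-!
S3282, piece `ConfigIFormula`: the class multiplication constant of two involutions at an element
not conjugate into `K`, in the generic configuration.
-/

set_option autoImplicit false
open Cfsg
open scoped ComplexConjugate

namespace Cfsg.Agent.Lib.Helper25.BSWConfigIFormula

open Cfsg.Agent.Lib.Helper25.BSWSpec

universe u

/-- the final computation with the class multiplication constant -/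
theorem final_calc {G : Type u} [Group G] [Fintype G] [Fintype (IrrCharacter G)]
    {Φ : Type u} [DecidableEq Φ] (ι : Φ → Φ) (N : Finset Φ)
    (t z : G) (k : ℕ) (δ : ℤ) (o Λ Γ₁ Γ₂ : IrrCharacter G) (Θ : Φ → IrrCharacter G)
    (hk : 4 ≤ k) (hδ : δ = 1 ∨ δ = -1)
    (hN : N.card + 2 = k)
    (hιN : ∀ φ ∈ N, ι φ ∈ N ∧ ι φ ≠ φ)
    (hΘeq : ∀ φ₁ ∈ N, ∀ φ ∈ N, (Θ φ₁ = Θ φ ↔ φ = φ₁ ∨ φ = ι φ₁))
    (hΛo : Λ ≠ o) (hΓ₁o : Γ₁ ≠ o) (hΓ₂o : Γ₂ ≠ o) (hΓ₁Λ : Γ₁ ≠ Λ) (hΓ₂Λ : Γ₂ ≠ Λ)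
    (hΓ : Γ₁ ≠ Γ₂)
    (hΘne : ∀ φ ∈ N, Θ φ ≠ o ∧ Θ φ ≠ Λ ∧ Θ φ ≠ Γ₁ ∧ Θ φ ≠ Γ₂)
    (ho : ∀ g : G, o.1 g = 1)
    (hΛt : Λ.1 t = -(δ : ℂ)) (hΓ₁t : Γ₁.1 t * Γ₁.1 t = 1) (hΓ₂t : Γ₂.1 t * Γ₂.1 t = 1)
    (hΘt : ∀ φ ∈ N, (Θ φ).1 t * (Θ φ).1 t = 4)
    (hzero : ∀ χ : IrrCharacter G, χ ≠ o → χ ≠ Λ → χ ≠ Γ₁ → χ ≠ Γ₂ →
      (∀ φ ∈ N, χ ≠ Θ φ) → χ.1 t = 0)
    (hΘz : ∀ φ ∈ N, (Θ φ).1 z = Λ.1 z - (δ : ℂ))
    (hΓz : Γ₁.1 z + Γ₂.1 z = Λ.1 z - (δ : ℂ))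
    (hl : Λ.1 1 = 2 * (k : ℂ) - (δ : ℂ)) (hc₁ : Γ₁.1 1 = (k : ℂ) - (δ : ℂ))
    (hc₂ : Γ₂.1 1 = (k : ℂ) - (δ : ℂ))
    (hθ : ∀ φ ∈ N, (Θ φ).1 1 = 2 * ((k : ℂ) - (δ : ℂ)))
    (hG : (Nat.card G : ℤ) = 2 * (k : ℤ) * ((k : ℤ) - δ) * (2 * (k : ℤ) - δ)) :
    2 * (pairCount t z : ℂ) = 4 * (k : ℂ) ^ 2 *
        ((2 * (k : ℂ) - (δ : ℂ)) * (1 - (δ : ℂ)) +
          (2 * (k : ℂ) - 1 - (δ : ℂ)) * conj (Λ.1 z)) := by
  classical
  have hδC : (δ : ℂ) * (δ : ℂ) = 1 := by rcases hδ with rfl | rfl <;> norm_num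
  have hkδ : (k : ℂ) - (δ : ℂ) ≠ 0 := by
    rcases hδ with rfl | rfl
    · intro h
      have h1 : (k : ℂ) = ((1 : ℕ) : ℂ) := by push_cast at h ⊢; linear_combination h
      have h2 : k = 1 := by exact_mod_cast h1
      omega
    · intro h
      have h1 : ((k + 1 : ℕ) : ℂ) = ((0 : ℕ) : ℂ) := by push_cast at h ⊢; linear_combination h
      have h2 : k + 1 = 0 := by exact_mod_cast h1
      omega
  have h2kδ : 2 * (k : ℂ) - (δ : ℂ) ≠ 0 := by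
    rcases hδ with rfl | rfl
    · intro h
      have h1 : ((2 * k : ℕ) : ℂ) = ((1 : ℕ) : ℂ) := by push_cast at h ⊢; linear_combination h
      have h2 : 2 * k = 1 := by exact_mod_cast h1
      omega
    · intro h
      have h1 : ((2 * k + 1 : ℕ) : ℂ) = ((0 : ℕ) : ℂ) := by
        push_cast at h ⊢; linear_combination h
      have h2 : 2 * k + 1 = 0 := by exact_mod_cast h1
      omega
  have hδconj : conj (δ : ℂ) = (δ : ℂ) := by simp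
  obtain ⟨f, hf⟩ : ∃ f : IrrCharacter G → ℂ,
      ∀ χ : IrrCharacter G, f χ = χ.1 t * χ.1 t * conj (χ.1 z) / χ.1 1 := ⟨_, fun _ => rfl⟩
  have hpc : (pairCount t z : ℂ) = (Nat.card G : ℂ) * ∑ χ : IrrCharacter G, f χ := by
    have h1 := Cfsg.Agent.Lib.CT.ClassMult.conj_pair_count t t z
    simp only [hf]
    rw [← h1]
    congr 1
    unfold pairCount
    rw [Nat.card_eq_fintype_card, Fintype.card_subtype]
  obtain ⟨L, hL⟩ : ∃ L : ℂ, L = conj (Λ.1 z) := ⟨_, rfl⟩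
  rw [← hL]
  have hfo : f o = 1 := by rw [hf]; simp [ho]
  have hfΛ : f Λ = L / (2 * (k : ℂ) - (δ : ℂ)) := by
    rw [hf, hΛt, hl, ← hL]
    field_simp
    linear_combination L * hδC
  have hfΓ : f Γ₁ + f Γ₂ = (L - (δ : ℂ)) / ((k : ℂ) - (δ : ℂ)) := by
    rw [hf, hf, hΓ₁t, hΓ₂t, hc₁, hc₂, one_mul, one_mul, ← add_div, ← map_add, hΓz, map_sub,
      hδconj, ← hL]
  have hfΘ : ∀ φ ∈ N, f (Θ φ) = 2 * (L - (δ : ℂ)) / ((k : ℂ) - (δ : ℂ)) := by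
    intro φ hφ
    rw [hf, hΘt φ hφ, hΘz φ hφ, hθ φ hφ, map_sub, hδconj, ← hL]
    field_simp
    ring
  have hsum : ∑ χ : IrrCharacter G, f χ =
      f o + (f Λ + (f Γ₁ + f Γ₂)) + ∑ χ ∈ N.image Θ, f χ := by
    have hdisj : Disjoint ({o, Λ, Γ₁, Γ₂} : Finset (IrrCharacter G)) (N.image Θ) := by
      rw [Finset.disjoint_left]
      intro χ hχ hm
      obtain ⟨φ, hφ, rfl⟩ := Finset.mem_image.mp hm
      obtain ⟨a1, a2, a3, a4⟩ := hΘne φ hφ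
      simp only [Finset.mem_insert, Finset.mem_singleton] at hχ
      tauto
    rw [← Finset.sum_subset (Finset.subset_univ
      (({o, Λ, Γ₁, Γ₂} : Finset (IrrCharacter G)) ∪ N.image Θ))]
    · rw [Finset.sum_union hdisj, Finset.sum_insert, Finset.sum_insert, Finset.sum_insert,
        Finset.sum_singleton]
      · simp only [Finset.mem_singleton]; exact hΓ
      · simp only [Finset.mem_insert, Finset.mem_singleton]
        intro h; rcases h with h | h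
        · exact hΓ₁Λ h.symm
        · exact hΓ₂Λ h.symm
      · simp only [Finset.mem_insert, Finset.mem_singleton]
        intro h; rcases h with h | h | h
        · exact hΛo h.symm
        · exact hΓ₁o h.symm
        · exact hΓ₂o h.symm
    · intro χ _ hχ
      simp only [Finset.mem_union, Finset.mem_insert, Finset.mem_singleton, Finset.mem_image,
        not_or] at hχ
      obtain ⟨⟨h1, h2, h3, h4⟩, h5⟩ := hχ
      have h0 : χ.1 t = 0 := hzero χ h1 h2 h3 h4 (fun φ hφ he => h5 ⟨φ, hφ, he.symm⟩)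
      rw [hf, h0]; simp
  have himg : ∑ χ ∈ N.image Θ, f χ =
      ∑ φ ∈ N, (L - (δ : ℂ)) / ((k : ℂ) - (δ : ℂ)) := by
    apply Finset.sum_image'
    intro i hi
    have hfib : (N.filter fun j => Θ j = Θ i) = {i, ι i} := by
      ext j
      simp only [Finset.mem_filter, Finset.mem_insert, Finset.mem_singleton]
      constructor
      · rintro ⟨hj, he⟩; exact (hΘeq i hi j hj).mp he.symm
      · rintro (h | h)
        · rw [h]; exact ⟨hi, rfl⟩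
        · have hj : j ∈ N := h ▸ (hιN i hi).1
          exact ⟨hj, ((hΘeq i hi j hj).mpr (Or.inr h)).symm⟩
    rw [hfib, Finset.sum_pair (hιN i hi).2.symm, hfΘ i hi]; ring
  have hNc : (N.card : ℂ) = (k : ℂ) - 2 := by
    have := congrArg (Nat.cast : ℕ → ℂ) hN
    push_cast at this
    linear_combination this
  have hGC : (Nat.card G : ℂ) = 2 * (k : ℂ) * ((k : ℂ) - δ) * (2 * (k : ℂ) - δ) := by
    exact_mod_cast hG
  rw [hpc, hsum, himg, Finset.sum_const, nsmul_eq_mul, hNc, hfo, hfΓ, hfΛ, hGC]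
  field_simp
  ring

set_option maxHeartbeats 1600000 in
theorem main : ConfigIFormula.{u} := by
  intro hDual G _ _ t K s k _ _ v σ o hb hk hv ho hσ1 hσinv hσu Λ Γ₁ Γ₂ Θ δ ε δ₁ δ₂ hI
    hε hδ₁ hδ₂ hl hc₁ hc₂ hθ hG
  classical
  obtain ⟨hcardK, hsum, -, -⟩ := hDual G t K s k hb hk
  have hδ := hI.hδ
  have hδC : (δ : ℂ) * (δ : ℂ) = 1 := by rcases hδ with rfl | rfl <;> norm_num
  have hεC : (ε : ℂ) = -(δ : ℂ) := by rw [hε]; push_cast; ring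
  have hδ₁C : (δ₁ : ℂ) = -(δ : ℂ) := by rw [hδ₁]; push_cast; ring
  have hδ₂C : (δ₂ : ℂ) = -(δ : ℂ) := by rw [hδ₂]; push_cast; ring
  -- real / non-real characters of `K`
  have hreal : ∀ φ : ↥K →* ℂˣ, φ⁻¹ = φ → φ = 1 ∨ φ = σ := hσu
  have inv1 : ((1 : ↥K →* ℂˣ))⁻¹ = 1 := MonoidHom.ext fun x => by simp
  have invinv : ∀ φ : ↥K →* ℂˣ, φ⁻¹⁻¹ = φ := fun φ => MonoidHom.ext fun x => by simp
  have inveq1 : ∀ φ : ↥K →* ℂˣ, φ⁻¹ = 1 → φ = 1 := by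
    intro φ h
    have := invinv φ
    rw [h, inv1] at this
    exact this.symm
  have hnr1 : ∀ φ : ↥K →* ℂˣ, φ⁻¹ ≠ φ → φ ≠ 1 := by
    rintro φ h rfl; exact h inv1
  have hnrσ : ∀ φ : ↥K →* ℂˣ, φ⁻¹ ≠ φ → φ ≠ σ := by
    rintro φ h rfl; exact h hσinv
  -- the vectors `v` at the special characters
  have hvΛ : ∀ φ : ↥K →* ℂˣ, v φ Λ = if φ = 1 then 0 else δ := by
    intro φ
    by_cases h1 : φ = 1
    · rw [if_pos h1, h1]; exact hv.one Λ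
    rw [if_neg h1]
    by_cases hr : φ⁻¹ = φ
    · rcases hreal φ hr with h | h
      · exact absurd h h1
      · rw [h, hI.hσ Λ, if_neg hI.hΛo, if_pos rfl, if_neg hI.hΓ₁Λ.symm, if_neg hI.hΓ₂Λ.symm]
        ring
    · rw [hI.hv φ hr Λ, if_neg hI.hΛo, if_pos rfl, if_neg (hI.hΘ φ hr).2.1.symm]
      ring
  have hvΓ₁ : ∀ φ : ↥K →* ℂˣ, v φ Γ₁ = if φ = σ then δ₁ else 0 := by
    intro φ
    by_cases h1 : φ = 1
    · rw [if_neg (by rw [h1]; exact hσ1.symm), h1]; exact hv.one Γ₁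
    by_cases hr : φ⁻¹ = φ
    · rcases hreal φ hr with h | h
      · exact absurd h h1
      · rw [if_pos h, h, hI.hσ Γ₁, if_neg hI.hΓ₁o, if_neg hI.hΓ₁Λ, if_pos rfl, if_neg hI.hΓ]
        ring
    · rw [if_neg (hnrσ φ hr), hI.hv φ hr Γ₁, if_neg hI.hΓ₁o, if_neg hI.hΓ₁Λ,
        if_neg (hI.hΘ φ hr).2.2.1.symm]
      ring
  have hvΓ₂ : ∀ φ : ↥K →* ℂˣ, v φ Γ₂ = if φ = σ then δ₂ else 0 := by
    intro φ
    by_cases h1 : φ = 1
    · rw [if_neg (by rw [h1]; exact hσ1.symm), h1]; exact hv.one Γ₂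
    by_cases hr : φ⁻¹ = φ
    · rcases hreal φ hr with h | h
      · exact absurd h h1
      · rw [if_pos h, h, hI.hσ Γ₂, if_neg hI.hΓ₂o, if_neg hI.hΓ₂Λ, if_neg hI.hΓ.symm, if_pos rfl]
        ring
    · rw [if_neg (hnrσ φ hr), hI.hv φ hr Γ₂, if_neg hI.hΓ₂o, if_neg hI.hΓ₂Λ,
        if_neg (hI.hΘ φ hr).2.2.2.1.symm]
      ring
  have hΘeq : ∀ φ₁ φ : ↥K →* ℂˣ, φ₁⁻¹ ≠ φ₁ → φ⁻¹ ≠ φ → (Θ φ₁ = Θ φ ↔ φ = φ₁ ∨ φ = φ₁⁻¹) := by
    intro φ₁ φ h₁ hr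
    constructor
    · exact hI.hΘinj φ₁ φ h₁ hr
    · rintro (h | h)
      · rw [h]
      · rw [h]; exact ((hI.hΘ φ₁ h₁).2.2.2.2).symm
  have hvΘ : ∀ φ₁ : ↥K →* ℂˣ, φ₁⁻¹ ≠ φ₁ → ∀ φ : ↥K →* ℂˣ,
      v φ (Θ φ₁) = if (φ = φ₁ ∨ φ = φ₁⁻¹) then ε else 0 := by
    intro φ₁ h₁ φ
    obtain ⟨hΘo, hΘΛ, hΘΓ₁, hΘΓ₂, -⟩ := hI.hΘ φ₁ h₁
    by_cases h1 : φ = 1
    · rw [if_neg, h1]
      · exact hv.one _
      · rintro (h | h)
        · exact hnr1 φ₁ h₁ (h1 ▸ h).symm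
        · apply hnr1 φ₁ h₁
          have : φ₁⁻¹ = 1 := (h1 ▸ h).symm
          exact inveq1 φ₁ this
    by_cases hr : φ⁻¹ = φ
    · rcases hreal φ hr with h | h
      · exact absurd h h1
      · rw [if_neg, h, hI.hσ (Θ φ₁), if_neg hΘo, if_neg hΘΛ, if_neg hΘΓ₁, if_neg hΘΓ₂]
        · ring
        · rintro (h' | h')
          · exact hnrσ φ₁ h₁ (h ▸ h').symm
          · apply hnrσ φ₁ h₁
            have : φ₁⁻¹ = σ := (h ▸ h').symm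
            rw [← hσinv, ← this, invinv]
    · rw [hI.hv φ hr (Θ φ₁), if_neg hΘo, if_neg hΘΛ]
      by_cases hc : φ = φ₁ ∨ φ = φ₁⁻¹
      · rw [if_pos hc, if_pos ((hΘeq φ₁ φ h₁ hr).mpr hc)]; ring
      · rw [if_neg hc, if_neg (fun h => hc ((hΘeq φ₁ φ h₁ hr).mp h))]; ring
  -- `Λ` on `K \ {1}`
  have hΛK : ∀ x : ↥K, x ≠ 1 → Λ.1 (x : G) = -(δ : ℂ) := by
    intro x hx
    rw [hv.val Λ x hx]
    have h1 : ∀ φ : ↥K →* ℂˣ, (v φ Λ : ℂ) * ((φ x : ℂˣ) : ℂ) =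
        (δ : ℂ) * ((φ x : ℂˣ) : ℂ) - (if φ = 1 then (δ : ℂ) else 0) := by
      intro φ
      rw [hvΛ φ]
      split_ifs with h
      · subst h; simp
      · simp
    simp only [h1, Finset.sum_sub_distrib, ← Finset.mul_sum, hsum x hx, Finset.sum_ite_eq',
      Finset.mem_univ, if_true]
    ring
  refine ⟨fun x hx hx1 => hΛK ⟨x, hx⟩ (fun h => hx1 (congrArg Subtype.val h)), ?_⟩
  intro z hz
  -- the element `t` of `K`
  have ht1 : t ≠ 1 := by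
    intro h
    have := hb.ht
    rw [h, orderOf_one] at this
    omega
  have htt : t * t = 1 := by
    have := pow_orderOf_eq_one t
    rw [hb.ht, pow_two] at this
    exact this
  let tK : ↥K := ⟨t, hb.htK⟩
  have htK1 : tK ≠ 1 := fun h => ht1 (congrArg Subtype.val h)
  have hφt : ∀ φ : ↥K →* ℂˣ, ((φ tK : ℂˣ) : ℂ) * ((φ tK : ℂˣ) : ℂ) = 1 := by
    intro φ
    have h1 : tK * tK = 1 := Subtype.ext htt
    have h2 : φ tK * φ tK = 1 := by rw [← map_mul, h1, map_one]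
    have := congrArg (fun u : ℂˣ => (u : ℂ)) h2
    simpa using this
  -- values at `t`
  have hΛt : Λ.1 t = -(δ : ℂ) := hΛK tK htK1
  have hΓ₁t : Γ₁.1 t * Γ₁.1 t = 1 := by
    have h1 : Γ₁.1 t = (δ₁ : ℂ) * ((σ tK : ℂˣ) : ℂ) := by
      have := hv.val Γ₁ tK htK1
      rw [show ((tK : ↥K) : G) = t from rfl] at this
      rw [this]
      simp only [hvΓ₁]
      simp [Finset.sum_ite_eq', ite_mul]
    rw [h1, hδ₁C]
    have := hφt σ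
    linear_combination (((σ tK : ℂˣ) : ℂ) * ((σ tK : ℂˣ) : ℂ)) * hδC + this
  have hΓ₂t : Γ₂.1 t * Γ₂.1 t = 1 := by
    have h1 : Γ₂.1 t = (δ₂ : ℂ) * ((σ tK : ℂˣ) : ℂ) := by
      have := hv.val Γ₂ tK htK1
      rw [show ((tK : ↥K) : G) = t from rfl] at this
      rw [this]
      simp only [hvΓ₂]
      simp [Finset.sum_ite_eq', ite_mul]
    rw [h1, hδ₂C]
    have := hφt σ
    linear_combination (((σ tK : ℂˣ) : ℂ) * ((σ tK : ℂˣ) : ℂ)) * hδC + this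
  have hΘt : ∀ φ₁ : ↥K →* ℂˣ, φ₁⁻¹ ≠ φ₁ → (Θ φ₁).1 t * (Θ φ₁).1 t = 4 := by
    intro φ₁ h₁
    have h1 : (Θ φ₁).1 t = 2 * (ε : ℂ) * ((φ₁ tK : ℂˣ) : ℂ) := by
      have := hv.val (Θ φ₁) tK htK1
      rw [show ((tK : ↥K) : G) = t from rfl] at this
      rw [this]
      simp only [hvΘ φ₁ h₁]
      have e : ∀ φ : ↥K →* ℂˣ, (((if (φ = φ₁ ∨ φ = φ₁⁻¹) then ε else 0 : ℤ) : ℂ)) *
          ((φ tK : ℂˣ) : ℂ) = (if φ = φ₁ then (ε : ℂ) * ((φ tK : ℂˣ) : ℂ) else 0) +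
            (if φ = φ₁⁻¹ then (ε : ℂ) * ((φ tK : ℂˣ) : ℂ) else 0) := by
        intro φ
        by_cases ha : φ = φ₁
        · have hb' : φ ≠ φ₁⁻¹ := by rw [ha]; exact fun h => h₁ h.symm
          rw [if_pos (Or.inl ha), if_pos ha, if_neg hb']; simp
        · by_cases hb' : φ = φ₁⁻¹
          · rw [if_pos (Or.inr hb'), if_neg ha, if_pos hb']; simp
          · rw [if_neg (by tauto), if_neg ha, if_neg hb']; simp
      simp only [e, Finset.sum_add_distrib, Finset.sum_ite_eq', Finset.mem_univ, if_true]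
      have e2 : ((φ₁⁻¹ tK : ℂˣ) : ℂ) = ((φ₁ tK : ℂˣ) : ℂ) := by
        rw [MonoidHom.inv_apply, Units.val_inv_eq_inv_val]
        have h3 := hφt φ₁
        have hne : ((φ₁ tK : ℂˣ) : ℂ) ≠ 0 := Units.ne_zero _
        field_simp
        linear_combination -h3
      rw [e2]; ring
    rw [h1, hεC]
    have := hφt φ₁
    linear_combination (4 * ((φ₁ tK : ℂˣ) : ℂ) * ((φ₁ tK : ℂˣ) : ℂ)) * hδC + 4 * this
  have hzero : ∀ χ : IrrCharacter G, χ ≠ o → χ ≠ Λ → χ ≠ Γ₁ → χ ≠ Γ₂ →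
      (∀ φ : ↥K →* ℂˣ, φ⁻¹ ≠ φ → χ ≠ Θ φ) → χ.1 t = 0 := by
    intro χ h1 h2 h3 h4 h5
    have := hv.val χ tK htK1
    rw [show ((tK : ↥K) : G) = t from rfl] at this
    rw [this]
    apply Finset.sum_eq_zero
    intro φ _
    have hv0 : v φ χ = 0 := by
      by_cases hφ1 : φ = 1
      · rw [hφ1]; exact hv.one χ
      by_cases hr : φ⁻¹ = φ
      · rcases hreal φ hr with h | h
        · exact absurd h hφ1
        · rw [h, hI.hσ χ, if_neg h1, if_neg h2, if_neg h3, if_neg h4]; ring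
      · rw [hI.hv φ hr χ, if_neg h1, if_neg h2, if_neg (h5 φ hr)]; ring
    rw [hv0]; simp
  -- values at `z`
  have hΘz : ∀ φ₁ : ↥K →* ℂˣ, φ₁⁻¹ ≠ φ₁ → (Θ φ₁).1 z = Λ.1 z - (δ : ℂ) := by
    intro φ₁ h₁
    have h1 := hv.off φ₁ z hz
    have e : ∀ ψ : IrrCharacter G, (v φ₁ ψ : ℂ) * ψ.1 z =
        (if ψ = o then -(ψ.1 z) else 0) + (if ψ = Λ then (δ : ℂ) * ψ.1 z else 0) +
          (if ψ = Θ φ₁ then (ε : ℂ) * ψ.1 z else 0) := by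
      intro ψ
      rw [hI.hv φ₁ h₁ ψ]
      push_cast
      split_ifs <;> ring
    simp only [e, Finset.sum_add_distrib, Finset.sum_ite_eq', Finset.mem_univ, if_true] at h1
    rw [ho z, hεC] at h1
    linear_combination (-(δ : ℂ)) * h1 + (Λ.1 z - (Θ φ₁).1 z) * hδC
  have hΓz : Γ₁.1 z + Γ₂.1 z = Λ.1 z - (δ : ℂ) := by
    have h1 := hv.off σ z hz
    have e : ∀ ψ : IrrCharacter G, (v σ ψ : ℂ) * ψ.1 z =
        (if ψ = o then -(ψ.1 z) else 0) + (if ψ = Λ then (δ : ℂ) * ψ.1 z else 0) +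
          (if ψ = Γ₁ then (δ₁ : ℂ) * ψ.1 z else 0) + (if ψ = Γ₂ then (δ₂ : ℂ) * ψ.1 z else 0) := by
      intro ψ
      rw [hI.hσ ψ]
      push_cast
      split_ifs <;> ring
    simp only [e, Finset.sum_add_distrib, Finset.sum_ite_eq', Finset.mem_univ, if_true] at h1
    rw [ho z, hδ₁C, hδ₂C] at h1
    linear_combination (-(δ : ℂ)) * h1 + (Λ.1 z - Γ₁.1 z - Γ₂.1 z) * hδC
  have hNdef : ∀ φ : ↥K →* ℂˣ,
      φ ∈ (Finset.univ.filter fun φ : ↥K →* ℂˣ => φ⁻¹ ≠ φ) ↔ φ⁻¹ ≠ φ := by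
    intro φ; simp
  have hNcard : (Finset.univ.filter fun φ : ↥K →* ℂˣ => φ⁻¹ ≠ φ).card + 2 = k := by
    have h1 : (Finset.univ.filter fun φ : ↥K →* ℂˣ => φ⁻¹ = φ).card +
        (Finset.univ.filter fun φ : ↥K →* ℂˣ => φ⁻¹ ≠ φ).card =
          (Finset.univ : Finset (↥K →* ℂˣ)).card :=
      Finset.card_filter_add_card_filter_not _
    have h2 : (Finset.univ.filter fun φ : ↥K →* ℂˣ => φ⁻¹ = φ) = {1, σ} := by
      ext φ
      simp only [Finset.mem_filter, Finset.mem_univ, true_and, Finset.mem_insert,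
        Finset.mem_singleton]
      constructor
      · exact hreal φ
      · rintro (h | h)
        · rw [h]; exact inv1
        · rw [h]; exact hσinv
    rw [h2, Finset.card_pair hσ1.symm, Finset.card_univ, hcardK] at h1
    omega
  exact final_calc (fun φ : ↥K →* ℂˣ => φ⁻¹) (Finset.univ.filter fun φ : ↥K →* ℂˣ => φ⁻¹ ≠ φ)
    t z k δ o Λ Γ₁ Γ₂ Θ hk hδ hNcard
    (fun φ hφ => by
      rw [hNdef] at hφ ⊢
      exact ⟨by rw [invinv]; exact fun h => hφ h.symm, hφ⟩)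
    (fun φ₁ h₁ φ hφ => hΘeq φ₁ φ ((hNdef φ₁).mp h₁) ((hNdef φ).mp hφ))
    hI.hΛo hI.hΓ₁o hI.hΓ₂o hI.hΓ₁Λ hI.hΓ₂Λ hI.hΓ
    (fun φ hφ => by
      obtain ⟨a1, a2, a3, a4, -⟩ := hI.hΘ φ ((hNdef φ).mp hφ)
      exact ⟨a1, a2, a3, a4⟩)
    ho hΛt hΓ₁t hΓ₂t
    (fun φ hφ => hΘt φ ((hNdef φ).mp hφ))
    (fun χ h1 h2 h3 h4 h5 => hzero χ h1 h2 h3 h4 (fun φ hφ => h5 φ ((hNdef φ).mpr hφ)))
    (fun φ hφ => hΘz φ ((hNdef φ).mp hφ))
    hΓz hl hc₁ hc₂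
    (fun φ hφ => hθ φ ((hNdef φ).mp hφ))
    hG

end Cfsg.Agent.Lib.Helper25.BSWConfigIFormula
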