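import Mathlib
import Cfsg.Agent.Lib.Helper25.BSWSpec

/-!
S3282, piece `EndM`: the endgame in the case `q = 2k+1`.
-/

set_option autoImplicit false
open Cfsg

namespace Cfsg.Agent.Lib.Helper25.BSWEndM

open Cfsg.Agent.Lib.Helper25.BSWSpec

universe u

variable {G : Type u} [Group G]

theorem orderOf_conj' (g w : G) : orderOf (g * w * g⁻¹) = orderOf w := by
  have := orderOf_injective (MulAut.conj g).toMonoidHom (MulAut.conj g).injective w
  simpa using this

theorem notConjK_conj {K : Subgroup G} (g : G) {z : G} (h : NotConjK K z) :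
    NotConjK K (g * z * g⁻¹) := by
  intro g'
  have : g' * (g * z * g⁻¹) * g'⁻¹ = (g' * g) * z * (g' * g)⁻¹ := by group
  rw [this]
  exact h _

theorem aInv_conj (g z : G) : aInv (g * z * g⁻¹) = aInv z := by
  unfold aInv
  apply Nat.card_congr
  refine ⟨fun w => ⟨g⁻¹ * w.1 * g, ?_, ?_⟩, fun w => ⟨g * w.1 * g⁻¹, ?_, ?_⟩, ?_, ?_⟩
  · have := orderOf_conj' g⁻¹ w.1
    rw [inv_inv] at this
    rw [this]; exact w.2.1
  · have h2 := w.2.2
    have e : g⁻¹ * w.1 * g * z * (g⁻¹ * w.1 * g)⁻¹ = g⁻¹ * (w.1 * (g * z * g⁻¹) * w.1⁻¹) * g := by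
      group
    rw [e, h2]; group
  · rw [orderOf_conj']; exact w.2.1
  · have h2 := w.2.2
    have e : g * w.1 * g⁻¹ * (g * z * g⁻¹) * (g * w.1 * g⁻¹)⁻¹ = g * (w.1 * z * w.1⁻¹) * g⁻¹ := by
      group
    rw [e, h2]; group
  · intro w; apply Subtype.ext; simp only; group
  · intro w; apply Subtype.ext; simp only; group

/-- elements of `Q ⊔ E` are products when `E` normalizes `Q` -/
theorem mem_sup_of_le_normalizer {Q E : Subgroup G} (hE : E ≤ Subgroup.normalizer (Q : Set G))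
    {y : G} (hy : y ∈ Q ⊔ E) : ∃ x ∈ Q, ∃ e ∈ E, y = x * e := by
  let T : Subgroup G :=
    { carrier := {y | ∃ x ∈ Q, ∃ e ∈ E, y = x * e}
      one_mem' := ⟨1, Q.one_mem, 1, E.one_mem, by simp⟩
      mul_mem' := by
        rintro a b ⟨x, hx, e, he, rfl⟩ ⟨x', hx', e', he', rfl⟩
        refine ⟨x * (e * x' * e⁻¹), Q.mul_mem hx ?_, e * e', E.mul_mem he he', by group⟩
        exact (Subgroup.mem_normalizer_iff.mp (hE he) x').mp hx'
      inv_mem' := by
        rintro a ⟨x, hx, e, he, rfl⟩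
        refine ⟨e⁻¹ * x⁻¹ * e⁻¹⁻¹, ?_, e⁻¹, E.inv_mem he, by group⟩
        exact (Subgroup.mem_normalizer_iff.mp (hE (E.inv_mem he)) x⁻¹).mp (Q.inv_mem hx) }
  have h1 : Q ⊔ E ≤ T := by
    apply sup_le
    · intro x hx; exact ⟨x, hx, 1, E.one_mem, by simp⟩
    · intro e he; exact ⟨1, Q.one_mem, e, he, by simp⟩
  exact h1 hy

theorem card_sup_le_of_le_normalizer [Finite G] {Q E : Subgroup G}
    (hE : E ≤ Subgroup.normalizer (Q : Set G)) :
    Nat.card ↥(Q ⊔ E) ≤ Nat.card Q * Nat.card E := by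
  rw [← Nat.card_prod]
  have : ∀ y : ↥(Q ⊔ E), ∃ p : ↥Q × ↥E, (y : G) = p.1 * p.2 := by
    intro y
    obtain ⟨x, hx, e, he, h⟩ := mem_sup_of_le_normalizer hE y.2
    exact ⟨(⟨x, hx⟩, ⟨e, he⟩), h⟩
  choose f hf using this
  apply Nat.card_le_card_of_injective f
  intro y y' h
  apply Subtype.ext
  rw [hf y, hf y', h]

theorem mem_map_conj {K : Subgroup G} {g y : G} :
    y ∈ K.map (MulAut.conj g).toMonoidHom ↔ ∃ a ∈ K, y = g * a * g⁻¹ := by
  rw [Subgroup.mem_map]
  constructor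
  · rintro ⟨a, ha, rfl⟩
    exact ⟨a, ha, by simp⟩
  · rintro ⟨a, ha, rfl⟩
    exact ⟨a, ha, by simp⟩

theorem card_map_conj [Finite G] (K : Subgroup G) (g : G) :
    Nat.card ↥(K.map (MulAut.conj g).toMonoidHom) = Nat.card K :=
  Subgroup.card_map_of_injective (MulAut.conj g).injective

/-- normalizers of nontrivial subgroups of a conjugate of `K` -/
theorem normalizer_sub_conjK {t : G} {K : Subgroup G} {s : G} {k : ℕ} (hb : Basic t K s k)
    (g : G) (X : Subgroup G) (hX : X ≤ K.map (MulAut.conj g).toMonoidHom) (hX1 : X ≠ ⊥) (y : G) :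
    y ∈ Subgroup.normalizer (X : Set G) ↔ y * (g * t * g⁻¹) = (g * t * g⁻¹) * y := by
  have key : ∀ y : G, y * (g * t * g⁻¹) = (g * t * g⁻¹) * y → ∀ n ∈ X, y * n * y⁻¹ ∈ X := by
    intro y hy n hn
    obtain ⟨a, ha, rfl⟩ := mem_map_conj.mp (hX hn)
    have hc : (g⁻¹ * y * g) * t = t * (g⁻¹ * y * g) := by
      have e1 : (g⁻¹ * y * g) * t = g⁻¹ * (y * (g * t * g⁻¹)) * g := by group
      have e2 : t * (g⁻¹ * y * g) = g⁻¹ * ((g * t * g⁻¹) * y) * g := by group
      rw [e1, e2, hy]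
    rcases (hb.cent_t _).mp hc with hK | ⟨a', ha', hs⟩
    · have e : y * (g * a * g⁻¹) * y⁻¹ = g * ((g⁻¹ * y * g) * a * (g⁻¹ * y * g)⁻¹) * g⁻¹ := by
        group
      have e2 : (g⁻¹ * y * g) * a * (g⁻¹ * y * g)⁻¹ = a := by
        rw [hb.comm _ hK _ ha]; group
      rw [e, e2]; exact hn
    · have e : y * (g * a * g⁻¹) * y⁻¹ = g * ((g⁻¹ * y * g) * a * (g⁻¹ * y * g)⁻¹) * g⁻¹ := by
        group
      have e2 : (g⁻¹ * y * g) * a * (g⁻¹ * y * g)⁻¹ = a⁻¹ := by
        rw [hs]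
        have e3 : a' * s * a * (a' * s)⁻¹ = a' * (s * a * s⁻¹) * a'⁻¹ := by group
        rw [e3, hb.inv a ha, hb.comm _ ha' _ (K.inv_mem ha)]; group
      rw [e, e2]
      have e4 : g * a⁻¹ * g⁻¹ = (g * a * g⁻¹)⁻¹ := by group
      rw [e4]; exact X.inv_mem hn
  constructor
  · intro hy
    obtain ⟨x, hx1⟩ := (Subgroup.ne_bot_iff_exists_ne_one).mp hX1
    obtain ⟨x, hxX, hx1⟩ : ∃ x ∈ X, x ≠ 1 := by
      refine ⟨x.1, x.2, ?_⟩
      intro h; exact hx1 (Subtype.ext h)
    obtain ⟨a, ha, rfl⟩ := mem_map_conj.mp (hX hxX)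
    have ha1 : a ≠ 1 := by
      rintro rfl; apply hx1; group
    have h2 := (Subgroup.mem_normalizer_iff.mp hy _).mp hxX
    obtain ⟨a', ha', h3⟩ := mem_map_conj.mp (hX h2)
    have h4 : (g⁻¹ * y * g) * a * (g⁻¹ * y * g)⁻¹ ∈ K := by
      have : (g⁻¹ * y * g) * a * (g⁻¹ * y * g)⁻¹ = g⁻¹ * (y * (g * a * g⁻¹) * y⁻¹) * g := by group
      rw [this, h3]
      have : g⁻¹ * (g * a' * g⁻¹) * g = a' := by group
      rw [this]; exact ha'
    have h5 := hb.ti a ha ha1 _ h4
    have e1 : y * (g * t * g⁻¹) = g * ((g⁻¹ * y * g) * t) * g⁻¹ := by group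
    have e2 : (g * t * g⁻¹) * y = g * (t * (g⁻¹ * y * g)) * g⁻¹ := by group
    rw [e1, e2, h5]
  · intro hy
    rw [Subgroup.mem_normalizer_iff]
    intro n
    constructor
    · exact key y hy n
    · intro hn
      have hy' : y⁻¹ * (g * t * g⁻¹) = (g * t * g⁻¹) * y⁻¹ := by
        have : y⁻¹ * (g * t * g⁻¹) = y⁻¹ * ((g * t * g⁻¹) * y) * y⁻¹ := by group
        rw [this, ← hy]; group
      have := key y⁻¹ hy' _ hn
      have e : y⁻¹ * (y * n * y⁻¹) * y⁻¹⁻¹ = n := by group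
      rwa [e] at this

theorem main : EndM.{u} := by
  intro hR1 hR2 G _ _ t K s k hb hk hG hex hcard
  classical
  have : Fintype G := Fintype.ofFinite G
  obtain ⟨z₀, hz₀, ha₀⟩ := hex
  -- an involution inverting `z₀`
  have hpos : 0 < Nat.card {w : G // orderOf w = 2 ∧ w * z₀ * w⁻¹ = z₀⁻¹} := by
    have : aInv z₀ = Nat.card {w : G // orderOf w = 2 ∧ w * z₀ * w⁻¹ = z₀⁻¹} := rfl
    rw [← this, ha₀]; omega
  obtain ⟨⟨w, hw2, hwz⟩⟩ := (Nat.card_pos_iff.mp hpos).1
  obtain ⟨hinvQ, hQ, hQcard⟩ := hR1 G t K s k hb z₀ w hz₀ hw2 hwz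
  obtain ⟨E, hN, hQE, hwE, -, g, hgw, hEK⟩ := hR2 hR1 G t K s k hb z₀ w hz₀ hw2 hwz
  obtain ⟨Q, hQdef⟩ : ∃ Q : Subgroup G, Q = Subgroup.centralizer ({z₀} : Set G) := ⟨_, rfl⟩
  rw [← hQdef] at hinvQ hQ hQcard hN hQE
  have hq : Nat.card Q = 2 * k + 1 := by rw [← hQcard, ha₀]
  have hkpos : 0 < k := by omega
  -- every nontrivial element of `Q` has `aInv = 2k+1`
  have haQ : ∀ x ∈ Q, x ≠ 1 → aInv x = 2 * k + 1 := by
    intro x hx hx1
    obtain ⟨h1, h2⟩ := hQ x hx hx1
    have h3 := (hR1 G t K s k hb x w h1 hw2 (hinvQ x hx)).2.2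
    rw [h3, h2, hq]
  -- lower bound for the normalizer
  have hlow : Nat.card G * (2 * k) ≤
      Nat.card ↥(Subgroup.normalizer (Q : Set G)) * ((2 * k + 1) ^ 2 - 1) := by
    let S : Finset (G × G) :=
      (Finset.univ : Finset G) ×ˢ (Finset.univ.filter (fun x : G => x ∈ Q ∧ x ≠ 1))
    let T : Finset G := Finset.univ.filter (fun z : G => NotConjK K z ∧ aInv z = 2 * k + 1)
    have hST : ∀ a ∈ S, (fun p : G × G => p.1 * p.2 * p.1⁻¹) a ∈ T := by
      intro a ha
      simp only [S, Finset.mem_product, Finset.mem_univ, Finset.mem_filter, true_and] at ha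
      simp only [T, Finset.mem_filter, Finset.mem_univ, true_and]
      refine ⟨notConjK_conj _ (hQ a.2 ha.1 ha.2).1, ?_⟩
      rw [aInv_conj]; exact haQ a.2 ha.1 ha.2
    have hfib : ∀ b ∈ T, (S.filter (fun p : G × G => p.1 * p.2 * p.1⁻¹ = b)).card
        ≤ Nat.card ↥(Subgroup.normalizer (Q : Set G)) := by
      intro b _
      by_cases hne : (S.filter (fun p : G × G => p.1 * p.2 * p.1⁻¹ = b)).Nonempty
      · obtain ⟨p₁, hp₁⟩ := hne
        simp only [S, Finset.mem_filter, Finset.mem_product, Finset.mem_univ, true_and] at hp₁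
        obtain ⟨⟨hp₁Q, hp₁1⟩, hp₁b⟩ := hp₁
        have hNcard : Nat.card ↥(Subgroup.normalizer (Q : Set G)) =
            (Finset.univ.filter (fun y : G => y ∈ Subgroup.normalizer (Q : Set G))).card := by
          rw [Nat.card_eq_fintype_card, Fintype.card_subtype]
        rw [hNcard]
        refine Finset.card_le_card_of_injOn (f := fun p : G × G => p₁.1⁻¹ * p.1) ?_ ?_
        · intro p hp
          simp only [S, Finset.coe_filter, Finset.mem_product, Finset.mem_univ, true_and,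
            Finset.mem_filter, Set.mem_ofPred_eq] at hp
          obtain ⟨⟨hpQ, hp1⟩, hpb⟩ := hp
          simp only [Finset.coe_filter, Finset.mem_univ, true_and, Set.mem_ofPred_eq]
          have hc1 : Subgroup.centralizer ({p.2} : Set G) = Q := (hQ _ hpQ hp1).2
          have hc2 : Subgroup.centralizer ({p₁.2} : Set G) = Q := (hQ _ hp₁Q hp₁1).2
          have hconj : (p₁.1⁻¹ * p.1) * p.2 * (p₁.1⁻¹ * p.1)⁻¹ = p₁.2 := by
            have : (p₁.1⁻¹ * p.1) * p.2 * (p₁.1⁻¹ * p.1)⁻¹ = p₁.1⁻¹ * (p.1 * p.2 * p.1⁻¹) * p₁.1 := by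
              group
            rw [this, hpb, ← hp₁b]; group
          rw [Subgroup.mem_normalizer_iff]
          intro n
          suffices hgoal : n ∈ Subgroup.centralizer ({p.2} : Set G) ↔
              (p₁.1⁻¹ * p.1) * n * (p₁.1⁻¹ * p.1)⁻¹ ∈ Subgroup.centralizer ({p₁.2} : Set G) by
            rw [hc1, hc2] at hgoal
            exact hgoal
          rw [Subgroup.mem_centralizer_singleton_iff, Subgroup.mem_centralizer_singleton_iff,
            ← hconj]
          constructor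
          · intro h
            have e1 : (p₁.1⁻¹ * p.1) * n * (p₁.1⁻¹ * p.1)⁻¹ *
                ((p₁.1⁻¹ * p.1) * p.2 * (p₁.1⁻¹ * p.1)⁻¹) =
                (p₁.1⁻¹ * p.1) * (n * p.2) * (p₁.1⁻¹ * p.1)⁻¹ := by group
            have e2 : ((p₁.1⁻¹ * p.1) * p.2 * (p₁.1⁻¹ * p.1)⁻¹) *
                ((p₁.1⁻¹ * p.1) * n * (p₁.1⁻¹ * p.1)⁻¹) =
                (p₁.1⁻¹ * p.1) * (p.2 * n) * (p₁.1⁻¹ * p.1)⁻¹ := by group
            rw [e1, e2, h]
          · intro h
            have e1 : n * p.2 = (p₁.1⁻¹ * p.1)⁻¹ * ((p₁.1⁻¹ * p.1) * n * (p₁.1⁻¹ * p.1)⁻¹ *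
                ((p₁.1⁻¹ * p.1) * p.2 * (p₁.1⁻¹ * p.1)⁻¹)) * (p₁.1⁻¹ * p.1) := by group
            have e2 : p.2 * n = (p₁.1⁻¹ * p.1)⁻¹ * (((p₁.1⁻¹ * p.1) * p.2 * (p₁.1⁻¹ * p.1)⁻¹) *
                ((p₁.1⁻¹ * p.1) * n * (p₁.1⁻¹ * p.1)⁻¹)) * (p₁.1⁻¹ * p.1) := by group
            rw [e1, e2, h]
        · intro p hp p' hp' hpp'
          simp only [S, Finset.coe_filter, Finset.mem_product, Finset.mem_univ, true_and,
            Finset.mem_filter, Set.mem_ofPred_eq] at hp hp'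
          have h1 : p.1 = p'.1 := mul_left_cancel hpp'
          have h2 : p.2 = p'.2 := by
            have e : p.2 = p.1⁻¹ * (p.1 * p.2 * p.1⁻¹) * p.1 := by group
            have e' : p'.2 = p'.1⁻¹ * (p'.1 * p'.2 * p'.1⁻¹) * p'.1 := by group
            rw [e, e', hp.2, hp'.2, h1]
          exact Prod.ext h1 h2
      · rw [Finset.not_nonempty_iff_eq_empty] at hne
        rw [hne]; simp
    have h1 := Finset.card_le_mul_card_image_of_maps_to hST _ hfib
    have hScard : S.card = Nat.card G * (2 * k) := by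
      simp only [S, Finset.card_product, Finset.card_univ]
      rw [Nat.card_eq_fintype_card]
      congr 1
      have e : (Finset.univ.filter (fun x : G => x ∈ Q ∧ x ≠ 1)) =
          (Finset.univ.filter (fun x : G => x ∈ Q)).erase 1 := by
        ext x
        simp only [Finset.mem_filter, Finset.mem_univ, true_and, Finset.mem_erase]
        tauto
      rw [e, Finset.card_erase_of_mem (by simp [Q.one_mem])]
      have : (Finset.univ.filter (fun x : G => x ∈ Q)).card = Nat.card Q := by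
        rw [Nat.card_eq_fintype_card, Fintype.card_subtype]
      rw [this, hq]; omega
    have hTcard : T.card = (2 * k + 1) ^ 2 - 1 := by
      rw [← hcard, Nat.card_eq_fintype_card, Fintype.card_subtype]
    rw [hScard, hTcard] at h1
    exact h1
  -- upper bound
  have hEN : E ≤ Subgroup.normalizer (Q : Set G) := by rw [hN]; exact le_sup_right
  have hup : Nat.card ↥(Subgroup.normalizer (Q : Set G)) ≤ (2 * k + 1) * Nat.card E := by
    rw [hN, ← hq]; exact card_sup_le_of_le_normalizer hEN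
  have hEk : Nat.card E ≤ k := by
    rw [← hb.card_K, ← card_map_conj K g]
    exact Subgroup.card_le_of_le hEK
  have hEk' : Nat.card E = k := by
    apply le_antisymm hEk
    have h1 : Nat.card G * (2 * k) ≤ (2 * k + 1) * Nat.card E * ((2 * k + 1) ^ 2 - 1) :=
      hlow.trans (Nat.mul_le_mul_right _ hup)
    rw [hG] at h1
    have h2 : (2 * k + 1) ^ 2 - 1 = 4 * k * (k + 1) := by
      have : (2 * k + 1) ^ 2 = 4 * k * (k + 1) + 1 := by ring
      omega
    rw [h2] at h1
    have h3 : (2 * k * (k + 1) * (2 * k + 1)) * (2 * k) = (4 * k * (k + 1) * (2 * k + 1)) * k := by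
      ring
    have h4 : (2 * k + 1) * Nat.card E * (4 * k * (k + 1)) =
        (4 * k * (k + 1) * (2 * k + 1)) * Nat.card E := by ring
    rw [h3, h4] at h1
    exact Nat.le_of_mul_le_mul_left h1 (by positivity)
  have hEeq : E = K.map (MulAut.conj g).toMonoidHom := by
    apply Subgroup.eq_of_le_of_card_ge hEK
    rw [card_map_conj, hb.card_K, hEk']
  have hE1 : E ≠ ⊥ := by
    intro h
    rw [h] at hEk'
    simp at hEk'
    omega
  have hnorm : ∀ X : Subgroup G, X ≤ E → X ≠ ⊥ →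
      Subgroup.normalizer (X : Set G) = Subgroup.centralizer ({w} : Set G) := by
    intro X hX hX1
    ext y
    rw [normalizer_sub_conjK hb g X (hX.trans hEK) hX1 y, Subgroup.mem_centralizer_singleton_iff,
      hgw]
  refine ⟨Q, E, ?_, fun x hx hx1 => (hQ x hx hx1).2, ?_, ?_, hQE, hN, ?_⟩
  · rw [hq, hG]
    have : 2 * k + 1 - 1 = 2 * k := by omega
    rw [this]; ring
  · refine ⟨⟨fun a b => ?_⟩⟩
    obtain ⟨a', ha', ha⟩ := mem_map_conj.mp (hEK a.2)
    obtain ⟨b', hb', hb2⟩ := mem_map_conj.mp (hEK b.2)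
    apply Subtype.ext
    show (a : G) * b = b * a
    rw [ha, hb2]
    have e1 : g * a' * g⁻¹ * (g * b' * g⁻¹) = g * (a' * b') * g⁻¹ := by group
    have e2 : g * b' * g⁻¹ * (g * a' * g⁻¹) = g * (b' * a') * g⁻¹ := by group
    rw [e1, e2, hb.comm _ ha' _ hb']
  · rw [hEk', hq]
  · intro X hX hX1
    refine ⟨by rw [hnorm X hX hX1, hnorm E le_rfl hE1], g * s * g⁻¹, ?_, ?_, ?_, ?_⟩
    · rw [orderOf_conj']; exact hb.hs
    · intro h
      obtain ⟨a, ha, h2⟩ := mem_map_conj.mp (hEK h)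
      have : s = a := by
        have e : s = g⁻¹ * (g * s * g⁻¹) * g := by group
        rw [e, h2]; group
      exact hb.hsK (this ▸ ha)
    · intro d hd
      obtain ⟨a, ha, rfl⟩ := mem_map_conj.mp (hEK hd)
      have e : g * s * g⁻¹ * (g * a * g⁻¹) * (g * s * g⁻¹)⁻¹ = g * (s * a * s⁻¹) * g⁻¹ := by group
      rw [e, hb.inv a ha]; group
    · rw [hnorm E le_rfl hE1]
      ext y
      rw [Subgroup.mem_centralizer_singleton_iff, ← hgw]
      constructor
      · intro hy
        have hc : (g⁻¹ * y * g) * t = t * (g⁻¹ * y * g) := by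
          have e1 : (g⁻¹ * y * g) * t = g⁻¹ * (y * (g * t * g⁻¹)) * g := by group
          have e2 : t * (g⁻¹ * y * g) = g⁻¹ * ((g * t * g⁻¹) * y) * g := by group
          rw [e1, e2, hy]
        rcases (hb.cent_t _).mp hc with hK | ⟨a', ha', hs⟩
        · apply Subgroup.mem_sup_left
          rw [hEeq]
          exact mem_map_conj.mpr ⟨_, hK, by group⟩
        · have e : y = (g * a' * g⁻¹) * (g * s * g⁻¹) := by
            have : y = g * (g⁻¹ * y * g) * g⁻¹ := by group
            rw [this, hs]; group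
          rw [e]
          apply Subgroup.mul_mem
          · apply Subgroup.mem_sup_left
            rw [hEeq]
            exact mem_map_conj.mpr ⟨_, ha', rfl⟩
          · apply Subgroup.mem_sup_right
            exact Subgroup.mem_zpowers _
      · intro hy
        have hcl : E ⊔ Subgroup.zpowers (g * s * g⁻¹) ≤
            Subgroup.centralizer ({g * t * g⁻¹} : Set G) := by
          apply sup_le
          · intro e he
            obtain ⟨a, ha, rfl⟩ := mem_map_conj.mp (hEK he)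
            rw [Subgroup.mem_centralizer_singleton_iff]
            have e1 : g * a * g⁻¹ * (g * t * g⁻¹) = g * (a * t) * g⁻¹ := by group
            have e2 : g * t * g⁻¹ * (g * a * g⁻¹) = g * (t * a) * g⁻¹ := by group
            rw [e1, e2, hb.comm _ ha _ hb.htK]
          · rw [Subgroup.zpowers_le, Subgroup.mem_centralizer_singleton_iff]
            have hst : s * t = t * s := (hb.cent_t s).mpr (Or.inr ⟨1, K.one_mem, by simp⟩)
            have e1 : g * s * g⁻¹ * (g * t * g⁻¹) = g * (s * t) * g⁻¹ := by group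
            have e2 : g * t * g⁻¹ * (g * s * g⁻¹) = g * (t * s) * g⁻¹ := by group
            rw [e1, e2, hst]
        exact Subgroup.mem_centralizer_singleton_iff.mp (hcl hy)

end Cfsg.Agent.Lib.Helper25.BSWEndM
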