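import Mathlib
import Cfsg.Agent.Lib.Helper25.BSWSpec

/-!
Correction to `BSWSpec.CombB` (found by helper95): the trivial index `o` must have degree one.
-/

set_option autoImplicit false
open Cfsg

namespace Cfsg.Agent.Lib.Helper25.BSWSpec

universe u

/-- P21 (corrected): the combinatorial classification of the vectors `v`, with `d o = 1` -/
def CombB2 : Prop := ∀ (I Φ : Type u) [Fintype I] [Fintype Φ]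
  (ι : Φ → Φ) (e σ : Φ) (o : I) (d : I → ℤ) (v : Φ → I → ℤ),
  (∀ φ, ι (ι φ) = φ) → ι e = e → ι σ = σ → σ ≠ e → (∀ φ, ι φ = φ → φ = e ∨ φ = σ) →
  (∃ φ, ι φ ≠ φ) → (∀ ψ, 0 < d ψ) → d o = 1 →
  (∀ φ φ', φ ≠ e → φ' ≠ e → ∑ ψ, v φ ψ * v φ' ψ =
    (open Classical in if φ = φ' then 1 else 0) +
      (open Classical in if φ = ι φ' then 1 else 0) + 2) →
  (∀ φ, v (ι φ) = v φ) → (∀ φ, φ ≠ e → v φ o = -1) → (∀ φ, φ ≠ e → ∑ ψ, v φ ψ * d ψ = 0) →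
  (∃ (Λ Γ₁ Γ₂ : I) (Θ : Φ → I) (δ ε δ₁ δ₂ : ℤ), ConfigIData ι σ o v Λ Γ₁ Γ₂ Θ δ ε δ₁ δ₂) ∨
  (∃ (φ₀ φ₁ : Φ) (Λ Θ Γ₁ Γ₂ : I) (δ ε δ₁ δ₂ : ℤ),
    ConfigIIData ι e σ o v φ₀ φ₁ Λ Θ Γ₁ Γ₂ δ ε δ₁ δ₂)

end Cfsg.Agent.Lib.Helper25.BSWSpec
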