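import Mathlib
import Cfsg.Agent.Lib.Helper25.BSWSpec
import Cfsg.Agent.Lib.Helper25.BSWSpec2
import Cfsg.Agent.Lib.Helper25.CyclicTI
import Cfsg.Agent.Lib.CT.Wedderburn
import Cfsg.Agent.Lib.CT.Ops
import Cfsg.Agent.Lib.Helper3.Irr

/-!
Assembly of S3282 (Brauer--Suzuki--Wall, abstract form) from the pieces specified in `BSWSpec`.
-/

set_option autoImplicit false
open Cfsg
open scoped ComplexConjugate

namespace Cfsg.Agent.Lib.Helper25.BSWGlue2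

open Cfsg.Agent.Lib.Helper25.BSWSpec

universe u

/-- elements not conjugate into `K` are nontrivial -/
theorem notConjK_ne_one {G : Type u} [Group G] (K : Subgroup G) {z : G} (hz : NotConjK K z) :
    z ≠ 1 := by
  rintro rfl
  exact hz 1 (by simpa using K.one_mem)

/-- the common part: the character `Λ` -/
theorem lam_package (hPK : PairK.{u}) (hIK : IndK.{u}) (hVD : VDataOf.{u}) (hDual : Dual.{u})
    (hInd : Indep.{u}) (hCB : CombB2.{u}) (hC2 : ConfigIIFalse.{u}) (hCN : ConfigINum.{u})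
    (hCF : ConfigIFormula.{u})
    (G : Type u) [Group G] [Finite G] (t : G) (K : Subgroup G) (s : G) (k : ℕ)
    (hb : Basic t K s k) (hk : 4 ≤ k) :
    ∃ (Λ : G → ℂ) (δ : ℤ), IsIrrCharacter G Λ ∧ (δ = 1 ∨ δ = -1) ∧
      Λ 1 = 2 * (k : ℂ) - (δ : ℂ) ∧ (∀ x ∈ K, x ≠ 1 → Λ x = -(δ : ℂ)) ∧
      (Nat.card G : ℤ) = 2 * (k : ℤ) * ((k : ℤ) - δ) * (2 * (k : ℤ) - δ) ∧
      ∀ z : G, NotConjK K z →
        2 * (pairCount t z : ℂ) = 4 * (k : ℂ) ^ 2 *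
          ((2 * (k : ℂ) - (δ : ℂ)) * (1 - (δ : ℂ)) + (2 * (k : ℂ) - 1 - (δ : ℂ)) * conj (Λ z)) := by
  classical
  haveI : Fintype G := Fintype.ofFinite G
  haveI : Finite (IrrCharacter G) := Cfsg.Agent.Lib.CT.Wedderburn.finite_irrCharacter G
  haveI : Fintype (IrrCharacter G) := Fintype.ofFinite _
  haveI : Finite (↥K →* ℂˣ) := Cfsg.Agent.Lib.Helper25.CyclicTI.finite_hom_sub K hb.comm
  haveI : Fintype (↥K →* ℂˣ) := Fintype.ofFinite _
  obtain ⟨v, hv⟩ := hVD hIK G t K s k hb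
  obtain ⟨-, -, ⟨φ₀, hφ₀⟩, σ, hσ1, hσinv, hσu⟩ := hDual G t K s k hb hk
  let o : IrrCharacter G := ⟨fun _ => 1, Cfsg.Agent.Lib.CT.Ops.isIrrCharacter_one⟩
  have ho : ∀ g : G, o.1 g = 1 := fun _ => rfl
  choose d hdpos hd using fun ψ : IrrCharacter G =>
    Cfsg.Agent.Lib.Helper3.Irr.IsIrrCharacter.exists_apply_one_pos ψ.2
  have hdeg : ∀ φ : ↥K →* ℂˣ, φ ≠ 1 → ∑ ψ : IrrCharacter G, v φ ψ * (d ψ : ℤ) = 0 := by
    intro φ _
    have h1 := hv.deg φ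
    have h2 : ∑ ψ : IrrCharacter G, (v φ ψ : ℂ) * ψ.1 1
        = ((∑ ψ : IrrCharacter G, v φ ψ * (d ψ : ℤ) : ℤ) : ℂ) := by
      push_cast
      refine Finset.sum_congr rfl (fun ψ _ => ?_)
      rw [hd ψ]
    rw [h2] at h1
    exact_mod_cast h1
  have hcomb := hCB (IrrCharacter G) (↥K →* ℂˣ) (fun φ => φ⁻¹) 1 σ o (fun ψ => (d ψ : ℤ)) v
    (fun φ => inv_inv φ) (MonoidHom.ext fun x => by simp) hσinv hσ1 hσu ⟨φ₀, hφ₀⟩
    (fun ψ => by exact_mod_cast hdpos ψ)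
    (by
      have h1 := hd o
      have h2 : o.1 1 = 1 := ho 1
      rw [h2] at h1
      exact_mod_cast h1.symm)
    (fun φ φ' h1 h2 => hv.gram φ φ' h1 h2)
    (fun φ => hv.inv φ) (fun φ h1 => hv.triv o ho φ h1) hdeg
  rcases hcomb with ⟨Λ, Γ₁, Γ₂, Θ, δ, ε, δ₁, δ₂, hI⟩ | ⟨φa, φb, Λ, Θ, Γ₁, Γ₂, δ, ε, δ₁, δ₂, hII⟩
  · obtain ⟨e1, e2, e3, e4, e5, e6, e7, e8⟩ := hCN hPK hInd hDual G t K s k v σ o hb hk hv ho
      hσ1 hσinv hσu Λ Γ₁ Γ₂ Θ δ ε δ₁ δ₂ hI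
    obtain ⟨f1, f2⟩ := hCF hDual G t K s k v σ o hb hk hv ho hσ1 hσinv hσu Λ Γ₁ Γ₂ Θ δ ε δ₁ δ₂ hI
      e1 e2 e3 e4 e5 e6 e7 e8
    exact ⟨Λ.1, δ, Λ.2, hI.hδ, e4, f1, e8, f2⟩
  · exact absurd (hC2 hPK hInd hDual G t K s k v σ o hb hk hv ho hσ1 hσinv hσu
      φa φb Λ Θ Γ₁ Γ₂ δ ε δ₁ δ₂ hII) id

/-- the assembly -/
theorem main (hBasic : BasicOf.{u}) (hTwo : CaseTwo.{u}) (hPK : PairK.{u}) (hPI : PairInv.{u})
    (hCC : CardConj.{u}) (hR1 : RealStruct1.{u}) (hR2 : RealStruct2.{u}) (hCM : CountM.{u})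
    (hCP : CountP.{u}) (hEM : EndM.{u}) (hNRA : NRA.{u}) (hPL : PartitionLemma.{u})
    (hPC : PClosed.{u}) (hST : SylowTI.{u}) (hNRB : NRB.{u}) (hEP : EndP.{u}) (hIK : IndK.{u})
    (hVD : VDataOf.{u}) (hDual : Dual.{u}) (hInd : Indep.{u}) (hCB : CombB2.{u})
    (hC2 : ConfigIIFalse.{u}) (hCN : ConfigINum.{u}) (hCF : ConfigIFormula.{u})
    (G : Type u) [Group G] [Finite G] (t : G) (K : Subgroup G) (s : G) (h : BSW t K s) :
    Conclusion G := by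
  classical
  have hb := hBasic G t K s h
  obtain ⟨k, hkdef⟩ : ∃ k : ℕ, k = Nat.card K := ⟨_, rfl⟩
  rw [← hkdef] at hb
  have hk2 : 2 ∣ k := hb.two_dvd
  have hkpos : 0 < k := by rw [hkdef]; exact Nat.card_pos
  by_cases hk : k = 2
  · exact hTwo G t K s h (by rw [← hkdef, hk])
  have hk4 : 4 ≤ k := by omega
  obtain ⟨Λ, δ, hΛ, hδ, hΛ1, hΛK, hG, hform⟩ :=
    lam_package hPK hIK hVD hDual hInd hCB hC2 hCN hCF G t K s k hb hk4
  have hcf : IsClassFunction G Λ := Cfsg.Agent.Lib.Helper3.Irr.IsIrrCharacter.isClassFunction hΛ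
  have hkC : (k : ℂ) ≠ 0 := by exact_mod_cast hkpos.ne'
  -- the set of nontrivial elements conjugate into `K`
  obtain ⟨U, hU⟩ : ∃ U : Set G, U = {z : G | z ≠ 1 ∧ ¬ NotConjK K z} := ⟨_, rfl⟩
  have hU1 : (1 : G) ∉ U := by rw [hU]; exact fun h => h.1 rfl
  have hUcard : Nat.card U * (2 * k) = Nat.card G * (k - 1) := by
    rw [hU]; exact hCC G t K s k hb
  have hUmem : ∀ z : G, z ∉ U → z ≠ 1 → NotConjK K z := by
    intro z hz hz1
    by_contra hn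
    exact hz (by rw [hU]; exact ⟨hz1, hn⟩)
  have hmemU : ∀ z : G, NotConjK K z → z ∉ U ∧ z ≠ 1 := by
    intro z hz
    refine ⟨?_, notConjK_ne_one K hz⟩
    rw [hU]; exact fun h => h.2 hz
  have hΛU : ∀ z ∈ U, Λ z = -(δ : ℂ) := by
    intro z hz
    rw [hU] at hz
    have hz2 := hz.2
    unfold NotConjK at hz2
    obtain ⟨g, hg⟩ := not_forall.mp hz2
    replace hg := not_not.mp hg
    have h1 : g * z * g⁻¹ ≠ 1 := by
      intro h1
      apply hz.1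
      have : z = g⁻¹ * (g * z * g⁻¹) * g := by group
      rw [this, h1]; group
    rw [← hcf z g]
    exact hΛK _ hg h1
  have hpair : ∀ z : G, NotConjK K z →
      2 * (4 * (k : ℂ) ^ 2 * (aInv z : ℂ)) = 4 * (k : ℂ) ^ 2 *
        ((2 * (k : ℂ) - (δ : ℂ)) * (1 - (δ : ℂ)) + (2 * (k : ℂ) - 1 - (δ : ℂ)) * conj (Λ z)) := by
    intro z hz
    rw [← hform z hz, hPI G t K s k hb z hz]
    push_cast
    rfl
  rcases hδ with rfl | rfl
  · -- `q = 2k - 1`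
    have hG' : Nat.card G = 2 * k * (k - 1) * (2 * k - 1) := by
      zify [show 1 ≤ k by omega, show 1 ≤ 2 * k by omega]
      linear_combination hG
    have hΛ1' : Λ 1 = 2 * (k : ℂ) - 1 := by rw [hΛ1]; push_cast; ring
    have hΛU' : ∀ z ∈ U, Λ z = -1 := by
      intro z hz; rw [hΛU z hz]; push_cast; ring
    have ha : ∀ z : G, z ∉ U → z ≠ 1 → (aInv z : ℂ) = ((k : ℂ) - 1) * conj (Λ z) := by
      intro z hz hz1
      have h1 := hpair z (hUmem z hz hz1)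
      push_cast at h1
      have h2 : (4 * (k : ℂ) ^ 2) ≠ 0 := mul_ne_zero (by norm_num) (pow_ne_zero 2 hkC)
      have h3 : 4 * (k : ℂ) ^ 2 * (2 * (aInv z : ℂ)) =
          4 * (k : ℂ) ^ 2 * (2 * (((k : ℂ) - 1) * conj (Λ z))) := by
        rw [show 4 * (k : ℂ) ^ 2 * (2 * (aInv z : ℂ)) = 2 * (4 * (k : ℂ) ^ 2 * (aInv z : ℂ)) by ring,
          h1]
        ring
      have h4 := mul_left_cancel₀ h2 h3
      exact mul_left_cancel₀ (two_ne_zero) h4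
    obtain ⟨c1, c2, c3⟩ := hCP G Λ U (fun z => aInv z) k hk4 hΛ hU1 hUcard hG' hΛ1' hΛU' ha
    have H1 : ∀ z : G, NotConjK K z → aInv z = 0 ∨ aInv z = k - 1 := by
      intro z hz
      exact c1 z (hmemU z hz).1 (hmemU z hz).2
    have H2 : Nat.card {z : G // NotConjK K z ∧ aInv z = 0} = (2 * k - 1) ^ 2 - 1 := by
      rw [← c2]
      apply Nat.card_congr
      apply Equiv.subtypeEquivRight
      intro z
      constructor
      · rintro ⟨h1, h2⟩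
        exact ⟨(hmemU z h1).1, (hmemU z h1).2, h2⟩
      · rintro ⟨h1, h2, h3⟩
        exact ⟨hUmem z h1 h2, h3⟩
    have H3 : ∃ z : G, NotConjK K z ∧ aInv z = k - 1 := by
      obtain ⟨z, h1, h2, h3⟩ := c3
      exact ⟨z, hUmem z h1 h2, h3⟩
    obtain ⟨p, hp, hpb, hiff, hord, hcent⟩ := hNRA hR1 hR2 G t K s k hb hk4 hG' H1 H2 H3
    have hTI := hNRB hR1 hR2 hPC hST G t K s k hb hk4 H1 p hp hpb hiff hord
    exact hEP hR1 hR2 hPL G t K s k hb hk4 hG' H1 H2 p hp hpb hiff hord hcent hTI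
  · -- `q = 2k + 1`
    have hG' : Nat.card G = 2 * k * (k + 1) * (2 * k + 1) := by
      zify
      linear_combination hG
    have hΛ1' : Λ 1 = 2 * (k : ℂ) + 1 := by rw [hΛ1]; push_cast; ring
    have hΛU' : ∀ z ∈ U, Λ z = 1 := by
      intro z hz; rw [hΛU z hz]; push_cast; ring
    have ha : ∀ z : G, z ∉ U → z ≠ 1 →
        (aInv z : ℂ) = (2 * (k : ℂ) + 1) + (k : ℂ) * conj (Λ z) := by
      intro z hz hz1
      have h1 := hpair z (hUmem z hz hz1)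
      push_cast at h1
      have h2 : (4 * (k : ℂ) ^ 2) ≠ 0 := mul_ne_zero (by norm_num) (pow_ne_zero 2 hkC)
      have h3 : 4 * (k : ℂ) ^ 2 * (2 * (aInv z : ℂ)) =
          4 * (k : ℂ) ^ 2 * (2 * ((2 * (k : ℂ) + 1) + (k : ℂ) * conj (Λ z))) := by
        rw [show 4 * (k : ℂ) ^ 2 * (2 * (aInv z : ℂ)) = 2 * (4 * (k : ℂ) ^ 2 * (aInv z : ℂ)) by ring,
          h1]
        ring
      have h4 := mul_left_cancel₀ h2 h3
      exact mul_left_cancel₀ (two_ne_zero) h4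
    obtain ⟨c1, c2⟩ := hCM G Λ U (fun z => aInv z) k hk4 hΛ hU1 hUcard hG' hΛ1' hΛU' ha
    have H2 : Nat.card {z : G // NotConjK K z ∧ aInv z = 2 * k + 1} = (2 * k + 1) ^ 2 - 1 := by
      rw [← c2]
      apply Nat.card_congr
      apply Equiv.subtypeEquivRight
      intro z
      constructor
      · rintro ⟨h1, h2⟩
        exact ⟨(hmemU z h1).1, (hmemU z h1).2, h2⟩
      · rintro ⟨h1, h2, h3⟩
        exact ⟨hUmem z h1 h2, h3⟩
    have H3 : ∃ z : G, NotConjK K z ∧ aInv z = 2 * k + 1 := by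
      have hpos : 0 < Nat.card {z : G // NotConjK K z ∧ aInv z = 2 * k + 1} := by
        rw [H2]
        have : 1 < (2 * k + 1) ^ 2 := by nlinarith
        omega
      obtain ⟨⟨z, hz⟩⟩ := (Nat.card_pos_iff.mp hpos).1
      exact ⟨z, hz⟩
    exact hEM hR1 hR2 G t K s k hb hk4 hG' H3 H2

end Cfsg.Agent.Lib.Helper25.BSWGlue2
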